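import Mathlib
import Cfsg.Agent.Chev.TwG2
import Cfsg.Agent.Chev.SL2

/-! Computations in the Chevalley group of type `G₂` in characteristic three. -/

set_option autoImplicit false
set_option linter.unusedSectionVars false
set_option maxHeartbeats 400000
set_option maxRecDepth 100000

namespace Cfsg.Agent.Ree
open Cfsg.Lie Cfsg.Agent.Chev Cfsg.Agent.Chev.StSys Cfsg.Agent.Chev.Tw Matrix
open scoped MatrixGroups

attribute [local instance] good2G2

variable {K : Type*} [Field K]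

theorem prod_law {G : Type*} [Group G] {xa xb xc xd xe xf : K → G} (h : G2Rel xa xb xc xd xe xf)
    (adda : ∀ t u, xa (t + u) = xa t * xa u) (addb : ∀ t u, xb (t + u) = xb t * xb u)
    (ac : ∀ t u, xc u * xa t = xa t * xc u * xd (-(t * u)))
    (ad : ∀ t u, Commute (xa t) (xd u)) (ae : ∀ t u, Commute (xa t) (xe u))
    (af : ∀ t u, Commute (xa t) (xf u)) (bc : ∀ t u, Commute (xb t) (xc u))
    (bd : ∀ t u, Commute (xb t) (xd u)) (bf : ∀ t u, Commute (xb t) (xf u))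
    (be : ∀ t u, xe u * xb t = xb t * xe u * xf (-(t * u))) (s t c d u v s' t' c' d' u' v' : K) :
    xa s * (xb t * (xc c * (xd d * (xe u * xf v)))) * (xa s' * (xb t' * (xc c' * (xd d' * (xe u' * xf v'))))) =
    xa (s + s') * (xb (t + t') * (xc (s' * t + c + c') * (xd (s' ^ 2 * t + -(s' * c) + d + d') *
      (xe (-(s' ^ 3 * t) + u + u') * xf (-(s' ^ 3 * t ^ 2) + v + -(t' * (-(s' ^ 3 * t) + u)) + v'))))) := by
  have a1 : ∀ t u (y : G), xd u * (xc t * y) = xc t * (xd u * y) := fun t u y =>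
    (h.cd t u).symm.left_comm y
  have a2 : ∀ t u (y : G), xe u * (xc t * y) = xc t * (xe u * y) := fun t u y =>
    (h.ce t u).symm.left_comm y
  have a3 : ∀ t u (y : G), xf u * (xc t * y) = xc t * (xf u * y) := fun t u y =>
    (h.cf t u).symm.left_comm y
  have a4 : ∀ t u (y : G), xe u * (xd t * y) = xd t * (xe u * y) := fun t u y =>
    (h.de t u).symm.left_comm y
  have a5 : ∀ t u (y : G), xf u * (xd t * y) = xd t * (xf u * y) := fun t u y =>
    (h.df t u).symm.left_comm y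
  have a6 : ∀ t u (y : G), xf u * (xe t * y) = xe t * (xf u * y) := fun t u y =>
    (h.ef t u).symm.left_comm y
  have b1 : ∀ t u (y : G), xd u * (xa t * y) = xa t * (xd u * y) := fun t u y =>
    (ad t u).symm.left_comm y
  have b2 : ∀ t u (y : G), xe u * (xa t * y) = xa t * (xe u * y) := fun t u y =>
    (ae t u).symm.left_comm y
  have b3 : ∀ t u (y : G), xf u * (xa t * y) = xa t * (xf u * y) := fun t u y =>
    (af t u).symm.left_comm y
  have b4 : ∀ t u (y : G), xc u * (xb t * y) = xb t * (xc u * y) := fun t u y =>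
    (bc t u).symm.left_comm y
  have b5 : ∀ t u (y : G), xd u * (xb t * y) = xb t * (xd u * y) := fun t u y =>
    (bd t u).symm.left_comm y
  have b6 : ∀ t u (y : G), xf u * (xb t * y) = xb t * (xf u * y) := fun t u y =>
    (bf t u).symm.left_comm y
  have c1 : ∀ t u (y : G), xc u * (xa t * y) = xa t * (xc u * (xd (-(t * u)) * y)) := fun t u y => by
    rw [← mul_assoc, ac, mul_assoc, mul_assoc]
  have c2 : ∀ t u (y : G), xb u * (xa t * y) = xa t * (xb u * (xc (t * u) * (xd (t ^ 2 * u) *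
      (xe (-(t ^ 3 * u)) * (xf (-(t ^ 3 * u ^ 2)) * y))))) := fun t u y => by
    rw [← mul_assoc, h.comm]; simp only [mul_assoc]
  have c3 : ∀ t u (y : G), xe u * (xb t * y) = xb t * (xe u * (xf (-(t * u)) * y)) := fun t u y => by
    rw [← mul_assoc, be, mul_assoc, mul_assoc]
  have d1 : ∀ t u (y : G), xc t * (xc u * y) = xc (t + u) * y := fun t u y => by
    rw [h.addc, mul_assoc]
  have d2 : ∀ t u (y : G), xd t * (xd u * y) = xd (t + u) * y := fun t u y => by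
    rw [h.addd, mul_assoc]
  have d3 : ∀ t u (y : G), xe t * (xe u * y) = xe (t + u) * y := fun t u y => by
    rw [h.adde, mul_assoc]
  have d4 : ∀ t u (y : G), xf t * (xf u * y) = xf (t + u) * y := fun t u y => by
    rw [h.addf, mul_assoc]
  rw [adda, addb, ← mul_one (xf v'), ← mul_one (xf (_ + v'))]
  simp only [mul_assoc]
  rw [b3, b2, b1, c1, c2]
  congr 3
  rw [a3, a2, a1, d1, a5, a4, d2, a5, a4, d2, a6, d3, d4, b6, c3, b5, b4]
  congr 1
  rw [a3, a3, a2, a1, d1, a5, a5, a4, d2, a6, a6, d3, d4, d4]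
  congr 5
  ring

theorem uG2_mul [CharP K 3] (s t c d u v s' t' c' d' u' v' : K) :
    uG2 s t c d u v * uG2 s' t' c' d' u' v' = uG2 (s + s') (t + t') (s' * t + c + c')
      (s' ^ 2 * t + -(s' * c) + d + d') (-(s' ^ 3 * t) + u + u')
      (-(s' ^ 3 * t ^ 2) + v + -(t' * (-(s' ^ 3 * t) + u)) + v') := by
  have h3 : (3 : K) = 0 := CharP.cast_eq_zero K 3
  refine prod_law (g2Rel_pos (glSys chevG2 K)) (StSys.add _ _) (StSys.add _ _) (fun t u => ?_)
    (commuteP _ 3 (by decide +kernel)) (commuteP _ 3 (by decide +kernel))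
    (commuteP _ 3 (by decide +kernel)) (commuteP _ 3 (by decide +kernel))
    (commuteP _ 3 (by decide +kernel)) (commuteP _ 3 (by decide +kernel)) (fun t u => ?_)
    s t c d u v s' t' c' d' u' v'
  · rw [(glSys chevG2 K).comm_of (l := [((rG2 9 : ℕ), -2, 1, 1), ((rG2 10 : ℕ), -3, 2, 1),
      ((rG2 11 : ℕ), 3, 1, 2)]) (by decide +kernel)]
    simp only [List.map_cons, List.map_nil, wd_cons, wd_nil, mul_one]
    push_cast
    rw [h3, neg_zero, zero_mul, zero_mul, zero_mul, zero_mul, StSys.x_zero, StSys.x_zero, mul_one, mul_one]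
    congr 2
    linear_combination (t * u) * h3
  · rw [(glSys chevG2 K).comm_of (l := [((rG2 11 : ℕ), 1, 1, 1)]) (by decide +kernel)]
    simp only [List.map_cons, List.map_nil, wd_cons, wd_nil, mul_one]
    congr 2
    push_cast; ring

/-- the elements of the diagonal subgroup -/
noncomputable def hh (a b : K) : GL chevG2.Idx K :=
  (glSys chevG2 K).h (rG2 7) a * (glSys chevG2 K).h (rG2 6) b

theorem hh_val {a b : K} (ha : a ≠ 0) (hb : b ≠ 0) : (hh a b : Matrix chevG2.Idx chevG2.Idx K) =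
    dg fun s => a ^ pr (rG2 7) s * b ^ pr (rG2 6) s := by
  rw [hh, Units.val_mul, gl_h_val, gl_h_val, hMat_eq_dg _ ha, hMat_eq_dg _ hb, dg_mul]

theorem hh_mul {a b a' b' : K} (ha : a ≠ 0) (hb : b ≠ 0) (ha' : a' ≠ 0) (hb' : b' ≠ 0) :
    hh (a * a') (b * b') = hh a b * hh a' b' := Units.ext (by
  rw [Units.val_mul, hh_val ha hb, hh_val ha' hb', hh_val (mul_ne_zero ha ha') (mul_ne_zero hb hb'),
    dg_mul]
  congr 1; ext s
  rw [mul_zpow, mul_zpow]; ring)

theorem h_mul_h {a b : K} (ha : a ≠ 0) (hb : b ≠ 0) :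
    (glSys chevG2 K).h (rG2 8) a * (glSys chevG2 K).h (rG2 10) b = hh (a * b) (a ^ 3 * b) := Units.ext (by
  rw [Units.val_mul, gl_h_val, gl_h_val, hMat_eq_dg _ ha, hMat_eq_dg _ hb, dg_mul,
    hh_val (mul_ne_zero ha hb) (mul_ne_zero (pow_ne_zero _ ha) hb)]
  congr 1; ext s
  have e : ∀ s : Rt chevG2, pr (rG2 8) s = pr (rG2 7) s + 3 * pr (rG2 6) s ∧
    pr (rG2 10) s = pr (rG2 7) s + pr (rG2 6) s := by decide +kernel
  rw [(e s).1, (e s).2, mul_zpow, mul_zpow, zpow_add₀ ha, zpow_add₀ hb, _root_.zpow_mul]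
  norm_cast; ring)

theorem hT_eq (c : Ix chevG2 → Kˣ) :
    (gl_R3 (D := chevG2) (F := K)).hT c = hh (c (nG2 0) : K) (c (nG2 1)) := by
  have e : c = Pi.mulSingle (nG2 0) (c (nG2 0)) * Pi.mulSingle (nG2 1) (c (nG2 1)) := by
    ext1 i
    fin_cases i <;> simp [Pi.mulSingle_apply, Fin.ext_iff] <;> rfl
  conv_lhs => rw [e]
  rw [map_mul, R3.hT_mulSingle, R3.hT_mulSingle]
  rfl

theorem hh_conj {a b : K} (ha : a ≠ 0) (hb : b ≠ 0) (s t c d u v : K) :
    hh a b * uG2 s t c d u v * (hh a b)⁻¹ = uG2 (a ^ 2 / b * s) (b ^ 2 / a ^ 3 * t) (b / a * c) (a * d)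
      (a ^ 3 / b * u) (b * v) := by
  have key := (glSys chevG2 K).conj_hh (rG2 7) (rG2 6) ha hb
  rw [← hh] at key
  have e : ∀ (z x y : GL chevG2.Idx K), z * (x * y) * z⁻¹ = z * x * z⁻¹ * (z * y * z⁻¹) := by
    intros; group
  rw [uG2, uG2, e, e, e, e, e, key, key, key, key, key, key,
    show pr (rG2 7) (rG2 7) = 2 by decide +kernel, show pr (rG2 6) (rG2 7) = -1 by decide +kernel,
    show pr (rG2 7) (rG2 6) = -3 by decide +kernel, show pr (rG2 6) (rG2 6) = 2 by decide +kernel,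
    show pr (rG2 7) (rG2 8) = -1 by decide +kernel, show pr (rG2 6) (rG2 8) = 1 by decide +kernel,
    show pr (rG2 7) (rG2 9) = 1 by decide +kernel, show pr (rG2 6) (rG2 9) = 0 by decide +kernel,
    show pr (rG2 7) (rG2 10) = 3 by decide +kernel, show pr (rG2 6) (rG2 10) = -1 by decide +kernel,
    show pr (rG2 7) (rG2 11) = 0 by decide +kernel, show pr (rG2 6) (rG2 11) = 1 by decide +kernel]
  simp only [_root_.zpow_neg, zpow_ofNat, pow_one, pow_zero, mul_one, one_mul, div_eq_mul_inv, mul_comm b,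
    mul_comm (b ^ 2)]

/-- the involution interchanging the two base points -/
noncomputable def tt (K : Type*) [Field K] : GL chevG2.Idx K :=
  (glSys chevG2 K).n (rG2 8) 1 * (glSys chevG2 K).n (rG2 10) 1

theorem tt_mem_N : tt K ∈ (glSys chevG2 K).N :=
  mul_mem (n_mem_N _ _ one_ne_zero) (n_mem_N _ _ one_ne_zero)

theorem tt_mono : (glSys chevG2 K).Mono (tt K) (w0 Set.univ) := by
  have h := ((glSys chevG2 K).mono_n (rG2 8) one_ne_zero).mul ((glSys chevG2 K).mono_n (rG2 10) one_ne_zero)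
  have e : rW (rG2 8) * rW (rG2 10) = w0 Set.univ := by
    refine eq_of_smul_eq_smul (α := Rt chevG2) fun s => ?_
    rw [w0_G2]
    apply co_inj
    rw [mul_smul, co_rW, co_rW, co_ng, pr_eq (rG2 8) (rW _ • s), co_rW, map_sub, map_smul, ← pr_eq, ← pr_eq]
    revert s; decide +kernel
  rwa [e] at h

theorem word1 [CharP K 3] : uG2 1 1 1 1 0 0 * tt K * uG2 (-1) (-1) 1 (-1) 0 0 * hh (-1) (-1) =
    tt K * (uG2 1 1 1 1 0 0 * tt K * uG2 (-1) (-1) 1 (-1) 0 0) := by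
  have := int_words_eq (F := K) 3 (l1 := [(rG2 7, 1), (rG2 6, 1), (rG2 8, 1), (rG2 9, 1),
    (rG2 8, 1), (ng (rG2 8), -1), (rG2 8, 1), (rG2 10, 1), (ng (rG2 10), -1), (rG2 10, 1),
    (rG2 7, -1), (rG2 6, -1), (rG2 8, 1), (rG2 9, -1),
    (rG2 7, -1), (ng (rG2 7), 1), (rG2 7, -1), (rG2 7, -1),
    (ng (rG2 7), 1), (rG2 7, -1), (rG2 6, -1), (ng (rG2 6), 1), (rG2 6, -1), (rG2 6, -1),
    (ng (rG2 6), 1), (rG2 6, -1)])
    (l2 := [(rG2 8, 1), (ng (rG2 8), -1), (rG2 8, 1), (rG2 10, 1), (ng (rG2 10), -1), (rG2 10, 1),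
      (rG2 7, 1), (rG2 6, 1), (rG2 8, 1), (rG2 9, 1),
      (rG2 8, 1), (ng (rG2 8), -1), (rG2 8, 1), (rG2 10, 1), (ng (rG2 10), -1), (rG2 10, 1),
      (rG2 7, -1), (rG2 6, -1), (rG2 8, 1), (rG2 9, -1)]) (by decide +kernel)
  simpa [-glSys_x, uG2, hh, tt, StSys.h, StSys.n, mul_assoc] using this

theorem word2 [CharP K 3] : uG2 1 1 1 0 0 (-1) * tt K * uG2 0 0 0 1 0 1 * hh (-1) (-1) =
    hh (-1) (-1) * tt K * (uG2 1 1 1 0 0 (-1) * tt K * uG2 0 0 0 1 0 1) := by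
  have := int_words_eq (F := K) 3 (l1 := [(rG2 7, 1), (rG2 6, 1), (rG2 8, 1), (rG2 11, -1),
    (rG2 8, 1), (ng (rG2 8), -1), (rG2 8, 1), (rG2 10, 1), (ng (rG2 10), -1), (rG2 10, 1),
    (rG2 9, 1), (rG2 11, 1),
    (rG2 7, -1), (ng (rG2 7), 1), (rG2 7, -1), (rG2 7, -1),
    (ng (rG2 7), 1), (rG2 7, -1), (rG2 6, -1), (ng (rG2 6), 1), (rG2 6, -1), (rG2 6, -1),
    (ng (rG2 6), 1), (rG2 6, -1)])
    (l2 := [(rG2 7, -1), (ng (rG2 7), 1), (rG2 7, -1), (rG2 7, -1),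
      (ng (rG2 7), 1), (rG2 7, -1), (rG2 6, -1), (ng (rG2 6), 1), (rG2 6, -1), (rG2 6, -1),
      (ng (rG2 6), 1), (rG2 6, -1),
      (rG2 8, 1), (ng (rG2 8), -1), (rG2 8, 1), (rG2 10, 1), (ng (rG2 10), -1), (rG2 10, 1),
      (rG2 7, 1), (rG2 6, 1), (rG2 8, 1), (rG2 11, -1),
      (rG2 8, 1), (ng (rG2 8), -1), (rG2 8, 1), (rG2 10, 1), (ng (rG2 10), -1), (rG2 10, 1),
      (rG2 9, 1), (rG2 11, 1)]) (by decide +kernel)
  simpa [-glSys_x, uG2, hh, tt, StSys.h, StSys.n, mul_assoc] using this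

end Cfsg.Agent.Ree
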