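import Mathlib
import Cfsg.Agent.Ree.Lie1

/-! The seven-dimensional representation of `G₂` in characteristic three. -/

set_option autoImplicit false
set_option linter.unusedSectionVars false
set_option maxHeartbeats 400000
set_option maxRecDepth 100000

namespace Cfsg.Agent.Ree
open Cfsg.Lie Cfsg.Agent.Chev Cfsg.Agent.Chev.StSys Cfsg.Agent.Chev.Tw Matrix
open scoped MatrixGroups

attribute [local instance] good2G2

variable {K : Type*} [Field K]

/-- the basis vectors that span the ideal of the short roots -/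
def JJ : Fin 7 → chevG2.Idx :=
  ![.inr (rG2 9), .inr (rG2 8), .inr (rG2 7), .inl (nG2 0), .inr (rG2 4), .inr (rG2 3), .inr (rG2 2)]

/-- the numbers of these basis vectors -/
def JN : Fin 7 → ℕ := ![11, 10, 9, 0, 6, 5, 4]

theorem JJ_inj : Function.Injective JJ := by decide +kernel

theorem bv_JN (k : Fin 7) : bv chevG2 K (JN k) = Pi.single (JJ k) 1 := by
  fin_cases k
  exacts [(bv_add 9).trans (eV_eq (rG2 9)), (bv_add 8).trans (eV_eq (rG2 8)),
    (bv_add 7).trans (eV_eq (rG2 7)), (bv_ix (nG2 0)).trans (hV_single _),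
    (bv_add 4).trans (eV_eq (rG2 4)), (bv_add 3).trans (eV_eq (rG2 3)), (bv_add 2).trans (eV_eq (rG2 2))]

/-- the matrices that leave the ideal invariant -/
def Inv7 (K : Type*) [Field K] : Submonoid (Matrix chevG2.Idx chevG2.Idx K) where
  carrier := {A | ∀ l, l ∉ Set.range JJ → ∀ k, A l (JJ k) = 0}
  one_mem' l hl k := one_apply_ne fun e => hl ⟨k, e.symm⟩
  mul_mem' {A B} hA hB l hl k := by
    rw [mul_apply]
    refine Finset.sum_eq_zero fun j _ => ?_
    by_cases hj : j ∈ Set.range JJ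
    · obtain ⟨j, rfl⟩ := hj
      rw [hA l hl, zero_mul]
    · rw [hB j hj, mul_zero]

/-- the restriction to the ideal -/
def res7 : Inv7 K →* Matrix (Fin 7) (Fin 7) K where
  toFun A := A.1.submatrix JJ JJ
  map_one' := submatrix_one _ JJ_inj
  map_mul' A B := by
    ext i k
    rw [submatrix_apply, Submonoid.coe_mul, mul_apply, mul_apply]
    symm
    refine Finset.sum_of_injOn JJ JJ_inj.injOn (fun _ _ => by simp) (fun j _ hj => ?_) fun _ _ => rfl
    rw [B.2 j (by simpa using hj), mul_zero]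

theorem evC_apply [CharP K 3] (τ : K) {L : List (ℕ × ℕ × ℤ)}
    (h : ∀ q ∈ L, (∃ k, q.1 = JN k) ∨ q.2.2 % 3 = 0) {l : chevG2.Idx} (hl : l ∉ Set.range JJ) :
    evC (D := chevG2) τ L l = 0 := by
  induction L with
  | nil => rfl
  | cons q L ih =>
    have := ih fun q hq => h q (List.mem_cons_of_mem _ hq)
    rw [evC] at this ⊢
    rw [List.map_cons, List.sum_cons, Pi.add_apply, this, add_zero, Pi.smul_apply, smul_eq_mul]
    rcases h q List.mem_cons_self with ⟨k, hk⟩ | hk
    · rw [hk, bv_JN, Pi.single_eq_of_ne fun e => hl ⟨k, e.symm⟩, mul_zero]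
    · rw [(CharP.intCast_eq_zero_iff K 3 _).mpr (Int.dvd_of_emod_eq_zero hk), zero_mul, zero_mul]

theorem x_mem_Inv7 [CharP K 3] (r : Rt chevG2) (t : K) : chevG2.x K r t ∈ Inv7 K := fun l hl k => by
  have h := congrFun (colT_spec r t (JN k)) l
  rw [Pi.add_apply, evC_apply t (by clear h; revert r k; decide +kernel) hl, bv_JN, mulVec_single_one,
    Pi.single_eq_of_ne fun e => hl ⟨k, e.symm⟩, add_zero] at h
  exact h

theorem mem_Inv7 [CharP K 3] {g : GL chevG2.Idx K} (hg : g ∈ (glSys chevG2 K).grp) :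
    (g : Matrix chevG2.Idx chevG2.Idx K) ∈ Inv7 K := by
  induction hg using (glSys chevG2 K).XS_ind with
  | h1 => exact one_mem _
  | hs r _ t a _ ih => exact mul_mem (x_mem_Inv7 r t) ih

/-- the seven-dimensional representation -/
def rho7 [CharP K 3] {R : Subgroup (GL chevG2.Idx K)} (hR : R ≤ (glSys chevG2 K).grp) :
    R →* Matrix (Fin 7) (Fin 7) K :=
  res7.comp (((Units.coeHom _).comp R.subtype).codRestrict _ fun g => mem_Inv7 (hR g.2))

theorem rho7_apply [CharP K 3] {R : Subgroup (GL chevG2.Idx K)} (hR : R ≤ (glSys chevG2 K).grp) (g : R) :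
    rho7 hR g = ((g : GL chevG2.Idx K) : Matrix chevG2.Idx chevG2.Idx K).submatrix JJ JJ := rfl

theorem exists_phi (θ : K →+* K) : ∃ φ : SL(2, K) →* GL chevG2.Idx K,
    (∀ t, φ (slU t) = (glSys chevG2 K).x (rG2 8) (θ t) * (glSys chevG2 K).x (rG2 10) t) ∧
    (∀ t, φ (slL t) = (glSys chevG2 K).x (rG2 3) (θ t) * (glSys chevG2 K).x (rG2 1) t) ∧
    (∀ t ht, φ (slH t ht) = (glSys chevG2 K).h (rG2 8) (θ t) * (glSys chevG2 K).h (rG2 10) t) ∧
    φ slW = tt K := by
  obtain ⟨φ, a1, a2, a3, a4⟩ := (gl_R3 (D := chevG2) (F := K)).exists_sl2 (rG2 8)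
  obtain ⟨ψ, b1, b2, b3, b4⟩ := (gl_R3 (D := chevG2) (F := K)).exists_sl2 (rG2 10)
  have hc : ∀ g h, Commute (φ g) (ψ h) := fun g h =>
    SO.commute (r := rG2 8) (s := rG2 10) (by decide +kernel) (glSys chevG2 K) (a4.le ⟨g, rfl⟩)
      (b4.le ⟨h, rfl⟩)
  have eW : (slW : SL(2, K)) = slU 1 * slL (-1) * slU 1 := by
    ext i j; fin_cases i <;> fin_cases j <;> simp
  have mU : ∀ t, SpecialLinearGroup.map θ (slU t) = slU (θ t) := fun t => by
    ext i j; fin_cases i <;> fin_cases j <;> simp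
  have mL : ∀ t, SpecialLinearGroup.map θ (slL t) = slL (θ t) := fun t => by
    ext i j; fin_cases i <;> fin_cases j <;> simp
  have mH : ∀ t ht, SpecialLinearGroup.map θ (slH t ht) = slH (θ t) (by simpa) := fun t ht => by
    ext i j; fin_cases i <;> fin_cases j <;> simp
  have mW : SpecialLinearGroup.map θ slW = slW := by
    ext i j; fin_cases i <;> fin_cases j <;> simp
  refine ⟨MonoidHom.mk' (fun g => φ (SpecialLinearGroup.map θ g) * ψ g) fun g h => ?_, fun t => ?_,
    fun t => ?_, fun t ht => ?_, ?_⟩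
  · rw [map_mul, map_mul, map_mul, (hc _ _).symm.mul_mul_mul_comm]
  · simp only [MonoidHom.mk'_apply, mU, a1, b1]
  · simp only [MonoidHom.mk'_apply, mL, a2, b2]; rfl
  · simp only [MonoidHom.mk'_apply, mH, a3, b3]
  · simp only [MonoidHom.mk'_apply, mW]
    simp only [eW, map_mul, a1, a2, b1, b2, tt, StSys.n, inv_one]

theorem sl2_ind {p : SL(2, K) → Prop} (hU : ∀ t, p (slU t)) (hL : ∀ t, p (slL t))
    (hm : ∀ g h, p g → p h → p (g * h)) (g : SL(2, K)) : p g := by
  have key : ∀ a : SL(2, K), a.1 1 0 ≠ 0 → p a := fun a h => by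
    have : a = slU ((a.1 0 0 - 1) / a.1 1 0) * slL (a.1 1 0) * slU ((a.1 1 1 - 1) / a.1 1 0) := by
      have := sl_det a
      ext i j; fin_cases i <;> fin_cases j <;> simp <;> field_simp <;>
        first | ring1 | linear_combination -this
    exact this ▸ hm _ _ (hm _ _ (hU _) (hL _)) (hU _)
  by_cases h : g.1 1 0 = 0
  · have e : g = slL (-1) * (slL 1 * g) := by
      rw [← mul_assoc, show slL (-1) * slL 1 = (1 : SL(2, K)) by
        ext i j; fin_cases i <;> fin_cases j <;> simp, one_mul]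
    refine e ▸ hm _ _ (hL _) (key _ ?_)
    have := sl_det g
    simp only [h, mul_zero, sub_zero] at this
    simpa [mul_apply, Fin.sum_univ_two, h] using left_ne_zero_of_mul_eq_one this
  · exact key g h

end Cfsg.Agent.Ree
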