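import Mathlib
import Cfsg.Agent.Chev.SL2

set_option autoImplicit false
set_option linter.unusedSectionVars false

/-! An abstract package of the data of a small Ree group acting on its unital. -/

namespace Cfsg.Agent.Ree

open MulAction Matrix Cfsg.Agent.Chev
open scoped MatrixGroups

/-- The data of a small Ree group `G` over the field `F` with `3 ^ (2 m + 1)` elements, acting doubly
transitively on `Ω`. -/
structure Model (G Ω F : Type*) [Group G] [MulAction G Ω] [Field F] [Fintype F] (m : ℕ) where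
  σ : F →+* F
  a : Ω
  t : G
  S : F → F → F → G
  M : Fˣ →* G
  φ : SL(2, F) →* G
  ρ : G →* Matrix (Fin 7) (Fin 7) F
  card_F : Fintype.card F = 3 ^ (2 * m + 1)
  σ_apply : ∀ x, σ x = x ^ 3 ^ (m + 1)
  S_mul : ∀ x y z x' y' z', S x y z * S x' y' z' =
    S (x + x') (y + y' - σ x' * x) (z + z' + σ x' * x * x' - σ x' * x ^ 2 - x' * y)
  S_inj : ∀ {x y z x' y' z'}, S x y z = S x' y' z' → x = x' ∧ y = y' ∧ z = z'
  M_S : ∀ (κ : Fˣ) x y z, M κ * S x y z * (M κ)⁻¹ = S (κ * x) (κ * σ κ * y) (κ ^ 2 * σ κ * z)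
  φ_U : ∀ x, φ (slU x) = S 0 x 0
  φ_W : φ slW = t
  φ_H : ∀ (l : F) (hl : l ≠ 0) (κ : Fˣ), κ * l = σ l → φ (slH l hl) = M κ
  t_M : ∀ κ, t * M κ * t⁻¹ = (M κ)⁻¹
  stab : ∀ g : G, g • a = a ↔ ∃ x y z κ, g = S x y z * M κ
  ta_ne : t • a ≠ a
  trans : ∀ c, c ≠ a → ∃ x y z, S x y z • t • a = c
  free : ∀ x y z, S x y z • t • a = t • a → x = 0 ∧ y = 0 ∧ z = 0
  conj_t : ∃ g : G, g * M (-1) * g⁻¹ = t
  conj_it : ∃ g : G, g * M (-1) * g⁻¹ = M (-1) * t
  ρ_ne : ρ (M (-1)) ≠ 1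
  simple : 1 ≤ m → IsSimpleGroup G

namespace Model

variable {G Ω F : Type*} [Group G] [MulAction G Ω] [Field F] [Fintype F] {m : ℕ} (Z : Model G Ω F m)

/-- transport of a model along an isomorphism of group actions. -/
def map {G' Ω' : Type*} [Group G'] [MulAction G' Ω'] (e : G ≃* G') (f : Ω ≃ Ω')
    (h : ∀ (g : G) (c : Ω), f (g • c) = e g • f c) : Model G' Ω' F m where
  σ := Z.σ
  a := f Z.a
  t := e Z.t
  S x y z := e (Z.S x y z)
  M := e.toMonoidHom.comp Z.M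
  φ := e.toMonoidHom.comp Z.φ
  ρ := Z.ρ.comp e.symm.toMonoidHom
  card_F := Z.card_F
  σ_apply := Z.σ_apply
  S_mul x y z x' y' z' := by rw [← map_mul, Z.S_mul]
  S_inj h := Z.S_inj (e.injective h)
  M_S κ x y z := by rw [← Z.M_S]; simp
  φ_U x := by simp [Z.φ_U]
  φ_W := by simp [Z.φ_W]
  φ_H l hl κ h := by simp [Z.φ_H l hl κ h]
  t_M κ := by simpa using congrArg e (Z.t_M κ)
  stab g := by
    obtain ⟨g, rfl⟩ := e.surjective g
    rw [← h, f.apply_eq_iff_eq, Z.stab]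
    simp [← map_mul]
  ta_ne := by rw [← h]; exact fun h' => Z.ta_ne (f.injective h')
  trans c hc := by
    obtain ⟨c, rfl⟩ := f.surjective c
    obtain ⟨x, y, z, h'⟩ := Z.trans c fun h' => hc (by rw [h'])
    exact ⟨x, y, z, by rw [← h, ← h, h']⟩
  free x y z h' := Z.free x y z (f.injective (by rwa [h, h]))
  conj_t := by
    obtain ⟨g, hg⟩ := Z.conj_t
    exact ⟨e g, by simpa using congrArg e hg⟩
  conj_it := by
    obtain ⟨g, hg⟩ := Z.conj_it
    exact ⟨e g, by simpa using congrArg e hg⟩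
  ρ_ne := by simpa using Z.ρ_ne
  simple hm := by have := Z.simple hm; exact e.symm.isSimpleGroup

/-- the conjugate of a model. -/
def conj (g : G) : Model G Ω F m :=
  Z.map (MulAut.conj g) (MulAction.toPerm g) fun k c => by simp [mul_smul]

@[simp] theorem conj_a (g : G) : (Z.conj g).a = g • Z.a := rfl
@[simp] theorem conj_t' (g : G) : (Z.conj g).t = g * Z.t * g⁻¹ := rfl
@[simp] theorem conj_S (g : G) (x y z : F) : (Z.conj g).S x y z = g * Z.S x y z * g⁻¹ := rfl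
@[simp] theorem conj_M (g : G) (κ : Fˣ) : (Z.conj g).M κ = g * Z.M κ * g⁻¹ := rfl
@[simp] theorem conj_φ (g : G) (h : SL(2, F)) : (Z.conj g).φ h = g * Z.φ h * g⁻¹ := rfl

end Model

end Cfsg.Agent.Ree
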