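import Mathlib
import Cfsg.Prelude.Def_ChevStructure
import Cfsg.Agent.Ree.Lie2
import Cfsg.Agent.Ree.Model

/-! The small Ree groups as models. -/

set_option autoImplicit false
set_option linter.unusedSectionVars false
set_option maxHeartbeats 400000
set_option maxRecDepth 100000

namespace Cfsg.Agent.Ree
open Cfsg.Lie Cfsg.Agent.Chev Cfsg.Agent.Chev.StSys Cfsg.Agent.Chev.Tw Matrix MulAction
open scoped MatrixGroups

attribute [local instance] good2G2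

variable {K : Type*} [Field K] {e : ℕ} (C : CG2 K e)

theorem θ'θ' (x : K) : C.θ' (C.θ' x) = x ^ 3 := by rw [C.hθ', C.inv']

theorem u_mul (x y z x' y' z' : K) : C.u x y z * C.u x' y' z' =
    C.u (x + x') (y + y' - C.θ' x' * x) (z + z' + C.θ' x' * x * x' - C.θ' x' * x ^ 2 - x' * y) := by
  haveI := C.char
  have h3 : (3 : K) = 0 := CharP.cast_eq_zero K 3
  rw [CG2.u, CG2.u, CG2.u, uG2_mul, ← C.hθ']
  simp only [map_add, map_sub, map_mul, map_pow, C.inv']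
  congr 1
  · ring
  · linear_combination (-(C.θ x * C.θ x' * x) - C.θ x * C.θ x' * x') * h3
  · ring
  · ring

/-- the parametrisation of the diagonal subgroup -/
noncomputable def hM (κ : K) : GL chevG2.Idx K := hh (κ * C.θ κ ^ 2) (κ ^ 2 * C.θ' κ)

theorem hM_mul {κ l : K} (hκ : κ ≠ 0) (hl : l ≠ 0) : hM C (κ * l) = hM C κ * hM C l := by
  rw [hM, hM, hM, ← hh_mul (by simp [hκ]) (by simp [hκ]) (by simp [hl]) (by simp [hl])]
  simp only [map_mul]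
  congr 1 <;> ring

theorem hM_u {κ : K} (hκ : κ ≠ 0) (x y z : K) :
    hM C κ * C.u x y z * (hM C κ)⁻¹ = C.u (κ * x) (κ * C.θ' κ * y) (κ ^ 2 * C.θ' κ * z) := by
  have h1 : C.θ κ ≠ 0 := by simpa using hκ
  rw [hM, CG2.u, CG2.u, hh_conj (by simp [hκ]) (by simp [hκ])]
  simp only [map_mul, map_pow, C.inv']
  rw [C.hθ' κ]
  congr 1 <;> field_simp

theorem mem_H_iff (g : GL chevG2.Idx K) :
    g ∈ C.T.Fx ⊓ (glSys chevG2 K).H ↔ ∃ κ, κ ≠ 0 ∧ g = hM C κ := by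
  rw [Fx_inf_H gl_R3 C.φ_pow ker_hT_G2]
  constructor
  · rintro ⟨c, hc, rfl⟩
    obtain ⟨-, h2⟩ := (mem_Tσ_G2 _).mp hc
    have h3 : (c (nG2 0) : K) = C.θ (c (nG2 1)) := by
      rw [C.hθ, ← Units.val_pow_eq_pow_val]; exact congrArg _ h2
    have h4 := (c (nG2 1)).ne_zero
    refine ⟨c (nG2 1) ^ 2 / C.θ' (c (nG2 1)), by simp, ?_⟩
    rw [hT_eq, hM, h3]
    generalize (c (nG2 1) : K) = μ at h4
    have h5 : C.θ μ ≠ 0 := by simpa using h4
    simp only [map_div₀, map_pow, C.inv', θ'θ']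
    rw [C.hθ']
    congr 1 <;> field_simp
  · rintro ⟨κ, hκ, rfl⟩
    refine ⟨![Units.mk0 (κ * C.θ κ ^ 2) (by simp [hκ]), Units.mk0 (κ ^ 2 * C.θ' κ) (by simp [hκ])],
      (mem_Tσ_G2 _).mpr ⟨Units.ext ?_, Units.ext ?_⟩, hT_eq _⟩
    · change κ ^ 2 * C.θ' κ = ((Units.mk0 (κ * C.θ κ ^ 2) (by simp [hκ]) ^ (e * 3) : Kˣ) : K)
      rw [Units.val_pow_eq_pow_val, Units.val_mk0, pow_mul, ← C.hθ, ← C.hθ']
      simp only [map_mul, map_pow, C.inv]; ring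
    · change κ * C.θ κ ^ 2 = ((Units.mk0 (κ ^ 2 * C.θ' κ) (by simp [hκ]) ^ e : Kˣ) : K)
      rw [Units.val_pow_eq_pow_val, Units.val_mk0, ← C.hθ]
      simp only [map_mul, map_pow, C.inv']; ring

theorem bruhat {g : GL chevG2.Idx K} (hg : g ∈ twistedG2 K e) (ht : tt K ∈ twistedG2 K e) :
    g ∈ (glSys chevG2 K).B ∨ ∃ b ∈ (glSys chevG2 K).B ⊓ twistedG2 K e, ∃ x y z, g = b * tt K * C.u x y z := by
  obtain ⟨w, hw⟩ := exists_cell (C.isTw.le_grp hg)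
  have hJ : orbG2.fold.J 0 = Set.univ := Set.eq_univ_of_forall fun _ => Subsingleton.elim _ _
  rcases orbG2.fold.eq_one_or (ρ_eq_of_cell (C.isTw.le hg) hw) (a := 0) (hJ ▸ mem_WK_univ w) with rfl | rfl
  · exact Or.inl (mem_cell_one.mp hw)
  · rw [hJ] at hw
    obtain ⟨b, hb, v, hv, rfl⟩ := C.isTw.exists_normal_K hg hw ht tt_mem_N tt_mono
    rw [IsTw.Uw_w0] at hv
    obtain ⟨x, y, z, rfl⟩ := (C.mem_U_iff v).mp hv
    exact Or.inr ⟨b, hb, x, y, z, rfl⟩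

theorem eq_one_of_conj {u : GL chevG2.Idx K} (hu : u ∈ (glSys chevG2 K).U)
    (h : (tt K)⁻¹ * u * tt K ∈ (glSys chevG2 K).B) : u = 1 := by
  have h1 : (tt K)⁻¹ * u * (tt K)⁻¹⁻¹ ∈ (glSys chevG2 K).V :=
    tt_mono.inv_w0.conj_mem (T' := {r | ¬ Pos r}) (fun r hr => by rw [w0_G2]; simpa using hr) hu
  rw [inv_inv] at h1
  have := one_of_mem_B_V h h1
  rwa [mul_assoc, inv_mul_eq_one, eq_comm, mul_eq_right] at this

theorem tt_notMem : tt K ∉ (glSys chevG2 K).B := fun h => by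
  have h1 := uG2_mem (0 : K) 0 0 0 0 1
  have h2 := eq_one_of_conj h1 (mul_mem (mul_mem (inv_mem h) ((glSys chevG2 K).U_le_B h1)) h)
  have h3 : uG2 (0 : K) 0 0 0 0 0 = 1 := by simp [uG2, -glSys_x]
  exact one_ne_zero (uG2_inj (h2.trans h3.symm)).2.2.2.2.2

theorem exists_model [Fintype K] {m : ℕ} (hK : Fintype.card K = 3 ^ (2 * m + 1)) :
    ∃ Z : Model (twistedG2 K (3 ^ m)) (twistedG2 K (3 ^ m) ⧸
      (chevG2.borelSubgroup K ⊓ twistedG2 K (3 ^ m)).subgroupOf (twistedG2 K (3 ^ m))) K m,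
      (∀ g : twistedG2 K (3 ^ m), (g : GL chevG2.Idx K) ∈ chevG2.posUnipotent K ↔ ∃ x y z, g = Z.S x y z) ∧
      ∀ g : twistedG2 K (3 ^ m), (g : GL chevG2.Idx K) ∈ chevG2.diagonalSubgroup K ↔ ∃ κ, g = Z.M κ := by
  obtain ⟨C⟩ := exists_CG2 hK
  haveI := C.char
  have hR := C.eq_Fx (hK ▸ three_pow_mod m)
  obtain ⟨φ, f1, f2, f3, f4⟩ := exists_phi C.θ
  have g1 : ∀ x, φ (slU x) = C.u 0 x 0 := fun x => by simp [f1, CG2.u, uG2, -glSys_x]
  have g2 : ∀ x, φ (slL x) = C.v 0 (-x) 0 := fun x => by simp [f2, CG2.v, vG2, -glSys_x]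
  have hφ : ∀ g, φ g ∈ twistedG2 K (3 ^ m) :=
    sl2_ind (fun x => g1 x ▸ C.u_mem _ _ _) (fun x => g2 x ▸ C.v_mem _ _ _)
      fun g h hg hh => map_mul φ g h ▸ mul_mem hg hh
  have ht : tt K ∈ twistedG2 K (3 ^ m) := f4 ▸ hφ _
  have hH : ∀ κ : Kˣ, hM C κ ∈ C.T.Fx ⊓ (glSys chevG2 K).H := fun κ =>
    (mem_H_iff C _).mpr ⟨κ, κ.ne_zero, rfl⟩
  have hB : ∀ g : twistedG2 K (3 ^ m), g ∈ (chevG2.borelSubgroup K ⊓ twistedG2 K (3 ^ m)).subgroupOf
      (twistedG2 K (3 ^ m)) ↔ (g : GL chevG2.Idx K) ∈ (glSys chevG2 K).B := fun g => by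
    rw [Subgroup.mem_subgroupOf, borelSubgroup_eq]; exact and_iff_left g.2
  have hm1 : hM C ((-1 : Kˣ) : K) = hh (-1) (-1) := by simp [hM]
  let S : K → K → K → twistedG2 K (3 ^ m) := fun x y z => ⟨C.u x y z, C.u_mem x y z⟩
  let M : Kˣ →* twistedG2 K (3 ^ m) := MonoidHom.mk' (fun κ => ⟨hM C κ, hR ▸ (hH κ).1⟩)
    fun κ l => Subtype.ext (hM_mul C κ.ne_zero l.ne_zero)
  have hU : ∀ g : twistedG2 K (3 ^ m), (g : GL chevG2.Idx K) ∈ (glSys chevG2 K).U ↔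
      ∃ x y z, g = S x y z := fun g => by
    have := C.mem_U_iff g
    rw [Subgroup.mem_inf, and_iff_right (hR ▸ g.2)] at this
    simp only [this, S, Subtype.ext_iff]
  have hD : ∀ g : twistedG2 K (3 ^ m), (g : GL chevG2.Idx K) ∈ (glSys chevG2 K).H ↔
      ∃ κ, g = M κ := fun g => by
    have := mem_H_iff C g
    rw [Subgroup.mem_inf, and_iff_right (hR ▸ g.2)] at this
    rw [this]
    exact ⟨fun ⟨κ, h0, h⟩ => ⟨Units.mk0 κ h0, Subtype.ext h⟩,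
      fun ⟨κ, h⟩ => ⟨κ, κ.ne_zero, congrArg Subtype.val h⟩⟩
  have hfix : ∀ g h : twistedG2 K (3 ^ m), g • (h : twistedG2 K (3 ^ m) ⧸
      (chevG2.borelSubgroup K ⊓ twistedG2 K (3 ^ m)).subgroupOf (twistedG2 K (3 ^ m))) = h ↔
      ((h⁻¹ * g * h : twistedG2 K (3 ^ m)) : GL chevG2.Idx K) ∈ (glSys chevG2 K).B := fun g h => by
    rw [Quotient.smul_coe, eq_comm, QuotientGroup.eq, hB, smul_eq_mul, mul_assoc]
  refine ⟨{
    σ := C.θ'
    a := ((1 : twistedG2 K (3 ^ m)) : _ ⧸ _)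
    t := ⟨tt K, ht⟩
    S := S
    M := M
    φ := φ.codRestrict _ hφ
    ρ := rho7 C.isTw.le_grp
    card_F := hK
    σ_apply := fun x => by rw [C.hθ', C.hθ, ← pow_mul, ← pow_succ]
    S_mul := fun x y z x' y' z' => Subtype.ext (u_mul C x y z x' y' z')
    S_inj := fun h => C.u_inj (congrArg Subtype.val h)
    M_S := fun κ x y z => Subtype.ext (hM_u C κ.ne_zero x y z)
    φ_U := fun x => Subtype.ext (g1 x)
    φ_W := Subtype.ext f4
    φ_H := fun l hl κ h => Subtype.ext ?_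
    t_M := fun κ => Subtype.ext ?_
    stab := fun g => ?_
    ta_ne := ?_
    trans := fun c hc => ?_
    free := fun x y z h => ?_
    conj_t := ⟨S 1 0 0 * ⟨tt K, ht⟩ * S (-1) 0 0, mul_inv_eq_iff_eq_mul.mpr (Subtype.ext ?_)⟩
    conj_it := ⟨S 1 0 (-1) * ⟨tt K, ht⟩ * S 0 0 1, mul_inv_eq_iff_eq_mul.mpr (Subtype.ext ?_)⟩
    ρ_ne := fun h => ?_
    simple := fun hm => (C.isTw.isSimpleGroup gl_inj C.hx
      (C.perfect (hK ▸ three_pow_mod m) (hK ▸ lt_self_pow₀ (by norm_num) (by omega)))).1 },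
    fun g => by rw [posUnipotent_eq]; exact hU g, fun g => by rw [diagonalSubgroup_eq]; exact hD g⟩
  · have h1 : C.θ l ≠ 0 := by simpa using hl
    change φ _ = hM C κ
    rw [f3, h_mul_h h1 hl, hM, eq_div_of_mul_eq hl h]
    simp only [map_div₀, C.inv', θ'θ']
    rw [C.hθ']
    congr 1 <;> field_simp
  · have := tt_mono.conj_inv gl_inj tt_mem_N w0_G2 (inv_mem (hH κ).2)
    rw [inv_inv] at this
    exact this
  · rw [hfix, inv_one, one_mul, mul_one, mem_B]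
    constructor
    · rintro ⟨u, hu, y, hy, e⟩
      obtain ⟨h1, h2⟩ := mem_of_UH (T := C.T) hu hy (by rw [← e, ← hR]; exact g.2)
      obtain ⟨x, y', z, h3⟩ := (hU ⟨u, hR ▸ h1⟩).mp hu
      obtain ⟨κ, h4⟩ := (hD ⟨y, hR ▸ h2⟩).mp hy
      exact ⟨x, y', z, κ, by rw [← h3, ← h4]; exact Subtype.ext e⟩
    · rintro ⟨x, y, z, κ, rfl⟩
      exact ⟨_, uG2_mem _ _ _ _ _ _, _, (hH κ).2, rfl⟩
  · rw [Ne, hfix, inv_one, one_mul, mul_one]; exact tt_notMem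
  · obtain ⟨g, rfl⟩ := QuotientGroup.mk_surjective c
    rcases bruhat C (inv_mem g.2) ht with h | ⟨b, hb, x, y, z, h⟩
    · exact absurd (QuotientGroup.eq.mpr ((hB _).mpr (by simpa using h))) hc
    · obtain ⟨x', y', z', h'⟩ := (hU (S x y z)⁻¹).mp (inv_mem (uG2_mem _ _ _ _ _ _))
      refine ⟨x', y', z', ?_⟩
      rw [← h', Quotient.smul_coe, Quotient.smul_coe, eq_comm, QuotientGroup.eq, hB]
      have h2 : tt K * tt K ∈ (glSys chevG2 K).H :=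
        mem_H_of_mono (mul_mem tt_mem_N tt_mem_N) (by simpa using tt_mono.mul tt_mono)
      have := mul_mem hb.1 ((glSys chevG2 K).H_le_B h2)
      convert this using 1
      simp [h, S, mul_assoc]
  · rw [Quotient.smul_coe, smul_eq_mul, mul_one, hfix] at h
    have h1 := eq_one_of_conj (uG2_mem _ _ _ _ _ _) h
    have h3 : C.u (0 : K) 0 0 = 1 := by simp [CG2.u, uG2, -glSys_x]
    exact C.u_inj (h1.trans h3.symm)
  · change C.u 1 0 0 * tt K * C.u (-1) 0 0 * hM C _ = tt K * (C.u 1 0 0 * tt K * C.u (-1) 0 0)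
    rw [hm1]
    simpa [CG2.u] using word1 (K := K)
  · change C.u 1 0 (-1) * tt K * C.u 0 0 1 * hM C _ = hM C _ * tt K * (C.u 1 0 (-1) * tt K * C.u 0 0 1)
    rw [hm1]
    simpa [CG2.u] using word2 (K := K)
  · have h1 := congrFun (congrFun h 2) 2
    rw [rho7_apply] at h1
    change (hM C ((-1 : Kˣ) : K)).val (Sum.inr (rG2 7)) (Sum.inr (rG2 7)) = _ at h1
    rw [hm1, hh_val (by simp) (by simp), dg, diagonal_apply_eq, Sum.elim_inr,
      show pr (rG2 7) (rG2 7) = 2 by decide +kernel, show pr (rG2 6) (rG2 7) = -1 by decide +kernel] at h1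
    have h3 : (3 : K) = 0 := CharP.cast_eq_zero K 3
    simp [zpow_ofNat] at h1
    exact one_ne_zero (α := K) (by linear_combination h3 + h1)

end Cfsg.Agent.Ree
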