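import Mathlib

set_option autoImplicit false

/-! Counting lemmas: conjugates of an element under a subgroup, and conjugates of a TI-set. -/

namespace Cfsg.Agent.Ree

variable {G : Type*} [Group G]

theorem card_eq_conj_mul (N : Subgroup G) (x : G) :
    Nat.card N = ((fun g => g * x * g⁻¹) '' (N : Set G)).ncard * Nat.card ↥(N ⊓ Subgroup.centralizer {x}) := by
  letI : MulAction N G := MulAction.compHom G ((MulAut.conj (G := G)).comp N.subtype)
  have h1 : MulAction.orbit N x = (fun g => g * x * g⁻¹) '' (N : Set G) := by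
    ext y
    exact ⟨fun ⟨g, hg⟩ => ⟨g, g.2, hg⟩, fun ⟨g, h, hg⟩ => ⟨⟨g, h⟩, hg⟩⟩
  have h2 : MulAction.stabilizer N x = (N ⊓ Subgroup.centralizer {x}).subgroupOf N := by
    ext g
    rw [Subgroup.inf_subgroupOf_left, Subgroup.mem_subgroupOf, Subgroup.mem_centralizer_singleton_iff,
      ← mul_inv_eq_iff_eq_mul]
    rfl
  rw [← h1, ← Nat.card_congr (Subgroup.subgroupOfEquivOfLe (inf_le_left (a := N))).toEquiv, ← h2,
    ← Nat.card_coe_set_eq, ← Nat.card_prod]
  exact (Nat.card_congr (MulAction.orbitProdStabilizerEquivGroup N x)).symm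

/-- the elements conjugate into `Y`. -/
def cj (Y : Set G) : Set G := {x | ∃ g : G, g * x * g⁻¹ ∈ Y}

theorem ncard_cj [Finite G] {Y : Set G} {N : Subgroup G} (hN : ∀ n ∈ N, ∀ x ∈ Y, n * x * n⁻¹ ∈ Y)
    (hTI : ∀ g x : G, x ∈ Y → g * x * g⁻¹ ∈ Y → g ∈ N) :
    (cj Y).ncard * Nat.card N = Nat.card G * Y.ncard := by
  classical
  have := Fintype.ofFinite G
  have key := Finset.card_mul_eq_card_mul (s := (cj Y).toFinset) (t := (Finset.univ : Finset G))
    (fun x g => g * x * g⁻¹ ∈ Y) (m := Nat.card N) (n := Y.ncard) ?_ ?_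
  · rw [Set.ncard_eq_toFinset_card', key, Finset.card_univ, Nat.card_eq_fintype_card (α := G)]
  · intro x hx
    obtain ⟨g, hg⟩ := Set.mem_toFinset.mp hx
    rw [Nat.card_eq_fintype_card, ← Finset.card_univ]
    symm
    apply Finset.card_bij (fun (n : N) _ => (n : G) * g)
    · intro n _
      simp only [Finset.bipartiteAbove, Finset.mem_filter, Finset.mem_univ, true_and]
      have := hN n n.2 _ hg
      convert this using 1; group
    · intro n _ n' _ h
      exact Subtype.ext (mul_right_cancel h)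
    · intro k hk
      simp only [Finset.bipartiteAbove, Finset.mem_filter, Finset.mem_univ, true_and] at hk
      refine ⟨⟨k * g⁻¹, hTI _ _ hg ?_⟩, Finset.mem_univ _, by simp⟩
      convert hk using 1; group
  · intro g _
    rw [Set.ncard_eq_toFinset_card']
    symm
    apply Finset.card_bij (fun x _ => g⁻¹ * x * g)
    · intro x hx
      have h2 : g * (g⁻¹ * x * g) * g⁻¹ ∈ Y := by
        convert Set.mem_toFinset.mp hx using 1; group
      simp only [Finset.bipartiteBelow, Finset.mem_filter, Set.mem_toFinset]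
      exact ⟨⟨g, h2⟩, h2⟩
    · intro x _ y _ h
      exact mul_left_cancel (mul_right_cancel h)
    · intro x hx
      simp only [Finset.bipartiteBelow, Finset.mem_filter, Set.mem_toFinset] at hx
      exact ⟨_, Set.mem_toFinset.mpr hx.2, by group⟩

theorem orderOf_conj (g x : G) : orderOf (g * x * g⁻¹) = orderOf x := (MulAut.conj g).orderOf_eq x

theorem ncard_orderOf_cyclic {H : Subgroup G} [Finite H] (hH : IsCyclic H) {d : ℕ} (hd : d ∣ Nat.card H) :
    {x : G | x ∈ H ∧ orderOf x = d}.ncard = Nat.totient d := by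
  classical
  have := Fintype.ofFinite H
  rw [← IsCyclic.card_orderOf_eq_totient (α := H) (by rwa [← Nat.card_eq_fintype_card]),
    ← Set.ncard_coe_finset, ← Set.ncard_image_of_injective _ Subtype.val_injective]
  congr 1
  ext x
  simp only [Set.mem_setOf_eq, Finset.coe_filter, Finset.mem_univ, true_and, Set.mem_image]
  exact ⟨fun ⟨h1, h2⟩ => ⟨⟨x, h1⟩, by rw [← h2, Subgroup.orderOf_mk], rfl⟩,
    by rintro ⟨y, h, rfl⟩; exact ⟨y.2, by rw [Subgroup.orderOf_coe, h]⟩⟩

theorem comm_of_cyclic {H : Subgroup G} (h : IsCyclic H) {x y : G} (hx : x ∈ H) (hy : y ∈ H) :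
    x * y = y * x :=
  congrArg Subtype.val (h.commGroup.mul_comm ⟨x, hx⟩ ⟨y, hy⟩)

/-- a `p`-element is conjugate into every subgroup of index prime to `p`. -/
theorem exists_conj_mem [Finite G] {p : ℕ} (hp : p.Prime) {H : Subgroup G} (hH : ¬ p ∣ H.index) {x : G} {k : ℕ}
    (hx : x ^ p ^ k = 1) : ∃ g : G, g * x * g⁻¹ ∈ H := by
  have := Fact.mk hp
  have h1 : IsPGroup p (Subgroup.zpowers x) := by
    apply IsPGroup.of_card_dvd_pow (n := k)
    rw [Nat.card_zpowers]
    exact orderOf_dvd_of_pow_eq_one hx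
  obtain ⟨c, hc⟩ := h1.nonempty_fixed_point_of_prime_not_dvd_card (G ⧸ H) hH
  obtain ⟨g, rfl⟩ := QuotientGroup.mk_surjective c
  have h2 : x • (g : G ⧸ H) = g := hc ⟨x, Subgroup.mem_zpowers x⟩
  rw [MulAction.Quotient.smul_coe, eq_comm, QuotientGroup.eq, smul_eq_mul] at h2
  exact ⟨g⁻¹, by rwa [inv_inv, mul_assoc]⟩

theorem exists_prime_pow [Finite G] {g : G} (h : g ≠ 1) :
    ∃ (p k : ℕ), p.Prime ∧ p ∣ orderOf g ∧ orderOf (g ^ k) = p := by
  obtain ⟨p, hp, hd⟩ := Nat.exists_prime_and_dvd (n := orderOf g) (by simpa using h)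
  exact ⟨p, _, hp, hd, orderOf_pow_orderOf_div (orderOf_pos g).ne' hd⟩

theorem ne_one_of_orderOf {g : G} {p : ℕ} (hp : p.Prime) (h : orderOf g = p) : g ≠ 1 := by
  rintro rfl; rw [orderOf_one] at h; exact hp.one_lt.ne h

theorem eq_one_of_coprime {g : G} {a b : ℕ} (h : Nat.Coprime a b) (ha : g ^ a = 1) (hb : g ^ b = 1) : g = 1 := by
  have := pow_gcd_eq_one.mpr ⟨ha, hb⟩
  rwa [h, pow_one] at this

theorem mem_normalizer_of_conj [Finite G] {H : Subgroup G} {g : G} (h : ∀ x ∈ H, g * x * g⁻¹ ∈ H) :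
    g ∈ Subgroup.normalizer (H : Set G) := Subgroup.mem_normalizer_fintype h

theorem conj_mem_centralizer {g u x : G} (h : x ∈ Subgroup.centralizer {u}) :
    g * x * g⁻¹ ∈ Subgroup.centralizer {g * u * g⁻¹} := by
  rw [Subgroup.mem_centralizer_singleton_iff] at h ⊢
  calc _ = g * (x * u) * g⁻¹ := by group
    _ = _ := by rw [h]; group

/-- the normaliser of a cyclic subgroup normalises its subgroups -/
theorem normalizer_le_of_cyclic [Finite G] {A A₀ : Subgroup G} (hA : IsCyclic A) (h : A₀ ≤ A) :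
    Subgroup.normalizer (A : Set G) ≤ Subgroup.normalizer (A₀ : Set G) := fun g hg => by
  refine mem_normalizer_of_conj fun x hx => ?_
  obtain ⟨u, hu⟩ := hA.exists_generator
  obtain ⟨k, hk⟩ := hu ⟨x, h hx⟩
  obtain ⟨l, hl⟩ := hu ⟨_, (Subgroup.mem_normalizer_iff.mp hg u).mp u.2⟩
  have hk' : (u : G) ^ k = x := congrArg Subtype.val hk
  have hl' : (u : G) ^ l = g * u * g⁻¹ := congrArg Subtype.val hl
  rw [← hk', ← conj_zpow, ← hl', ← zpow_mul, mul_comm, zpow_mul, hk']
  exact zpow_mem hx l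

end Cfsg.Agent.Ree
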