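import Mathlib
import Cfsg.Agent.Ree.Model
import Cfsg.Agent.RankOne.Util

set_option autoImplicit false
set_option linter.unusedSectionVars false

/-! First consequences of the axioms of a model of a small Ree group. -/

namespace Cfsg.Agent.Ree

open MulAction Matrix Cfsg.Agent.Chev
open scoped MatrixGroups

theorem three_pow_mod_eight (m : ℕ) : 3 ^ (2 * m + 1) % 8 = 3 := by
  rw [pow_succ, pow_mul, Nat.mul_mod, Nat.pow_mod]; simp

namespace Model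

variable {G Ω F : Type*} [Group G] [MulAction G Ω] [Field F] [Fintype F] {m : ℕ} (Z : Model G Ω F m)

local notation "𝐪" => Fintype.card F

include Z in
theorem charP : CharP F 3 :=
  haveI : Fact (Nat.Prime 3) := ⟨by norm_num⟩
  charP_of_card_eq_prime_pow Z.card_F

include Z in
theorem three : (3 : F) = 0 := by have := Z.charP; exact CharP.cast_eq_zero F 3

include Z in
theorem two_ne : (2 : F) ≠ 0 := fun h => one_ne_zero (α := F) (by linear_combination Z.three - h)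

include Z in
theorem q_mod : 𝐪 % 8 = 3 := Z.card_F ▸ three_pow_mod_eight m

include Z in
theorem three_dvd_q : 3 ∣ 𝐪 := Z.card_F ▸ dvd_pow_self 3 (by omega)

include Z in
theorem le_q (hm : 1 ≤ m) : 27 ≤ 𝐪 :=
  Z.card_F ▸ (Nat.pow_le_pow_right (by norm_num) (by omega) : 3 ^ 3 ≤ 3 ^ (2 * m + 1))

theorem σσ (x : F) : Z.σ (Z.σ x) = x ^ 3 := by
  rw [Z.σ_apply, Z.σ_apply, ← pow_mul, ← pow_add, show m + 1 + (m + 1) = (2 * m + 1) + 1 by ring, pow_succ,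
    pow_mul, ← Z.card_F, FiniteField.pow_card]

include Z in
theorem sq_ne_neg_one (x : F) : x ^ 2 ≠ -1 := fun h =>
  FiniteField.isSquare_neg_one_iff.mp ⟨x, by rw [← h, sq]⟩ (by have := Z.q_mod; omega)

include Z in
theorem sq_or_neg_sq (x : F) : ∃ y : F, y ^ 2 = x ∨ y ^ 2 = -x := by
  have h2 : ringChar F ≠ 2 := by have := Z.charP; rw [ringChar.eq F 3]; norm_num
  by_cases h : x = 0
  · exact ⟨0, by simp [h]⟩
  have h3 : 𝐪 / 2 + 1 = 2 * (𝐪 / 4 + 1) := by have := Z.q_mod; omega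
  refine ⟨x ^ (𝐪 / 4 + 1), ?_⟩
  rw [← pow_mul, mul_comm, ← h3, pow_succ]
  rcases FiniteField.pow_dichotomy h2 h with e | e <;> simp [e]

include Z in
theorem sq_add_sq_eq_zero {x y : F} (h : x ^ 2 + y ^ 2 = 0) : x = 0 ∧ y = 0 := by
  have hy : y = 0 := by
    by_contra hy
    exact Z.sq_ne_neg_one (x / y) (by field_simp; linear_combination h)
  exact ⟨by simpa [hy] using h, hy⟩

theorem of_σ_eq {x : F} (h0 : x ≠ 0) (h : Z.σ x = x) : x = 1 ∨ x = -1 := by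
  have h1 := Z.σσ x
  rw [h, h] at h1
  exact sq_eq_one_iff.mp (mul_left_cancel₀ h0 (by linear_combination -h1))

theorem of_mul_σ {x : F} (h : x * Z.σ x = 1) : x = 1 ∨ x = -1 := by
  have h1 := congrArg Z.σ h
  rw [map_mul, σσ, map_one] at h1
  exact sq_eq_one_iff.mp (by linear_combination h1 - x ^ 2 * h)

theorem of_sq_mul_σ {x : F} (h : x ^ 2 * Z.σ x = 1) : x = 1 := by
  have h1 := congrArg Z.σ h
  rw [map_mul, map_pow, σσ, map_one] at h1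
  linear_combination (x ^ 2 * Z.σ x + 1) * h - x * h1

theorem exists_sq_eq (x : F) : ∃ l : F, l ^ 2 = x * Z.σ x := by
  obtain ⟨k, hk⟩ : Odd (3 ^ (m + 1)) := Odd.pow (by decide)
  exact ⟨x ^ (k + 1), by rw [Z.σ_apply, hk]; ring⟩

theorem S_zero : Z.S 0 0 0 = 1 := by
  have := Z.S_mul 0 0 0 0 0 0
  simpa using this

theorem S_eq_one_iff {x y z : F} : Z.S x y z = 1 ↔ x = 0 ∧ y = 0 ∧ z = 0 :=
  ⟨fun h => Z.S_inj (h.trans Z.S_zero.symm), by rintro ⟨rfl, rfl, rfl⟩; exact Z.S_zero⟩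

theorem S_eq_iff {x y z x' y' z' : F} : Z.S x y z = Z.S x' y' z' ↔ x = x' ∧ y = y' ∧ z = z' :=
  ⟨Z.S_inj, by rintro ⟨rfl, rfl, rfl⟩; rfl⟩

theorem S_inv (x y z : F) :
    (Z.S x y z)⁻¹ = Z.S (-x) (-y - Z.σ x * x) (-z + Z.σ x * x ^ 2 - x * y) := by
  rw [inv_eq_iff_mul_eq_one, Z.S_mul, S_eq_one_iff, map_neg]
  refine ⟨by ring, by ring, by linear_combination (Z.σ x * x ^ 2) * Z.three⟩

theorem S_pow_three (x y z : F) : Z.S x y z ^ 3 = Z.S 0 0 (-(Z.σ x * x ^ 2)) := by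
  rw [pow_three', Z.S_mul, Z.S_mul, S_eq_iff]
  exact ⟨by linear_combination x * Z.three, by linear_combination (y - Z.σ x * x) * Z.three,
    by linear_combination (z - x * y) * Z.three⟩

theorem S_pow_nine (x y z : F) : Z.S x y z ^ 9 = 1 := by
  rw [show 9 = 3 * 3 from rfl, pow_mul, S_pow_three, S_pow_three]; simp [S_zero]

theorem S_pow_three_eq_one {x y z : F} : Z.S x y z ^ 3 = 1 ↔ x = 0 := by
  rw [S_pow_three, S_eq_one_iff]; simp

/-- the unipotent subgroup -/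
def U : Subgroup G where
  carrier := {g | ∃ x y z, g = Z.S x y z}
  one_mem' := ⟨0, 0, 0, Z.S_zero.symm⟩
  mul_mem' := by rintro _ _ ⟨x, y, z, rfl⟩ ⟨x', y', z', rfl⟩; exact ⟨_, _, _, Z.S_mul _ _ _ _ _ _⟩
  inv_mem' := by rintro _ ⟨x, y, z, rfl⟩; exact ⟨_, _, _, Z.S_inv _ _ _⟩

theorem mem_U {g : G} : g ∈ Z.U ↔ ∃ x y z, g = Z.S x y z := Iff.rfl
theorem S_mem (x y z : F) : Z.S x y z ∈ Z.U := ⟨x, y, z, rfl⟩

/-- the diagonal subgroup -/
abbrev H : Subgroup G := Z.M.range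
/-- the Borel subgroup -/
abbrev B : Subgroup G := stabilizer G Z.a
/-- the second base point -/
abbrev b : Ω := Z.t • Z.a
/-- the involution of the diagonal subgroup -/
abbrev i : G := Z.M (-1)

theorem M_mem (κ : Fˣ) : Z.M κ ∈ Z.H := ⟨κ, rfl⟩

theorem M_mul_S (κ : Fˣ) (x y z : F) :
    Z.M κ * Z.S x y z = Z.S (κ * x) (κ * Z.σ κ * y) (κ ^ 2 * Z.σ κ * z) * Z.M κ := by
  rw [← Z.M_S, inv_mul_cancel_right]

theorem i_S (x y z : F) : Z.i * Z.S x y z * Z.i⁻¹ = Z.S (-x) y (-z) := by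
  rw [Z.M_S]; simp

theorem M_inj : Function.Injective Z.M := by
  rw [injective_iff_map_eq_one]
  intro κ h
  have := Z.M_S κ 1 0 0
  rw [h, one_mul, inv_one, mul_one] at this
  exact Units.ext (by simpa using (Z.S_inj this).1.symm)

theorem M_eq_one_iff {κ : Fˣ} : Z.M κ = 1 ↔ κ = 1 := map_eq_one_iff _ Z.M_inj

include Z in
theorem neg_one_ne : (-1 : Fˣ) ≠ 1 := fun h =>
  Z.two_ne (by have := congrArg Units.val h; simp at this; linear_combination -this)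

theorem i_ne_one : Z.i ≠ 1 := fun h => Z.neg_one_ne (Z.M_eq_one_iff.mp h)

theorem i_mul_i : Z.i * Z.i = 1 := by rw [← map_mul]; simp

theorem i_inv : Z.i⁻¹ = Z.i := inv_eq_of_mul_eq_one_right Z.i_mul_i

theorem M_comm (κ l : Fˣ) : Z.M κ * Z.M l = Z.M l * Z.M κ := by rw [← map_mul, mul_comm, map_mul]

theorem φ_neg_one : Z.φ (-1) = 1 := by
  rw [← map_one Z.M, ← Z.φ_H (-1) (by simp) 1 (by simp)]
  congr 1
  ext i j; fin_cases i <;> fin_cases j <;> simp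

theorem φ_neg (h : SL(2, F)) : Z.φ (-h) = Z.φ h := by
  rw [← neg_one_mul, map_mul, φ_neg_one, one_mul]

theorem t_mul_t : Z.t * Z.t = 1 := by
  rw [← Z.φ_W, ← map_mul, ← Z.φ_neg_one]
  congr 1
  ext i j; fin_cases i <;> fin_cases j <;> simp

theorem t_inv : Z.t⁻¹ = Z.t := inv_eq_of_mul_eq_one_right Z.t_mul_t

theorem t_mul_M (κ : Fˣ) : Z.t * Z.M κ = Z.M κ⁻¹ * Z.t := by
  rw [map_inv, ← Z.t_M, inv_mul_cancel_right]

theorem t_mul_i : Z.t * Z.i = Z.i * Z.t := by rw [t_mul_M]; simp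

theorem S_a (x y z : F) : Z.S x y z • Z.a = Z.a := (Z.stab _).mpr ⟨x, y, z, 1, by simp⟩
theorem M_a (κ : Fˣ) : Z.M κ • Z.a = Z.a := (Z.stab _).mpr ⟨0, 0, 0, κ, by simp [S_zero]⟩
theorem t_b : Z.t • Z.b = Z.a := by rw [← mul_smul, t_mul_t, one_smul]
theorem M_b (κ : Fˣ) : Z.M κ • Z.b = Z.b := by
  rw [← mul_smul, ← inv_inv κ, ← t_mul_M, mul_smul, M_a]

theorem U_le_B : Z.U ≤ Z.B := by rintro _ ⟨x, y, z, rfl⟩; exact Z.S_a x y z
theorem H_le_B : Z.H ≤ Z.B := by rintro _ ⟨κ, rfl⟩; exact Z.M_a κ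

theorem t_ne_one : Z.t ≠ 1 := fun h => Z.ta_ne (by rw [h, one_smul])

theorem S_b_ne (x y z : F) : Z.S x y z • Z.b ≠ Z.a := fun h =>
  Z.ta_ne ((inv_smul_eq_iff.mpr h.symm).symm.trans (Z.U_le_B (inv_mem (Z.S_mem x y z))))

theorem one_of_U_b {u : G} (hu : u ∈ Z.U) (h : u • Z.b = Z.b) : u = 1 := by
  obtain ⟨x, y, z, rfl⟩ := hu
  exact Z.S_eq_one_iff.mpr (Z.free x y z h)

theorem of_U_b {u v : G} (hu : u ∈ Z.U) (hv : v ∈ Z.U) (h : u • Z.b = v • Z.b) : u = v :=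
  (inv_mul_eq_one.mp (Z.one_of_U_b (mul_mem (inv_mem hv) hu) (by rw [mul_smul, h, inv_smul_smul]))).symm

theorem exists_U {c : Ω} (h : c ≠ Z.a) : ∃ u ∈ Z.U, u • Z.b = c := by
  obtain ⟨x, y, z, h⟩ := Z.trans c h
  exact ⟨_, Z.S_mem x y z, h⟩

theorem mem_H_iff {g : G} : g ∈ Z.H ↔ g • Z.a = Z.a ∧ g • Z.b = Z.b := by
  refine ⟨by rintro ⟨κ, rfl⟩; exact ⟨Z.M_a κ, Z.M_b κ⟩, fun ⟨h1, h2⟩ => ?_⟩
  obtain ⟨x, y, z, κ, rfl⟩ := (Z.stab g).mp h1
  rw [mul_smul, M_b] at h2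
  rw [Z.one_of_U_b (Z.S_mem x y z) h2, one_mul]
  exact Z.M_mem κ

theorem one_of_U_H {g : G} (h1 : g ∈ Z.U) (h2 : g ∈ Z.H) : g = 1 :=
  Z.one_of_U_b h1 (Z.mem_H_iff.mp h2).2

theorem S_M_inj {u v : G} {κ l : Fˣ} (hu : u ∈ Z.U) (hv : v ∈ Z.U) (h : u * Z.M κ = v * Z.M l) :
    u = v ∧ κ = l := by
  have h1 : u = v := Z.of_U_b hu hv (by
    rw [← Z.M_b κ, ← mul_smul, h, mul_smul, Z.M_b, Z.M_b])
  exact ⟨h1, Z.M_inj (mul_left_cancel (h1 ▸ h))⟩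

theorem conj_mem_U {g u : G} (hg : g ∈ Z.B) (hu : u ∈ Z.U) : g * u * g⁻¹ ∈ Z.U := by
  obtain ⟨x, y, z, κ, rfl⟩ := (Z.stab g).mp hg
  obtain ⟨x', y', z', rfl⟩ := hu
  have := mul_mem (mul_mem (Z.S_mem x y z) (Z.M_S κ x' y' z' ▸ Z.S_mem _ _ _)) (inv_mem (Z.S_mem x y z))
  simpa [mul_assoc] using this

theorem is_a_of_U {u : G} (hu : u ∈ Z.U) (h1 : u ≠ 1) {c : Ω} (h : u • c = c) : c = Z.a := by
  by_contra hc
  obtain ⟨v, hv, rfl⟩ := Z.exists_U hc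
  have := Z.of_U_b (mul_mem hu hv) hv (by rwa [mul_smul])
  exact h1 (by simpa using this)

theorem exists_pair {c d : Ω} (h : c ≠ d) : ∃ g : G, g • Z.a = c ∧ g • Z.b = d := by
  have : ∃ g : G, g • Z.a = c := by
    by_cases hc : c = Z.a
    · exact ⟨1, by rw [one_smul, hc]⟩
    · obtain ⟨g, -, hg⟩ := Z.exists_U hc
      exact ⟨g * Z.t, by rw [mul_smul, hg]⟩
  obtain ⟨g, rfl⟩ := this
  obtain ⟨k, hk1, hk2⟩ := Z.exists_U (c := g⁻¹ • d) (by rintro e; apply h; rw [← e, smul_inv_smul])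
  exact ⟨g * k, by rw [mul_smul, Z.U_le_B hk1], by rw [mul_smul, hk2, smul_inv_smul]⟩

theorem exists_smul (c : Ω) : ∃ g : G, g • Z.a = c := by
  by_cases h : c = Z.b
  · exact ⟨_, h.symm⟩
  · exact (Z.exists_pair h).imp fun _ h => h.1

@[simp] theorem conj_b (g : G) : (Z.conj g).b = g • Z.b := by simp [b, mul_smul]

theorem mem_conj_U {g u : G} : u ∈ (Z.conj g).U ↔ g⁻¹ * u * g ∈ Z.U := by
  simp only [mem_U, conj_S]
  refine exists₃_congr fun x y z => ⟨?_, fun h => ?_⟩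
  · rintro rfl; group
  · rw [← h]; group

include Z in
theorem faithful {g : G} (h : ∀ c : Ω, g • c = c) : g = 1 := by
  obtain ⟨κ, rfl⟩ := Z.mem_H_iff.mpr ⟨h _, h _⟩
  have h1 := h (Z.S 1 0 0 • Z.b)
  rw [← mul_smul, M_mul_S, mul_smul, M_b] at h1
  have := (Z.S_inj (Z.of_U_b (Z.S_mem _ _ _) (Z.S_mem _ _ _) h1)).1
  exact Z.M_eq_one_iff.mpr (Units.ext (by simpa using this))

theorem card_U : Nat.card Z.U = 𝐪 ^ 3 := by
  refine (Nat.card_congr (Equiv.ofBijective (fun p : F × F × F => (⟨_, Z.S_mem p.1 p.2.1 p.2.2⟩ : Z.U))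
    ⟨fun p p' h => ?_, ?_⟩)).symm.trans (by simp [pow_three])
  · obtain ⟨h1, h2, h3⟩ := Z.S_inj (congrArg Subtype.val h)
    exact Prod.ext h1 (Prod.ext h2 h3)
  · rintro ⟨_, x, y, z, rfl⟩; exact ⟨(x, y, z), rfl⟩

theorem card_H : Nat.card Z.H = 𝐪 - 1 := by
  rw [← Nat.card_congr (MonoidHom.ofInjective Z.M_inj).toEquiv, Nat.card_units, Nat.card_eq_fintype_card]

theorem isCyclic_H : IsCyclic Z.H := isCyclic_of_surjective _ Z.M.rangeRestrict_surjective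

theorem card_B : Nat.card Z.B = 𝐪 ^ 3 * (𝐪 - 1) := by
  rw [← Z.card_U, ← Z.card_H, ← Nat.card_prod]
  refine (Nat.card_congr (Equiv.ofBijective (fun p : Z.U × Z.H =>
    (⟨p.1 * p.2, mul_mem (Z.U_le_B p.1.2) (Z.H_le_B p.2.2)⟩ : Z.B)) ⟨?_, ?_⟩)).symm
  · rintro ⟨⟨u, hu⟩, _, κ, rfl⟩ ⟨⟨v, hv⟩, _, l, rfl⟩ h
    obtain ⟨rfl, rfl⟩ := Z.S_M_inj hu hv (congrArg Subtype.val h)
    rfl
  · rintro ⟨g, hg⟩
    obtain ⟨x, y, z, κ, rfl⟩ := (Z.stab g).mp hg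
    exact ⟨(⟨_, Z.S_mem x y z⟩, ⟨_, Z.M_mem κ⟩), rfl⟩

include Z in
theorem card_Ω : Nat.card Ω = 𝐪 ^ 3 + 1 := by
  have : Finite Z.U := Nat.finite_of_card_ne_zero (by rw [Z.card_U]; positivity)
  rw [← Z.card_U, ← Finite.card_option]
  refine (Nat.card_congr (Equiv.ofBijective (fun p : Option Z.U => p.elim Z.a fun u => (u : G) • Z.b)
    ⟨?_, fun c => ?_⟩)).symm
  · rintro (_ | ⟨u, hu⟩) (_ | ⟨v, hv⟩) h
    · rfl
    · obtain ⟨x, y, z, rfl⟩ := hv; exact absurd h.symm (Z.S_b_ne x y z)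
    · obtain ⟨x, y, z, rfl⟩ := hu; exact absurd h (Z.S_b_ne x y z)
    · obtain rfl := Z.of_U_b hu hv h; rfl
  · by_cases h : c = Z.a
    · exact ⟨none, h.symm⟩
    · obtain ⟨u, hu, rfl⟩ := Z.exists_U h
      exact ⟨some ⟨u, hu⟩, rfl⟩

theorem index_B : Z.B.index = 𝐪 ^ 3 + 1 := by
  have : IsPretransitive G Ω := ⟨fun c d => by
    obtain ⟨g, rfl⟩ := Z.exists_smul c
    obtain ⟨k, rfl⟩ := Z.exists_smul d
    exact ⟨k * g⁻¹, by rw [mul_smul, inv_smul_smul]⟩⟩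
  rw [index_stabilizer_of_transitive, Z.card_Ω]

include Z in
theorem card_G : Nat.card G = 𝐪 ^ 3 * (𝐪 - 1) * (𝐪 ^ 3 + 1) := by
  rw [← Z.B.card_mul_index, Z.card_B, Z.index_B]

include Z in
theorem three_le_q : 3 ≤ 𝐪 := by have := Z.q_mod; omega

include Z in
theorem finite : Finite G := Nat.finite_of_card_ne_zero (by
  have := Z.three_le_q
  rw [Z.card_G]
  exact mul_ne_zero (mul_ne_zero (by positivity) (by omega)) (by positivity))

include Z in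
theorem finite_Ω : Finite Ω := Nat.finite_of_card_ne_zero (by rw [Z.card_Ω]; positivity)

end Model

end Cfsg.Agent.Ree
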