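import Mathlib
import Cfsg.Agent.Ree.Basic
import Cfsg.Agent.Ree.Lie2

set_option autoImplicit false
set_option linter.unusedSectionVars false

/-! Fixed points, and the centralisers of the elements that have a fixed point. -/

namespace Cfsg.Agent.Ree

open MulAction Matrix Cfsg.Agent.Chev
open scoped MatrixGroups

namespace Model

variable {G Ω F : Type*} [Group G] [MulAction G Ω] [Field F] [Fintype F] {m : ℕ} (Z : Model G Ω F m)

local notation "𝐪" => Fintype.card F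

@[simp] theorem conj_i (g : G) : (Z.conj g).i = g * Z.i * g⁻¹ := rfl

theorem units_eq {κ : Fˣ} (h : (κ : F) = 1 ∨ (κ : F) = -1) : κ = 1 ∨ κ = -1 :=
  h.imp (fun h => Units.ext h) fun h => Units.ext h

theorem one_of_comm_M {κ : Fˣ} (h1 : κ ≠ 1) (h2 : κ ≠ -1) {u : G} (hu : u ∈ Z.U)
    (h : Z.M κ * u = u * Z.M κ) : u = 1 := by
  obtain ⟨x, y, z, rfl⟩ := hu
  rw [M_mul_S, mul_left_inj, S_eq_iff] at h
  obtain ⟨e1, e2, e3⟩ := h
  rw [S_eq_one_iff]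
  refine ⟨?_, ?_, ?_⟩ <;> by_contra h0
  · exact h1 (Units.ext ((mul_eq_right₀ h0).mp e1))
  · exact (units_eq (Z.of_mul_σ ((mul_eq_right₀ h0).mp e2))).elim h1 h2
  · exact h1 (Units.ext (Z.of_sq_mul_σ ((mul_eq_right₀ h0).mp e3)))

theorem comm_i_iff {x y z : F} : Z.i * Z.S x y z = Z.S x y z * Z.i ↔ x = 0 ∧ z = 0 := by
  have key : ∀ x : F, -x = x ↔ x = 0 := fun x =>
    ⟨fun h => by linear_combination h + x * Z.three, by rintro rfl; simp⟩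
  rw [← mul_inv_eq_iff_eq_mul, i_S, S_eq_iff, key, key]
  simp

theorem comm_of_fix {κ : Fˣ} {u : G} (hu : u ∈ Z.U) (h : Z.M κ • u • Z.b = u • Z.b) :
    Z.M κ * u = u * Z.M κ := by
  rw [← mul_inv_eq_iff_eq_mul]
  refine Z.of_U_b (Z.conj_mem_U (Z.M_a κ) hu) hu ?_
  rw [mul_smul, mul_smul, ← map_inv, M_b, h]

theorem fix_M {κ : Fˣ} (h1 : κ ≠ 1) (h2 : κ ≠ -1) {c : Ω} (h : Z.M κ • c = c) : c = Z.a ∨ c = Z.b := by
  refine or_iff_not_imp_left.mpr fun hc => ?_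
  obtain ⟨u, hu, rfl⟩ := Z.exists_U hc
  rw [Z.one_of_comm_M h1 h2 hu (Z.comm_of_fix hu h), one_smul]

theorem fix_i {c : Ω} : Z.i • c = c ↔ c = Z.a ∨ ∃ y, c = Z.S 0 y 0 • Z.b := by
  refine ⟨fun h => or_iff_not_imp_left.mpr fun hc => ?_, ?_⟩
  · obtain ⟨_, ⟨x, y, z, rfl⟩, rfl⟩ := Z.exists_U hc
    obtain ⟨rfl, rfl⟩ := Z.comm_i_iff.mp (Z.comm_of_fix (Z.S_mem _ _ _) h)
    exact ⟨y, rfl⟩
  · rintro (rfl | ⟨y, rfl⟩)
    · exact Z.M_a _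
    · rw [← mul_smul, Z.comm_i_iff.mpr ⟨rfl, rfl⟩, mul_smul, M_b]

theorem exists_conj_M {κ : Fˣ} (h1 : κ ≠ 1) (h2 : κ ≠ -1) {u : G} (hu : u ∈ Z.U) :
    ∃ v ∈ Z.U, u * Z.M κ = v * Z.M κ * v⁻¹ := by
  have := Z.finite
  let f : Z.U → Z.U := fun v => v * ⟨Z.M κ * v⁻¹ * (Z.M κ)⁻¹, Z.conj_mem_U (Z.M_a κ) (inv_mem v.2)⟩
  have hf : Function.Injective f := fun v w h => by
    have h3 : (v : G) * (Z.M κ * (v : G)⁻¹ * (Z.M κ)⁻¹) = w * (Z.M κ * (w : G)⁻¹ * (Z.M κ)⁻¹) :=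
      congrArg Subtype.val h
    have := Z.one_of_comm_M h1 h2 (mul_mem (inv_mem w.2) v.2) (by
      calc _ = (w : G)⁻¹ * (w * (Z.M κ * (w : G)⁻¹ * (Z.M κ)⁻¹)) * Z.M κ * v := by group
        _ = _ := by rw [← h3]; group)
    exact Subtype.ext (inv_mul_eq_one.mp this).symm
  obtain ⟨v, hv⟩ := Finite.surjective_of_injective hf ⟨u, hu⟩
  have h3 : (v : G) * (Z.M κ * (v : G)⁻¹ * (Z.M κ)⁻¹) = u := congrArg Subtype.val hv
  exact ⟨v, v.2, by rw [← h3]; group⟩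

theorem exists_conj_i (x y z : F) :
    ∃ v ∈ Z.U, Z.S x y z * Z.i = v * (Z.S 0 (y - Z.σ x * x) 0 * Z.i) * v⁻¹ := by
  refine ⟨Z.S (-x) 0 (-z + Z.σ x * x ^ 2 + x * (y - Z.σ x * x)), Z.S_mem _ _ _, ?_⟩
  rw [S_inv, mul_assoc, mul_assoc, mul_inv_eq_iff_eq_mul.mp (Z.i_S _ _ _), ← mul_assoc, ← mul_assoc,
    Z.S_mul, Z.S_mul, mul_left_inj, S_eq_iff]
  simp only [map_neg, map_zero, neg_neg]
  exact ⟨by linear_combination x * Z.three, by linear_combination (Z.σ x * x) * Z.three,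
    by linear_combination (z - x * y) * Z.three⟩

include Z in
/-- the three kinds of elements with a fixed point -/
theorem fix_cases {g : G} {c : Ω} (h : g • c = c) : ∃ Y : Model G Ω F m, Y.a = c ∧
    (g ∈ Y.U ∨ (∃ κ, κ ≠ 1 ∧ κ ≠ -1 ∧ g = Y.M κ) ∨ ∃ y, g = Y.S 0 y 0 * Y.i) := by
  obtain ⟨k, rfl⟩ := Z.exists_smul c
  obtain ⟨x, y, z, κ, e⟩ := ((Z.conj k).stab g).mp h
  rw [← conj_a]
  generalize Z.conj k = Y at e
  subst e
  by_cases h1 : κ = 1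
  · exact ⟨Y, rfl, Or.inl (by rw [h1, map_one, mul_one]; exact Y.S_mem _ _ _)⟩
  by_cases h2 : κ = -1
  · obtain ⟨v, hv, e⟩ := Y.exists_conj_i x y z
    exact ⟨Y.conj v, Y.U_le_B hv, Or.inr (Or.inr ⟨y - Y.σ x * x, by rw [h2, e, conj_S, conj_i]; group⟩)⟩
  · obtain ⟨v, hv, e⟩ := Y.exists_conj_M h1 h2 (Y.S_mem x y z)
    exact ⟨Y.conj v, Y.U_le_B hv, Or.inr (Or.inl ⟨κ, h1, h2, e⟩)⟩

theorem mem_B_of_conj {u g : G} (hu : u ∈ Z.U) (h1 : u ≠ 1) (h : g * u * g⁻¹ ∈ Z.B) : g ∈ Z.B := by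
  have h2 : u • g⁻¹ • Z.a = g⁻¹ • Z.a := by
    rw [mem_stabilizer_iff, mul_smul, mul_smul, smul_eq_iff_eq_inv_smul] at h
    exact h
  exact (inv_mem_iff (H := Z.B)).mp (Z.is_a_of_U hu h1 h2)

theorem mem_B_of_comm {u g : G} (hu : u ∈ Z.U) (h1 : u ≠ 1) (h : g * u = u * g) : g ∈ Z.B :=
  Z.mem_B_of_conj hu h1 (by rw [h, mul_inv_cancel_right]; exact Z.U_le_B hu)

theorem exists_M_t {g : G} (h1 : g • Z.a = Z.b) (h2 : g • Z.b = Z.a) : ∃ κ, g = Z.M κ * Z.t := by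
  obtain ⟨κ, hκ⟩ : g * Z.t ∈ Z.H := Z.mem_H_iff.mpr ⟨by rw [mul_smul, h2], by rw [mul_smul, t_b, h1]⟩
  exact ⟨κ, by rw [hκ, mul_assoc, t_mul_t, mul_one]⟩

theorem mem_of_conj_M {κ : Fˣ} (h1 : κ ≠ 1) (h2 : κ ≠ -1) {g : G} (h : g * Z.M κ * g⁻¹ ∈ Z.H) :
    g ∈ Z.H ∨ ∃ l, g = Z.M l * Z.t := by
  obtain ⟨ha, hb⟩ := Z.mem_H_iff.mp h
  rw [mul_smul, mul_smul, smul_eq_iff_eq_inv_smul] at ha hb
  have hne : g⁻¹ • Z.b ≠ g⁻¹ • Z.a := fun e => Z.ta_ne (MulAction.injective _ e)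
  rcases Z.fix_M h1 h2 ha with e | e <;> rcases Z.fix_M h1 h2 hb with e' | e'
  · exact absurd (e'.trans e.symm) hne
  · exact Or.inl (Z.mem_H_iff.mpr ⟨(inv_smul_eq_iff.mp e).symm, (inv_smul_eq_iff.mp e').symm⟩)
  · exact Or.inr (Z.exists_M_t (inv_smul_eq_iff.mp e').symm (inv_smul_eq_iff.mp e).symm)
  · exact absurd (e'.trans e.symm) hne

theorem M_t_conj (l κ : Fˣ) : Z.M l * Z.t * Z.M κ * (Z.M l * Z.t)⁻¹ = Z.M κ⁻¹ := by
  rw [mul_inv_eq_iff_eq_mul, mul_assoc, t_mul_M, ← mul_assoc, ← mul_assoc, M_comm]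

theorem units_eq_of_inv {κ : Fˣ} (h : κ⁻¹ = κ) : κ = 1 ∨ κ = -1 :=
  units_eq (mul_self_eq_one_iff.mp (by rw [← Units.val_mul]; nth_rewrite 1 [← h]; simp))

theorem centralizer_M {κ : Fˣ} (h1 : κ ≠ 1) (h2 : κ ≠ -1) : Subgroup.centralizer {Z.M κ} = Z.H := by
  ext g
  rw [Subgroup.mem_centralizer_singleton_iff]
  refine ⟨fun h => ?_, by rintro ⟨l, rfl⟩; exact Z.M_comm _ _⟩
  refine (Z.mem_of_conj_M h1 h2 (by rw [h, mul_inv_cancel_right]; exact Z.M_mem κ)).resolve_right ?_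
  rintro ⟨l, rfl⟩
  rw [← mul_inv_eq_iff_eq_mul, M_t_conj] at h
  exact (units_eq_of_inv (Z.M_inj h)).elim h1 h2

theorem M_ne_M_t (κ l : Fˣ) : Z.M κ ≠ Z.M l * Z.t := by
  intro h
  have h1 := Z.M_a κ
  rw [h, mul_smul, M_b] at h1
  exact Z.ta_ne h1

theorem M_t_mul_self (κ : Fˣ) : Z.M κ * Z.t * (Z.M κ * Z.t) = 1 := by
  rw [mul_assoc, ← mul_assoc Z.t, t_mul_M, mul_assoc, t_mul_t, mul_one, ← map_mul, mul_inv_cancel, map_one]

theorem M_t_ne_one (κ : Fˣ) : Z.M κ * Z.t ≠ 1 := fun h => Z.M_ne_M_t 1 κ (by rw [h, map_one])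

/-! ### involutions -/

theorem conj_i_M_t (κ : Fˣ) : ∃ g : G, g * Z.i * g⁻¹ = Z.M κ * Z.t := by
  obtain ⟨l, hl⟩ := Z.sq_or_neg_sq κ
  have h0 : l ≠ 0 := by rintro rfl; rcases hl with h | h <;> simp [eq_comm] at h
  have key : ∀ k : Fˣ, Z.M (Units.mk0 l h0) * (Z.M k * Z.t) * (Z.M (Units.mk0 l h0))⁻¹ =
      Z.M (Units.mk0 l h0 ^ 2 * k) * Z.t := fun k => by
    rw [← map_inv, mul_assoc, mul_assoc, t_mul_M, inv_inv, ← mul_assoc, ← mul_assoc, ← map_mul, ← map_mul,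
      mul_right_comm, sq]
  rcases hl with h | h
  · obtain ⟨g, hg⟩ := Z.conj_t
    refine ⟨Z.M (Units.mk0 l h0) * g, ?_⟩
    rw [show κ = Units.mk0 l h0 ^ 2 * 1 from Units.ext (by simp [h]), ← key, map_one, one_mul, ← hg]
    group
  · obtain ⟨g, hg⟩ := Z.conj_it
    refine ⟨Z.M (Units.mk0 l h0) * g, ?_⟩
    rw [show κ = Units.mk0 l h0 ^ 2 * -1 from Units.ext (by simp [h]), ← key, ← hg]
    group

theorem conj_i_of_invol {s : G} (h1 : s ≠ 1) (h2 : s * s = 1) : ∃ g : G, g * Z.i * g⁻¹ = s := by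
  obtain ⟨c, hc⟩ : ∃ c : Ω, s • c ≠ c := by
    by_contra h; push Not at h; exact h1 (Z.faithful h)
  obtain ⟨g, rfl, hg⟩ := Z.exists_pair hc.symm
  obtain ⟨κ, hκ⟩ := Z.exists_M_t (g := g⁻¹ * s * g) (by rw [mul_smul, mul_smul, ← hg, inv_smul_smul])
    (by rw [mul_smul, mul_smul, hg, ← mul_smul s, h2, one_smul, inv_smul_smul])
  obtain ⟨k, hk⟩ := Z.conj_i_M_t κ
  refine ⟨g * k, ?_⟩
  calc _ = g * (k * Z.i * k⁻¹) * g⁻¹ := by group
    _ = _ := by rw [hk, ← hκ]; group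

include Z in
theorem exists_i_eq {s : G} (h1 : s ≠ 1) (h2 : s * s = 1) : ∃ Y : Model G Ω F m, Y.i = s :=
  let ⟨g, hg⟩ := Z.conj_i_of_invol h1 h2
  ⟨Z.conj g, hg⟩

/-! ### the centraliser of the involution -/

theorem φ_comm_i (h : SL(2, F)) : Z.φ h * Z.i = Z.i * Z.φ h := by
  have hU : ∀ x, Z.φ (slU x) * Z.i = Z.i * Z.φ (slU x) := fun x => by
    rw [Z.φ_U, Z.comm_i_iff.mpr ⟨rfl, rfl⟩]
  have hW : Z.φ slW * Z.i = Z.i * Z.φ slW := by rw [Z.φ_W, t_mul_i]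
  have hm : ∀ g h, Z.φ g * Z.i = Z.i * Z.φ g → Z.φ h * Z.i = Z.i * Z.φ h →
      Z.φ (g * h) * Z.i = Z.i * Z.φ (g * h) := fun g h hg hh => by
    rw [map_mul, mul_assoc, hh, ← mul_assoc, hg, mul_assoc]
  refine sl2_ind (p := fun h => Z.φ h * Z.i = Z.i * Z.φ h) hU (fun x => ?_) hm h
  have eL : slL x = slW * slU (-x) * (slW * slW * slW) := by
    ext i j; fin_cases i <;> fin_cases j <;> simp
  rw [eL]
  exact hm _ _ (hm _ _ hW (hU _)) (hm _ _ (hm _ _ hW hW) hW)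

theorem exists_φ_M (κ : Fˣ) : ∃ h, Z.M κ = Z.φ h ∨ Z.M κ = Z.φ h * Z.i := by
  obtain ⟨l, hl⟩ := Z.exists_sq_eq κ
  have h0 : l ≠ 0 := by
    rintro rfl
    exact mul_ne_zero κ.ne_zero ((map_ne_zero Z.σ).mpr κ.ne_zero) (by rw [← hl]; simp)
  have h1 : (κ * l) ^ 2 = Z.σ l ^ 2 := by rw [← map_pow, hl, map_mul, σσ, mul_pow, hl]; ring
  refine ⟨slH l h0, ?_⟩
  rcases sq_eq_sq_iff_eq_or_eq_neg.mp h1 with h | h
  · exact Or.inl (Z.φ_H l h0 κ h).symm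
  · right
    rw [Z.φ_H l h0 (-κ) (by rw [Units.val_neg, neg_mul, h, neg_neg]), ← map_mul]; simp

theorem exists_φ_of_fix {g : G} (h : g * Z.i = Z.i * g) (ha : g • Z.a = Z.a) :
    ∃ h, g = Z.φ h ∨ g = Z.φ h * Z.i := by
  obtain ⟨x, y, z, κ, rfl⟩ := (Z.stab g).mp ha
  rw [mul_assoc, M_comm, ← mul_assoc, ← mul_assoc, mul_left_inj, eq_comm, comm_i_iff] at h
  obtain ⟨rfl, rfl⟩ := h
  obtain ⟨k, hk⟩ := Z.exists_φ_M κ
  refine ⟨slU y * k, hk.imp (fun e => ?_) fun e => ?_⟩ <;> rw [map_mul, Z.φ_U, e]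
  rw [mul_assoc]

theorem comm_i_iff_φ {g : G} : g * Z.i = Z.i * g ↔ ∃ h, g = Z.φ h ∨ g = Z.φ h * Z.i := by
  refine ⟨fun h => ?_, ?_⟩
  · have h1 : Z.i • g • Z.a = g • Z.a := by rw [← mul_smul, ← h, mul_smul, M_a]
    rcases Z.fix_i.mp h1 with e | ⟨y, e⟩
    · exact Z.exists_φ_of_fix h e
    · obtain ⟨k, hk⟩ := Z.exists_φ_of_fix (g := (Z.φ (slU y * slW))⁻¹ * g) (by
        rw [mul_assoc, h, ← map_inv, ← mul_assoc, φ_comm_i, mul_assoc]) (by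
        rw [mul_smul, e, map_mul, Z.φ_U, Z.φ_W, inv_smul_eq_iff, mul_smul])
      refine ⟨slU y * slW * k, hk.imp (fun e => ?_) fun e => ?_⟩
      · rw [map_mul, ← e, mul_inv_cancel_left]
      · rw [map_mul, mul_assoc, ← e, mul_inv_cancel_left]
  · rintro ⟨h, rfl | rfl⟩
    · exact Z.φ_comm_i h
    · rw [φ_comm_i, mul_assoc, φ_comm_i]

theorem exists_φ_H (l : F) (hl : l ≠ 0) : ∃ κ : Fˣ, κ * l = Z.σ l ∧ Z.φ (slH l hl) = Z.M κ :=
  ⟨Units.mk0 (Z.σ l / l) (by simp [hl]), by simp [hl], Z.φ_H l hl _ (by simp [hl])⟩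

theorem entry_of_fix {h : SL(2, F)} (ha : Z.φ h • Z.a = Z.a) : h.1 1 0 = 0 := by
  by_contra h0
  have e : h = slU (h.1 0 0 / h.1 1 0) * slW * slH (-h.1 1 0) (by simpa using h0) * slU (h.1 1 1 / h.1 1 0) := by
    have := sl_det h
    ext i j; fin_cases i <;> fin_cases j <;> simp <;> field_simp
    linear_combination -this
  obtain ⟨κ, -, hκ⟩ := Z.exists_φ_H (-h.1 1 0) (by simpa using h0)
  rw [e, map_mul, map_mul, map_mul, hκ, Z.φ_U, Z.φ_U, Z.φ_W, mul_smul, mul_smul, mul_smul, S_a, M_a] at ha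
  exact Z.S_b_ne _ _ _ ha

theorem exists_of_entry {h : SL(2, F)} (h0 : h.1 1 0 = 0) :
    ∃ (l : F) (hl : l ≠ 0), h = slU (h.1 0 1 * l) * slH l hl := by
  have := sl_det h
  rw [h0, mul_zero, sub_zero] at this
  have hl := left_ne_zero_of_mul_eq_one this
  refine ⟨h.1 0 0, hl, ?_⟩
  ext i j; fin_cases i <;> fin_cases j <;> simp [h0] <;> field_simp
  linear_combination this

theorem exists_of_φ_eq_M {h : SL(2, F)} {κ : Fˣ} (e : Z.φ h = Z.M κ) :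
    ∃ (l : F) (hl : l ≠ 0), h = slH l hl ∧ κ * l = Z.σ l := by
  obtain ⟨l, hl, e1⟩ := exists_of_entry (Z.entry_of_fix (e ▸ Z.M_a κ))
  obtain ⟨k, hk, e2⟩ := Z.exists_φ_H l hl
  rw [e1, map_mul, Z.φ_U, e2, ← one_mul (Z.M κ)] at e
  obtain ⟨e3, rfl⟩ := Z.S_M_inj (Z.S_mem _ _ _) (one_mem _) e
  refine ⟨l, hl, ?_, hk⟩
  rw [e1, (Z.S_eq_one_iff.mp e3).2.1]
  ext i j; fin_cases i <;> fin_cases j <;> simp

theorem φ_eq_one_iff {h : SL(2, F)} : Z.φ h = 1 ↔ h = 1 ∨ h = -1 := by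
  refine ⟨fun e => ?_, by rintro (rfl | rfl); exacts [map_one _, Z.φ_neg_one]⟩
  obtain ⟨l, hl, rfl, e1⟩ := Z.exists_of_φ_eq_M (κ := 1) (by rw [e, map_one])
  refine (Z.of_σ_eq hl (by simpa using e1.symm)).imp ?_ ?_ <;> rintro rfl <;> ext i j <;>
    fin_cases i <;> fin_cases j <;> simp

theorem φ_eq_iff {h k : SL(2, F)} : Z.φ h = Z.φ k ↔ h = k ∨ h = -k := by
  rw [← mul_inv_eq_one, ← map_inv, ← map_mul, φ_eq_one_iff, mul_inv_eq_one, mul_inv_eq_iff_eq_mul,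
    neg_one_mul]

theorem φ_ne_i (h : SL(2, F)) : Z.φ h ≠ Z.i := fun e => by
  obtain ⟨l, hl, rfl, e1⟩ := Z.exists_of_φ_eq_M e
  have h1 := Z.σσ l
  rw [← e1, map_mul, ← e1] at h1
  simp at h1
  have h2 : l = 1 ∨ l = -1 := sq_eq_one_iff.mp (mul_left_cancel₀ hl (by linear_combination -h1))
  rcases h2 with rfl | rfl <;> simp at e1 <;> exact Z.two_ne (by first | linear_combination -e1 | linear_combination e1)

theorem φ_ne_φ_i (h k : SL(2, F)) : Z.φ h ≠ Z.φ k * Z.i := fun e =>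
  Z.φ_ne_i (k⁻¹ * h) (by rw [map_mul, e, map_inv, inv_mul_cancel_left])

/-- the isomorphism of the centraliser of the involution with `Z₂ × PSL₂(q)` -/
theorem centralizer_i_equiv : Nonempty (Subgroup.centralizer {Z.i} ≃*
    Multiplicative (ZMod 2) × ProjectiveSpecialLinearGroup (Fin 2) F) := by
  have hc : ∀ h : SL(2, F), h ∈ Subgroup.center SL(2, F) ↔ h = 1 ∨ h = -1 := fun h => by
    rw [← Z.φ_eq_one_iff]
    refine ⟨fun hh => ?_, fun hh => ?_⟩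
    · obtain ⟨r, hr, e⟩ := Matrix.SpecialLinearGroup.mem_center_iff.mp hh
      rw [Z.φ_eq_one_iff]
      refine (show r = 1 ∨ r = -1 by simpa using hr).imp ?_ ?_ <;> rintro rfl <;> apply Subtype.ext <;>
        rw [← e] <;> ext i j <;> fin_cases i <;> fin_cases j <;> simp
    · rcases Z.φ_eq_one_iff.mp hh with rfl | rfl
      · exact one_mem _
      · exact Subgroup.mem_center_iff.mpr fun g => by simp
  let ψ : ProjectiveSpecialLinearGroup (Fin 2) F →* G :=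
    QuotientGroup.lift _ Z.φ fun h hh => Z.φ_eq_one_iff.mpr ((hc h).mp hh)
  have hψ : ∀ h : SL(2, F), ψ (QuotientGroup.mk h) = Z.φ h := fun _ => rfl
  let χ : Multiplicative (ZMod 2) →* G := MonoidHom.mk' (fun x => if x = 1 then 1 else Z.i) (by
    have : ∀ x : Multiplicative (ZMod 2), x = 1 ∨ x = Multiplicative.ofAdd 1 := by decide
    intro x y
    rcases this x with rfl | rfl <;> rcases this y with rfl | rfl
    · simp
    · simp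
    · simp
    · rw [if_pos (by decide), if_neg (by decide), i_mul_i])
  have hχ : ∀ x, (x = 1 ∧ χ x = 1) ∨ χ x = Z.i := fun x => by
    by_cases h : x = 1 <;> simp [χ, h]
  let f := χ.noncommCoprod ψ fun x y => by
    obtain ⟨y, rfl⟩ := QuotientGroup.mk_surjective y
    rcases hχ x with ⟨-, h⟩ | h <;> rw [h, hψ]
    exacts [Commute.one_left _, (Z.φ_comm_i y).symm]
  have hf : Function.Injective f := by
    rw [injective_iff_map_eq_one]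
    rintro ⟨x, y⟩ h
    obtain ⟨y, rfl⟩ := QuotientGroup.mk_surjective y
    rw [MonoidHom.noncommCoprod_apply, hψ] at h
    rcases hχ x with ⟨rfl, e⟩ | e <;> rw [e] at h
    · rw [one_mul, φ_eq_one_iff, ← hc] at h
      exact Prod.ext rfl ((QuotientGroup.eq_one_iff _).mpr h)
    · exact absurd (by rw [← Z.i_inv, eq_inv_iff_mul_eq_one, φ_comm_i, h]) (Z.φ_ne_i y)
  have hr : f.range = Subgroup.centralizer {Z.i} := by
    ext g
    rw [Subgroup.mem_centralizer_singleton_iff, comm_i_iff_φ]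
    constructor
    · rintro ⟨⟨x, y⟩, rfl⟩
      obtain ⟨y, rfl⟩ := QuotientGroup.mk_surjective y
      rw [MonoidHom.noncommCoprod_apply, hψ]
      refine ⟨y, (hχ x).imp (fun e => ?_) fun e => ?_⟩
      · rw [e.2, one_mul]
      · rw [e, φ_comm_i]
    · rintro ⟨h, rfl | rfl⟩
      · exact ⟨(1, QuotientGroup.mk h), by simp [f, hψ]⟩
      · exact ⟨(Multiplicative.ofAdd 1, QuotientGroup.mk h), by
          rw [MonoidHom.noncommCoprod_apply, hψ, φ_comm_i]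
          simp [χ, show Multiplicative.ofAdd (1 : ZMod 2) ≠ 1 by decide]⟩
  exact ⟨((MonoidHom.ofInjective hf).trans (MulEquiv.subgroupCongr hr)).symm⟩

end Model

end Cfsg.Agent.Ree
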