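import Mathlib
import Cfsg.Agent.Ree.Fix
import Cfsg.Agent.Classical.SLBasic

set_option autoImplicit false
set_option linter.unusedSectionVars false

/-! The non-split torus of `SL₂(q)` and its image in the Ree group. -/

namespace Cfsg.Agent.Ree

open MulAction Matrix Cfsg.Agent.Chev
open scoped MatrixGroups

section sl2

variable {F : Type*} [Field F]

theorem sl_ext {g h : SL(2, F)} (h1 : g.1 0 0 = h.1 0 0) (h2 : g.1 0 1 = h.1 0 1) (h3 : g.1 1 0 = h.1 1 0)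
    (h4 : g.1 1 1 = h.1 1 1) : g = h := by
  ext i j; fin_cases i <;> fin_cases j <;> assumption

theorem sl_ext_iff {g h : SL(2, F)} : g = h ↔ g.1 0 0 = h.1 0 0 ∧ g.1 0 1 = h.1 0 1 ∧ g.1 1 0 = h.1 1 0 ∧
    g.1 1 1 = h.1 1 1 := ⟨by rintro rfl; simp, fun ⟨h1, h2, h3, h4⟩ => sl_ext h1 h2 h3 h4⟩

theorem sl_mul (g h : SL(2, F)) (i j : Fin 2) : (g * h).1 i j = g.1 i 0 * h.1 0 j + g.1 i 1 * h.1 1 j := by
  simp [mul_apply, Fin.sum_univ_two]

theorem sl_neg (g : SL(2, F)) (i j : Fin 2) : (-g).1 i j = -g.1 i j := by simp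

variable (F) in
/-- the centraliser of the standard monomial matrix -/
def T0 : Subgroup SL(2, F) := Subgroup.centralizer {slW}

theorem mem_T0 {g : SL(2, F)} : g ∈ T0 F ↔ g.1 1 1 = g.1 0 0 ∧ g.1 1 0 = -g.1 0 1 := by
  rw [T0, Subgroup.mem_centralizer_singleton_iff, sl_ext_iff]
  simp only [sl_mul]
  simp
  exact ⟨fun ⟨h1, h2, _, _⟩ => ⟨h2.symm, h1.symm⟩, fun ⟨h1, h2⟩ => ⟨h2.symm, h1.symm, h1, h2⟩⟩

theorem neg_one_mem_T0 : (-1 : SL(2, F)) ∈ T0 F := mem_T0.mpr (by simp)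
theorem slW_mem_T0 : (slW : SL(2, F)) ∈ T0 F := mem_T0.mpr (by simp)

theorem T0_det {g : SL(2, F)} (h : g ∈ T0 F) : g.1 0 0 ^ 2 + g.1 0 1 ^ 2 = 1 := by
  obtain ⟨h1, h2⟩ := mem_T0.mp h
  have := sl_det g
  rw [h1, h2] at this
  linear_combination this

theorem T0_comm {g h : SL(2, F)} (hg : g ∈ T0 F) (hh : h ∈ T0 F) : g * h = h * g := by
  obtain ⟨h1, h2⟩ := mem_T0.mp hg
  obtain ⟨h3, h4⟩ := mem_T0.mp hh
  apply sl_ext <;> simp only [sl_mul, h1, h2, h3, h4] <;> ring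

theorem eq_of_mem_T0 {h : SL(2, F)} (hh : h ∈ T0 F) (h0 : h.1 0 1 = 0) : h = 1 ∨ h = -1 := by
  obtain ⟨h1, h2⟩ := mem_T0.mp hh
  have h3 := T0_det hh
  rw [h0] at h2 h3
  refine (sq_eq_one_iff.mp (by simpa using h3 : h.1 0 0 ^ 2 = 1)).imp (fun e => ?_) fun e => ?_ <;>
    apply sl_ext <;> simp [*]

theorem eq_of_mem_T0' {h : SL(2, F)} (hh : h ∈ T0 F) (h0 : h.1 0 0 = 0) : h = slW ∨ h = -slW := by
  obtain ⟨h1, h2⟩ := mem_T0.mp hh
  have h3 := T0_det hh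
  rw [h0] at h1 h3
  refine (sq_eq_one_iff.mp (by simpa using h3 : h.1 0 1 ^ 2 = 1)).imp (fun e => ?_) fun e => ?_ <;>
    apply sl_ext <;> simp [*]

theorem mem_T0_of_comm {g h : SL(2, F)} (hh : h ∈ T0 F) (h1 : h ≠ 1) (h2 : h ≠ -1) (e : g * h = h * g) :
    g ∈ T0 F := by
  have h0 : h.1 0 1 ≠ 0 := fun h0 => (eq_of_mem_T0 hh h0).elim h1 h2
  obtain ⟨h3, h4⟩ := mem_T0.mp hh
  obtain ⟨e1, e2, -, -⟩ := sl_ext_iff.mp e
  simp only [sl_mul, h3, h4] at e1 e2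
  exact mem_T0.mpr ⟨mul_left_cancel₀ h0 (by linear_combination -e2),
    mul_left_cancel₀ h0 (by linear_combination -e1)⟩

theorem eq_W_of_anticomm (two : (2 : F) ≠ 0) {g h : SL(2, F)} (hh : h ∈ T0 F) (e : g * h = -(h * g)) :
    h = slW ∨ h = -slW := by
  refine eq_of_mem_T0' hh ?_
  obtain ⟨h3, h4⟩ := mem_T0.mp hh
  obtain ⟨e1, e2, e3, e4⟩ := sl_ext_iff.mp e
  simp only [sl_neg, sl_mul, h3, h4] at e1 e2 e3 e4
  have := sl_det g
  apply mul_left_cancel₀ (mul_ne_zero two two)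
  linear_combination g.1 1 1 * e1 + g.1 0 0 * e4 - g.1 1 0 * e2 - g.1 0 1 * e3 - (4 * h.1 0 0) * this

/-- a matrix inverting the non-split torus -/
def s0 (h3 : (3 : F) = 0) : SL(2, F) := ⟨!![1, 1; 1, -1], by simp; linear_combination -h3⟩

@[simp] theorem s0_val (h3 : (3 : F) = 0) : (s0 h3).1 = !![1, 1; 1, -1] := rfl

theorem s0_mul_s0 (h3 : (3 : F) = 0) : s0 h3 * s0 h3 = -1 := by
  apply sl_ext <;> simp [sl_mul] <;> linear_combination h3

theorem s0_inv (h3 : (3 : F) = 0) {h : SL(2, F)} (hh : h ∈ T0 F) : s0 h3 * h * (s0 h3)⁻¹ = h⁻¹ := by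
  obtain ⟨h1, h2⟩ := mem_T0.mp hh
  have h4 := T0_det hh
  rw [mul_inv_eq_iff_eq_mul, eq_inv_mul_iff_mul_eq]
  apply sl_ext <;> simp only [sl_mul, h1, h2] <;> simp <;>
    first | linear_combination h4 | linear_combination -h4

theorem W_inv : (slW : SL(2, F))⁻¹ = -slW := by
  rw [inv_eq_iff_mul_eq_one]
  apply sl_ext <;> simp [sl_mul]

theorem U_conj_W (h3 : (3 : F) = 0) : slU 1 * slW * (slU 1)⁻¹ = -s0 h3 := by
  rw [mul_inv_eq_iff_eq_mul]
  apply sl_ext <;> simp [sl_mul]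
  linear_combination h3

theorem U_conj_s0 (h3 : (3 : F) = 0) : slU 1 * s0 h3 * (slU 1)⁻¹ = -(slW * s0 h3) := by
  rw [mul_inv_eq_iff_eq_mul]
  apply sl_ext <;> simp [sl_mul] <;> first | linear_combination h3 | linear_combination -h3

theorem card_T0 [Fintype F] (hs : ∀ x : F, x ^ 2 ≠ -1) (two : (2 : F) ≠ 0) :
    Nat.card (T0 F) = Fintype.card F + 1 := by
  have h0 : ∀ s : F, 1 + s ^ 2 ≠ 0 := fun s h => hs s (by linear_combination h)
  let f : F → T0 F := fun s => ⟨⟨!![(1 - s ^ 2) / (1 + s ^ 2), 2 * s / (1 + s ^ 2);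
    -(2 * s / (1 + s ^ 2)), (1 - s ^ 2) / (1 + s ^ 2)], by
      have := h0 s
      rw [det_fin_two_of]; field_simp; ring⟩, mem_T0.mpr (by simp)⟩
  have hf : ∀ s, (f s).1.1 0 0 = (1 - s ^ 2) / (1 + s ^ 2) ∧ (f s).1.1 0 1 = 2 * s / (1 + s ^ 2) :=
    fun s => ⟨rfl, rfl⟩
  have h1 : ∀ s, (f s).1.1 0 0 ≠ -1 := fun s h => two (by
    have := h0 s
    rw [(hf s).1] at h; field_simp at h; linear_combination h)
  have h2 : ∀ s, (f s).1.1 0 1 / (1 + (f s).1.1 0 0) = s := fun s => by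
    have := h0 s
    rw [(hf s).1, (hf s).2, show 1 + (1 - s ^ 2) / (1 + s ^ 2) = 2 / (1 + s ^ 2) by field_simp; ring]
    field_simp
  rw [← Nat.card_eq_fintype_card, ← Finite.card_option]
  refine (Nat.card_congr (Equiv.ofBijective (fun p : Option F => p.elim ⟨-1, neg_one_mem_T0⟩ f)
    ⟨?_, fun g => ?_⟩)).symm
  · rintro (_ | s) (_ | s') h
    · rfl
    · exact absurd (by rw [← show _ = f s' from h]; simp) (h1 s')
    · exact absurd (by rw [show f s = _ from h]; simp) (h1 s)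
    · rw [← h2 s, ← h2 s', show f s = f s' from h]
  · obtain ⟨e1, e2⟩ := mem_T0.mp g.2
    have e3 := T0_det g.2
    by_cases h : g.1.1 0 0 = -1
    · refine ⟨none, Subtype.ext ?_⟩
      have e4 : g.1.1 0 1 = 0 := by rw [h] at e3; simpa using e3
      apply sl_ext <;> simp [*]
    · have h' : 1 + g.1.1 0 0 ≠ 0 := fun e => h (by linear_combination e)
      have e4 : 1 + (g.1.1 0 1 / (1 + g.1.1 0 0)) ^ 2 = 2 / (1 + g.1.1 0 0) := by
        field_simp; linear_combination e3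
      have e5 : (f (g.1.1 0 1 / (1 + g.1.1 0 0))).1.1 0 0 = g.1.1 0 0 := by
        rw [(hf _).1, e4]; field_simp; linear_combination -e3
      have e6 : (f (g.1.1 0 1 / (1 + g.1.1 0 0))).1.1 0 1 = g.1.1 0 1 := by
        rw [(hf _).2, e4]; field_simp
      refine ⟨some (g.1.1 0 1 / (1 + g.1.1 0 0)), Subtype.ext (sl_ext e5 e6 ?_ ?_)⟩
      · exact (mem_T0.mp (f _).2).2.trans (by rw [e6, e2])
      · exact (mem_T0.mp (f _).2).1.trans (by rw [e5, e1])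

theorem isCyclic_T0 [Fintype F] (hs : ∀ x : F, x ^ 2 ≠ -1) : IsCyclic (T0 F) := by
  haveI : Fact (∀ r : F, r ^ 2 ≠ -1 + 0 * r) := ⟨by simpa using hs⟩
  haveI : Finite (QuadraticAlgebra F (-1) 0) := Finite.of_equiv _ (QuadraticAlgebra.equivProd _ _).symm
  let f : T0 F →* QuadraticAlgebra F (-1) 0 :=
    { toFun := fun g => ⟨g.1.1 0 0, g.1.1 0 1⟩
      map_one' := by ext <;> simp [QuadraticAlgebra.re_one, QuadraticAlgebra.im_one]
      map_mul' := fun g h => by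
        obtain ⟨h1, h2⟩ := mem_T0.mp h.2
        ext <;> simp only [Subgroup.coe_mul, sl_mul, h1, h2] <;> simp <;> ring }
  refine isCyclic_of_injective_ringHom f fun g h e => Subtype.ext ?_
  have e1 : g.1.1 0 0 = h.1.1 0 0 := congrArg QuadraticAlgebra.re e
  have e2 : g.1.1 0 1 = h.1.1 0 1 := congrArg QuadraticAlgebra.im e
  exact sl_ext e1 e2 (by rw [(mem_T0.mp g.2).2, (mem_T0.mp h.2).2, e2])
    (by rw [(mem_T0.mp g.2).1, (mem_T0.mp h.2).1, e1])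

theorem exists_conj_W (two : (2 : F) ≠ 0) (hs : ∀ x : F, x ^ 2 ≠ -1) (hs' : ∀ x : F, ∃ y : F, y ^ 2 = x ∨ y ^ 2 = -x)
    {h : SL(2, F)} (e : h * h = -1) : ∃ g : SL(2, F), g * slW * g⁻¹ = h ∨ g * slW * g⁻¹ = -h := by
  obtain ⟨e1, e2, e3, e4⟩ := sl_ext_iff.mp e
  simp only [sl_mul, sl_neg] at e1 e2 e3 e4
  simp at e1 e2 e3 e4
  have hc : h.1 1 0 ≠ 0 := fun h0 => hs (h.1 0 0) (by rw [h0] at e1; linear_combination e1)
  have ht : h.1 1 1 = -h.1 0 0 := mul_left_cancel₀ hc (by linear_combination e3)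
  obtain ⟨l, hl⟩ := hs' (h.1 1 0)⁻¹
  rcases hl with hl | hl
  · obtain ⟨g, hg⟩ : ∃ g : SL(2, F), g.1 = !![l, l * h.1 0 0; 0, l * h.1 1 0] := ⟨⟨_, by
      rw [det_fin_two_of]; field_simp at hl; linear_combination hl⟩, rfl⟩
    refine ⟨g, Or.inr (mul_inv_eq_iff_eq_mul.mpr ?_)⟩
    apply sl_ext <;> simp only [sl_mul, sl_neg, hg, ht] <;> simp <;> first | ring1 | linear_combination l * e1
  · obtain ⟨g, hg⟩ : ∃ g : SL(2, F), g.1 = !![l, -(l * h.1 0 0); 0, -(l * h.1 1 0)] := ⟨⟨_, by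
      rw [det_fin_two_of]; field_simp at hl; linear_combination -hl⟩, rfl⟩
    refine ⟨g, Or.inl (mul_inv_eq_iff_eq_mul.mpr ?_)⟩
    apply sl_ext <;> simp only [sl_mul, sl_neg, hg, ht] <;> simp <;> first | ring1 | linear_combination l * e1

theorem eq_of_sq (two : (2 : F) ≠ 0) {h : SL(2, F)} (e : h * h = 1) : h = 1 ∨ h = -1 := by
  obtain ⟨e1, e2, e3, e4⟩ := sl_ext_iff.mp e
  simp only [sl_mul] at e1 e2 e3 e4
  simp at e1 e2 e3 e4
  have hd := sl_det h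
  have ht : h.1 0 0 + h.1 1 1 ≠ 0 := fun h0 => two (by linear_combination -e1 - hd + h.1 0 0 * h0)
  have h1 : h.1 0 1 = 0 := mul_left_cancel₀ ht (by linear_combination e2)
  have h2 : h.1 1 0 = 0 := mul_left_cancel₀ ht (by linear_combination e3)
  have h3 : h.1 1 1 = h.1 0 0 := mul_left_cancel₀ ht (by linear_combination e4 - e1)
  exact eq_of_mem_T0 (mem_T0.mpr ⟨h3, by rw [h1, h2, neg_zero]⟩) h1

end sl2

end Cfsg.Agent.Ree
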