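import Mathlib
import Cfsg.Agent.Ree.SL2T
import Cfsg.Agent.Ree.Count
import Cfsg.Agent.Chev.Tw2

set_option autoImplicit false
set_option linter.unusedSectionVars false

/-! The 2-local structure of a small Ree group. -/

namespace Cfsg.Agent.Ree

open MulAction Matrix Cfsg.Agent.Chev
open scoped MatrixGroups

namespace Model

variable {G Ω F : Type*} [Group G] [MulAction G Ω] [Field F] [Fintype F] {m : ℕ} (Z : Model G Ω F m)

local notation "𝐪" => Fintype.card F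

theorem φ_i_mul (h k : SL(2, F)) : Z.φ h * Z.i * Z.φ k = Z.φ (h * k) * Z.i := by
  rw [mul_assoc, ← φ_comm_i, map_mul, mul_assoc]

theorem φ_i_mul_i (h k : SL(2, F)) : Z.φ h * Z.i * (Z.φ k * Z.i) = Z.φ (h * k) := by
  rw [← mul_assoc, φ_i_mul, mul_assoc, i_mul_i, mul_one]

theorem φ_mul_i (h k : SL(2, F)) : Z.φ h * (Z.φ k * Z.i) = Z.φ (h * k) * Z.i := by
  rw [← mul_assoc, map_mul]

theorem φ_i_inv (h : SL(2, F)) : (Z.φ h * Z.i)⁻¹ = Z.φ h⁻¹ * Z.i := by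
  rw [inv_eq_iff_mul_eq_one, φ_i_mul_i, mul_inv_cancel, map_one]

/-- the subgroup of the centraliser of the involution attached to a subgroup of `SL₂` -/
def lift (T : Subgroup SL(2, F)) : Subgroup G where
  carrier := {g | ∃ h ∈ T, g = Z.φ h ∨ g = Z.φ h * Z.i}
  one_mem' := ⟨1, one_mem _, Or.inl (map_one _).symm⟩
  mul_mem' := by
    rintro _ _ ⟨h, hh, rfl | rfl⟩ ⟨k, hk, rfl | rfl⟩ <;> refine ⟨h * k, mul_mem hh hk, ?_⟩
    exacts [Or.inl (map_mul _ _ _).symm, Or.inr (Z.φ_mul_i _ _), Or.inr (Z.φ_i_mul _ _),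
      Or.inl (Z.φ_i_mul_i _ _)]
  inv_mem' := by
    rintro _ ⟨h, hh, rfl | rfl⟩ <;> refine ⟨h⁻¹, inv_mem hh, ?_⟩
    exacts [Or.inl (map_inv _ _).symm, Or.inr (Z.φ_i_inv _)]

theorem mem_lift {T : Subgroup SL(2, F)} {g : G} : g ∈ Z.lift T ↔ ∃ h ∈ T, g = Z.φ h ∨ g = Z.φ h * Z.i :=
  Iff.rfl

theorem φ_mem_lift {T : Subgroup SL(2, F)} {h : SL(2, F)} (hh : h ∈ T) : Z.φ h ∈ Z.lift T := ⟨h, hh, Or.inl rfl⟩
theorem i_mem_lift (T : Subgroup SL(2, F)) : Z.i ∈ Z.lift T := ⟨1, one_mem _, Or.inr (by simp)⟩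

theorem card_map_φ {T : Subgroup SL(2, F)} (h : -1 ∈ T) : 2 * Nat.card (T.map Z.φ) = Nat.card T := by
  rw [← card_map_mul Z.φ T]
  congr 1
  have e : ((T ⊓ Z.φ.ker : Subgroup SL(2, F)) : Set SL(2, F)) = {1, -1} := by
    ext g
    simp only [SetLike.mem_coe, Subgroup.mem_inf, MonoidHom.mem_ker, φ_eq_one_iff, Set.mem_insert_iff,
      Set.mem_singleton_iff, and_iff_right_iff_imp]
    rintro (rfl | rfl)
    exacts [one_mem _, h]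
  rw [← SetLike.coe_sort_coe, e, Nat.card_coe_set_eq, Set.ncard_pair]
  intro e
  have := (sl_ext_iff.mp e).1
  simp at this
  exact Z.two_ne (by linear_combination this)

theorem card_lift {T : Subgroup SL(2, F)} (h : -1 ∈ T) : Nat.card (Z.lift T) = Nat.card T := by
  have := Z.finite
  rw [← Z.card_map_φ h, two_mul, ← Nat.card_sum]
  refine (Nat.card_congr (Equiv.ofBijective (Sum.elim
    (fun g : T.map Z.φ => (⟨g, by obtain ⟨_, k, hk, rfl⟩ := g; exact Z.φ_mem_lift hk⟩ : Z.lift T))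
    (fun g : T.map Z.φ => (⟨g * Z.i, by obtain ⟨_, k, hk, rfl⟩ := g; exact ⟨k, hk, Or.inr rfl⟩⟩ : Z.lift T)))
    ⟨?_, ?_⟩)).symm
  · rintro (⟨_, k, hk, rfl⟩ | ⟨_, k, hk, rfl⟩) (⟨_, l, hl, rfl⟩ | ⟨_, l, hl, rfl⟩) e
    · exact congrArg _ (Subtype.ext (congrArg Subtype.val e :))
    · exact absurd (congrArg Subtype.val e) (Z.φ_ne_φ_i _ _)
    · exact absurd (congrArg Subtype.val e).symm (Z.φ_ne_φ_i _ _)
    · exact congrArg _ (Subtype.ext (mul_right_cancel (congrArg Subtype.val e :)))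
  · rintro ⟨_, k, hk, rfl | rfl⟩
    exacts [⟨.inl ⟨_, k, hk, rfl⟩, rfl⟩, ⟨.inr ⟨_, k, hk, rfl⟩, rfl⟩]

theorem centralizer_i : Subgroup.centralizer {Z.i} = Z.lift ⊤ := by
  ext g
  simp [Subgroup.mem_centralizer_singleton_iff, comm_i_iff_φ, mem_lift]

theorem card_centralizer_i : Nat.card (Subgroup.centralizer {Z.i}) = 𝐪 * (𝐪 ^ 2 - 1) := by
  rw [centralizer_i, Z.card_lift (Subgroup.mem_top _), Subgroup.card_top, Classical.SLBasic.card_SL_two,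
    Nat.card_eq_fintype_card]

theorem exists_sq {T : Subgroup SL(2, F)} {g : G} (hg : g ∈ Z.lift T) :
    ∃ h ∈ T, (g = Z.φ h ∨ g = Z.φ h * Z.i) ∧ g * g = Z.φ (h * h) := by
  obtain ⟨h, hh, rfl | rfl⟩ := hg
  exacts [⟨h, hh, Or.inl rfl, (map_mul _ _ _).symm⟩, ⟨h, hh, Or.inr rfl, Z.φ_i_mul_i _ _⟩]

include Z in
theorem sq_eq_one_of_pow_four {g : G} (h : g ^ 4 = 1) : g ^ 2 = 1 := by
  by_contra h1
  obtain ⟨Y, hY⟩ := Z.exists_i_eq h1 (by rw [← pow_add, h])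
  obtain ⟨k, -, -, hk⟩ := Y.exists_sq (T := ⊤) (g := g) (by
    rw [← centralizer_i, Subgroup.mem_centralizer_singleton_iff, hY]; group)
  exact Y.φ_ne_i _ (by rw [← hk, hY, sq])

include Z in
theorem sq_eq_one_of_two_pow {g : G} {k : ℕ} (h : g ^ 2 ^ k = 1) : g ^ 2 = 1 := by
  induction k generalizing g with
  | zero => rw [pow_zero, pow_one] at h; rw [h, one_pow]
  | succ k ih =>
    rw [pow_succ', pow_mul] at h
    exact Z.sq_eq_one_of_pow_four (by rw [show 4 = 2 * 2 from rfl, pow_mul, ih h])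

theorem conj_φ_of_mem {g : G} (hg : g * Z.i = Z.i * g) (h : SL(2, F)) : ∃ k, g * Z.φ h * g⁻¹ = Z.φ (k * h * k⁻¹) ∧
    (g = Z.φ k ∨ g = Z.φ k * Z.i) := by
  obtain ⟨k, rfl | rfl⟩ := Z.comm_i_iff_φ.mp hg
  · exact ⟨k, by simp, Or.inl rfl⟩
  · exact ⟨k, by rw [φ_i_inv, φ_i_mul, φ_i_mul_i], Or.inr rfl⟩

include Z in
theorem no_swap {a b g : G} (ha : a * a = 1) (hb : b * b = 1) (hab : a * b = b * a) (hne : a ≠ b)
    (h1 : g * a * g⁻¹ = b) (h2 : g * b * g⁻¹ = a) : False := by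
  obtain ⟨Y, hY⟩ := Z.exists_i_eq (s := a * b) (fun e => hne (by
    rw [eq_inv_of_mul_eq_one_left e, inv_eq_of_mul_eq_one_right hb])) (by
    rw [mul_assoc, ← mul_assoc b, ← hab, mul_assoc, hb, mul_one, ha])
  have hg : g * Y.i = Y.i * g := by
    rw [hY, ← mul_inv_eq_iff_eq_mul, ← conj_mul, h1, h2, hab]
  obtain ⟨h, e | e⟩ := Y.comm_i_iff_φ.mp (show a * Y.i = Y.i * a by rw [hY, mul_assoc, hab])
  · obtain ⟨k, hk, -⟩ := Y.conj_φ_of_mem hg h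
    refine Y.φ_ne_φ_i _ h (hk.symm.trans ?_)
    rw [← e, h1, hY, ← mul_assoc, ha, one_mul]
  · obtain ⟨k, hk, -⟩ := Y.conj_φ_of_mem hg h
    have e2 : b = Y.φ h := by
      rw [← mul_one (Y.φ h), ← Y.i_mul_i, ← mul_assoc, ← e, hY, ← mul_assoc, ha, one_mul]
    exact Y.φ_ne_φ_i _ h (by rw [← hk, ← e, ← e2, h2])

theorem conj_t_of_φ {h : SL(2, F)} (h1 : Z.φ h ≠ 1) (h2 : Z.φ h * Z.φ h = 1) :
    ∃ k, Z.φ k * Z.t * (Z.φ k)⁻¹ = Z.φ h := by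
  rw [← map_mul, φ_eq_one_iff] at h2
  rcases h2 with e | e
  · exact absurd (Z.φ_eq_one_iff.mpr (eq_of_sq Z.two_ne e)) h1
  · obtain ⟨k, hk⟩ := exists_conj_W Z.two_ne Z.sq_ne_neg_one Z.sq_or_neg_sq e
    exact ⟨k, by rw [← Z.φ_W, ← map_inv, ← map_mul, ← map_mul, φ_eq_iff]; exact hk⟩

theorem pair_conj {a b : G} (ha1 : a ≠ 1) (ha : a * a = 1) (hb1 : b ≠ 1) (hb : b * b = 1) (hab : a * b = b * a)
    (hne : a ≠ b) : ∃ g : G, g * Z.i * g⁻¹ = a ∧ (g * Z.t * g⁻¹ = b ∨ g * (Z.t * Z.i) * g⁻¹ = b) := by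
  obtain ⟨g, rfl⟩ := Z.conj_i_of_invol ha1 ha
  obtain ⟨h, e | e⟩ := (Z.conj g).comm_i_iff_φ.mp hab.symm
  · obtain ⟨k, hk⟩ := (Z.conj g).conj_t_of_φ (e ▸ hb1) (e ▸ hb)
    refine ⟨g * Z.φ k, by rw [mul_assoc g, φ_comm_i]; group, Or.inl ?_⟩
    rw [e, ← hk, conj_φ, conj_t']; group
  · obtain ⟨k, hk⟩ := (Z.conj g).conj_t_of_φ (h := h) (fun e' => hne (by rw [e, e', one_mul, conj_i]))
      (by rw [← map_mul, ← φ_i_mul_i, ← e, hb])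
    refine ⟨g * Z.φ k, by rw [mul_assoc g, φ_comm_i]; group, Or.inr ?_⟩
    rw [e, ← hk, conj_φ, conj_t', conj_i]
    calc _ = g * Z.φ k * Z.t * (Z.i * Z.φ k⁻¹) * g⁻¹ := by rw [map_inv]; group
      _ = _ := by rw [← φ_comm_i, map_inv]; group

theorem t_ne_i : Z.t ≠ Z.i := Z.φ_W ▸ Z.φ_ne_i _
theorem t_ne_ti : Z.t ≠ Z.t * Z.i := Z.φ_W ▸ Z.φ_ne_φ_i _ _
theorem i_ne_ti : Z.i ≠ Z.t * Z.i := fun h => Z.t_ne_one (by simpa using h)
theorem ti_ne_one : Z.t * Z.i ≠ 1 := fun h => Z.t_ne_i (by rw [eq_inv_of_mul_eq_one_left h, i_inv])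
theorem ti_mul_ti : Z.t * Z.i * (Z.t * Z.i) = 1 := by rw [← Z.φ_W, φ_i_mul_i, map_mul, Z.φ_W, t_mul_t]

theorem exists_ω : ∃ g : G, g * Z.i * g⁻¹ = Z.t ∧ g * Z.t * g⁻¹ = Z.t * Z.i ∧ g * (Z.t * Z.i) * g⁻¹ = Z.i := by
  obtain ⟨g, h1, h2 | h2⟩ := Z.pair_conj Z.t_ne_one Z.t_mul_t Z.i_ne_one Z.i_mul_i Z.t_mul_i Z.t_ne_i
  · exact (Z.no_swap Z.i_mul_i Z.t_mul_t Z.t_mul_i.symm Z.t_ne_i.symm h1 h2).elim
  · refine ⟨g, h1, ?_, h2⟩
    calc _ = g * (Z.t * Z.i) * g⁻¹ * (g * Z.i * g⁻¹) := by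
          rw [conj_mul, mul_assoc Z.t, i_mul_i, mul_one]
      _ = _ := by rw [h1, h2, t_mul_i]

/-- the torus of order `q + 1` -/
abbrev D : Subgroup G := Z.lift (T0 F)
/-- an involution inverting the torus -/
abbrev j : G := Z.φ (s0 Z.three)
/-- the centraliser of the four-group -/
abbrev E : Subgroup G := Subgroup.centralizer {Z.i} ⊓ Subgroup.centralizer {Z.t}

theorem mem_E {g : G} : g ∈ Z.E ↔ g * Z.i = Z.i * g ∧ g * Z.t = Z.t * g := by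
  simp [Subgroup.mem_centralizer_singleton_iff]

theorem card_D : Nat.card Z.D = 𝐪 + 1 := by
  rw [Z.card_lift neg_one_mem_T0, card_T0 Z.sq_ne_neg_one Z.two_ne]

theorem t_mem_D : Z.t ∈ Z.D := Z.φ_W ▸ Z.φ_mem_lift slW_mem_T0
theorem i_mem_D : Z.i ∈ Z.D := Z.i_mem_lift _

theorem D_comm {g h : G} (hg : g ∈ Z.D) (hh : h ∈ Z.D) : g * h = h * g := by
  obtain ⟨g, hg, rfl | rfl⟩ := hg <;> obtain ⟨h, hh, rfl | rfl⟩ := hh
  · rw [← map_mul, T0_comm hg hh, map_mul]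
  · rw [φ_mul_i, φ_i_mul, T0_comm hg hh]
  · rw [φ_mul_i, φ_i_mul, T0_comm hg hh]
  · rw [φ_i_mul_i, φ_i_mul_i, T0_comm hg hh]

theorem D_le_E : Z.D ≤ Z.E := fun _ h => Z.mem_E.mpr ⟨Z.D_comm h Z.i_mem_D, Z.D_comm h Z.t_mem_D⟩

theorem j_mul_j : Z.j * Z.j = 1 := by rw [← map_mul, s0_mul_s0, φ_neg_one]

theorem j_inv : Z.j⁻¹ = Z.j := inv_eq_of_mul_eq_one_right Z.j_mul_j

theorem j_conj {g : G} (hg : g ∈ Z.D) : Z.j * g * Z.j⁻¹ = g⁻¹ := by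
  obtain ⟨g, hg, rfl | rfl⟩ := hg
  · rw [← map_inv, ← map_mul, ← map_mul, s0_inv _ hg, map_inv]
  · rw [← map_inv, φ_mul_i, φ_i_mul, s0_inv _ hg, φ_i_inv]

theorem j_mul {g : G} (hg : g ∈ Z.D) : Z.j * g = g⁻¹ * Z.j := mul_inv_eq_iff_eq_mul.mp (Z.j_conj hg)

theorem j_mem_E : Z.j ∈ Z.E := Z.mem_E.mpr ⟨Z.φ_comm_i _, by rw [Z.j_mul Z.t_mem_D, t_inv]⟩

theorem j_notMem_D : Z.j ∉ Z.D := by
  rintro ⟨h, hh, e | e⟩
  · have : s0 Z.three ∈ T0 F := by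
      rcases Z.φ_eq_iff.mp e with e | e <;> rw [e]
      · exact hh
      · rw [← neg_one_mul]; exact mul_mem neg_one_mem_T0 hh
    have := (mem_T0.mp this).1
    simp at this
    exact Z.two_ne (by linear_combination -this)
  · exact Z.φ_ne_φ_i _ _ e

theorem mem_E_iff {g : G} : g ∈ Z.E ↔ g ∈ Z.D ∨ g * Z.j ∈ Z.D := by
  refine ⟨fun h => ?_, fun h => h.elim (fun h => Z.D_le_E h) fun h => ?_⟩
  · obtain ⟨h1, h2⟩ := Z.mem_E.mp h
    obtain ⟨k, e1, e2⟩ := Z.conj_φ_of_mem h1 slW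
    rw [Z.φ_W, h2, mul_inv_cancel_right, ← Z.φ_W, eq_comm, φ_eq_iff] at e1
    refine e1.imp (fun e => ⟨k, Subgroup.mem_centralizer_singleton_iff.mpr (mul_inv_eq_iff_eq_mul.mp e), e2⟩)
      fun e => ⟨k * s0 Z.three, Subgroup.mem_centralizer_singleton_iff.mpr ?_, ?_⟩
    · rw [mul_assoc, mul_inv_eq_iff_eq_mul.mp (s0_inv _ slW_mem_T0), W_inv, neg_mul, mul_neg, ← mul_assoc,
        mul_inv_eq_iff_eq_mul.mp e, neg_mul, neg_mul, neg_neg, mul_assoc]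
    · exact e2.imp (fun e => by rw [e, map_mul]) fun e => by rw [e, φ_i_mul]
  · simpa [mul_assoc, j_mul_j] using mul_mem (Z.D_le_E h) Z.j_mem_E

theorem card_E : Nat.card Z.E = 2 * (𝐪 + 1) := by
  have := Z.finite
  rw [← Z.card_D, two_mul, ← Nat.card_sum]
  refine (Nat.card_congr (Equiv.ofBijective (Sum.elim (fun g : Z.D => (⟨g, Z.D_le_E g.2⟩ : Z.E))
    (fun g : Z.D => (⟨g * Z.j, mul_mem (Z.D_le_E g.2) Z.j_mem_E⟩ : Z.E))) ⟨?_, ?_⟩)).symm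
  · have key : ∀ g h : Z.D, (g : G) ≠ h * Z.j := fun g h e =>
      Z.j_notMem_D (by simpa [e] using mul_mem (inv_mem h.2) g.2)
    rintro (g | g) (h | h) e
    · exact congrArg _ (Subtype.ext (congrArg Subtype.val e :))
    · exact absurd (congrArg Subtype.val e) (key _ _)
    · exact absurd (congrArg Subtype.val e).symm (key _ _)
    · exact congrArg _ (Subtype.ext (mul_right_cancel (congrArg Subtype.val e :)))
  · rintro ⟨g, hg⟩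
    rcases Z.mem_E_iff.mp hg with h | h
    exacts [⟨.inl ⟨g, h⟩, rfl⟩, ⟨.inr ⟨_, h⟩, Subtype.ext (by simp [mul_assoc, j_mul_j])⟩]

theorem sq_of_notMem_D {g : G} (h : g ∈ Z.E) (h' : g ∉ Z.D) : g * g = 1 := by
  have h1 := (Z.mem_E_iff.mp h).resolve_left h'
  have h2 := Z.j_mul h1
  rw [_root_.mul_inv_rev, j_inv, mul_assoc, mul_right_inj, mul_left_inj] at h2
  exact mul_eq_one_iff_eq_inv.mpr h2

theorem invol_D {g : G} (h : g ∈ Z.D) (h2 : g * g = 1) : g = 1 ∨ g = Z.i ∨ g = Z.t ∨ g = Z.t * Z.i := by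
  obtain ⟨k, hk, e, e2⟩ := Z.exists_sq h
  rw [e2, φ_eq_one_iff] at h2
  rcases h2 with h2 | h2
  · rw [Z.φ_eq_one_iff.mpr (eq_of_sq Z.two_ne h2), one_mul] at e
    tauto
  · have h3 := eq_W_of_anticomm Z.two_ne (g := s0 Z.three) hk (by
      rw [mul_inv_eq_iff_eq_mul.mp (s0_inv _ hk), ← neg_mul, inv_eq_of_mul_eq_one_right
        (show k * -k = 1 by rw [mul_neg, h2, neg_neg])])
    rw [Z.φ_eq_iff.mpr h3, Z.φ_W] at e
    tauto

theorem mem_D_of_comm {y g : G} (hy : y ∈ Z.D) (h2 : y * y ≠ 1) (hi : g * Z.i = Z.i * g) (h : g * y = y * g) :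
    g ∈ Z.D := by
  obtain ⟨k, hk, e, e2⟩ := Z.exists_sq hy
  obtain ⟨l, e3, e4⟩ := Z.conj_φ_of_mem hi k
  have e5 : g * Z.φ k = Z.φ k * g := by
    rcases e with rfl | rfl
    · exact h
    · rwa [← mul_assoc, mul_assoc (Z.φ k), ← hi, ← mul_assoc, mul_left_inj] at h
  rw [e5, mul_inv_cancel_right, eq_comm, φ_eq_iff, mul_inv_eq_iff_eq_mul, mul_inv_eq_iff_eq_mul] at e3
  rcases e3 with e3 | e3
  · refine ⟨l, mem_T0_of_comm hk ?_ ?_ e3, e4⟩ <;> rintro rfl <;> simp [e2] at h2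
  · exfalso
    apply h2
    rcases eq_W_of_anticomm Z.two_ne hk (by rw [e3, neg_mul]) with rfl | rfl <;>
      simp [e2, φ_neg, Z.φ_W, t_mul_t]

end Model

end Cfsg.Agent.Ree
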