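import Mathlib
import Cfsg.Agent.Ree.Two

set_option autoImplicit false
set_option linter.unusedSectionVars false

/-! The torus of order `q + 1` of a small Ree group. -/

namespace Cfsg.Agent.Ree

open MulAction Matrix Cfsg.Agent.Chev Cfsg.Agent.RankOne
open scoped MatrixGroups

namespace Model

variable {G Ω F : Type*} [Group G] [MulAction G Ω] [Field F] [Fintype F] {m : ℕ} (Z : Model G Ω F m)

local notation "𝐪" => Fintype.card F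
local notation "𝐧" => (Fintype.card F + 1) / 4

include Z in
theorem four_n : 4 * 𝐧 = 𝐪 + 1 := by have := Z.q_mod; omega

include Z in
theorem odd_n : Odd 𝐧 := by have := Z.q_mod; exact Nat.odd_iff.mpr (by omega)

include Z in
theorem coprime_n : Nat.Coprime 𝐧 (𝐪 ^ 3 * (𝐪 - 1)) := by
  have h1 := Z.four_n
  have h2 := Z.three_le_q
  refine Nat.Coprime.mul_right (Nat.Coprime.pow_right _ ?_) ?_
  · exact Nat.Coprime.coprime_dvd_left (Dvd.intro_left _ h1) (by simp)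
  · apply Nat.coprime_of_dvd
    intro p hp h3 h4
    have h5 : p ∣ 2 := by
      have := Nat.dvd_sub (h1 ▸ h3.mul_left 4) h4
      rwa [show 𝐪 + 1 - (𝐪 - 1) = 2 by omega] at this
    obtain rfl := (Nat.prime_dvd_prime_iff_eq hp Nat.prime_two).mp h5
    exact (Nat.not_even_iff_odd.mpr Z.odd_n) (even_iff_two_dvd.mpr h3)

theorem pow_of_mem_B {g : G} (h : g ∈ Z.B) : g ^ (𝐪 ^ 3 * (𝐪 - 1)) = 1 := Z.card_B ▸ pow_card_eq_one_of_mem h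

theorem S_i_sq (y : F) : Z.S 0 y 0 * Z.i * (Z.S 0 y 0 * Z.i) = Z.S 0 (-y) 0 := by
  rw [mul_assoc, ← mul_assoc Z.i, Z.comm_i_iff.mpr ⟨rfl, rfl⟩, mul_assoc, i_mul_i, mul_one, Z.S_mul, S_eq_iff]
  exact ⟨by simp, by linear_combination y * Z.three, by simp⟩

include Z in
theorem pow_of_comm_fix {x y : G} {c : Ω} (h1 : x * x ≠ 1) (hc : x • c = c) (h : y * x = x * y) :
    y ^ (𝐪 ^ 3 * (𝐪 - 1)) = 1 := by
  obtain ⟨Y, -, h2 | ⟨κ, h2, h3, rfl⟩ | ⟨z, rfl⟩⟩ := Z.fix_cases hc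
  · exact Y.pow_of_mem_B (Y.mem_B_of_comm h2 (by rintro rfl; simp at h1) h)
  · exact Y.pow_of_mem_B (Y.H_le_B (Y.centralizer_M h2 h3 ▸ Subgroup.mem_centralizer_singleton_iff.mpr h))
  · refine Y.pow_of_mem_B (Y.mem_B_of_comm (Y.S_i_sq z ▸ Y.S_mem _ _ _) h1 ?_)
    rw [← mul_assoc, h, mul_assoc _ y, h, ← mul_assoc]

include Z in
theorem exists_fix_of_prime {g : G} {p k : ℕ} (hp : p.Prime) (h : g ^ p ^ k = 1) (hq : ¬ p ∣ 𝐪 ^ 3 + 1) :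
    ∃ c : Ω, g • c = c := by
  have := Z.finite
  obtain ⟨x, hx⟩ := exists_conj_mem hp (Z.index_B ▸ hq) h
  rw [mem_stabilizer_iff, mul_smul, mul_smul, smul_eq_iff_eq_inv_smul] at hx
  exact ⟨_, hx⟩

include Z in
theorem three_not_dvd : ¬ 3 ∣ 𝐪 ^ 3 + 1 := fun h =>
  absurd ((Nat.dvd_add_right (dvd_pow Z.three_dvd_q (by norm_num))).mp h) (by norm_num)

include Z in
theorem pow_of_comm_three {x y : G} (h3 : 3 ∣ orderOf x) (h : y * x = x * y) :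
    y ^ (𝐪 ^ 3 * (𝐪 - 1)) = 1 := by
  have := Z.finite
  have h1 := orderOf_pow_orderOf_div (orderOf_pos x).ne' h3
  obtain ⟨c, hc⟩ := Z.exists_fix_of_prime (k := 1) Nat.prime_three (by
    rw [pow_one, ← h1, pow_orderOf_eq_one]) Z.three_not_dvd
  refine Z.pow_of_comm_fix (fun e => ?_) hc (Commute.pow_right h _)
  have := orderOf_dvd_of_pow_eq_one (sq (x ^ (orderOf x / 3)) ▸ e)
  rw [h1] at this
  exact absurd this (by norm_num)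

/-- the elements of odd order of the torus -/
def A : Subgroup G where
  carrier := {g | g ∈ Z.D ∧ g ^ 𝐧 = 1}
  one_mem' := ⟨one_mem _, one_pow _⟩
  mul_mem' := fun ha hb => ⟨mul_mem ha.1 hb.1, by
    rw [Commute.mul_pow (Z.D_comm ha.1 hb.1), ha.2, hb.2, one_mul]⟩
  inv_mem' := fun ha => ⟨inv_mem ha.1, by rw [inv_pow, ha.2, inv_one]⟩

/-- the four-group -/
def V : Subgroup G where
  carrier := {g | g ∈ Z.D ∧ g * g = 1}
  one_mem' := ⟨one_mem _, one_mul _⟩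
  mul_mem' := fun ha hb => ⟨mul_mem ha.1 hb.1, by
    rw [← sq, Commute.mul_pow (Z.D_comm ha.1 hb.1), sq, sq, ha.2, hb.2, one_mul]⟩
  inv_mem' := fun ha => ⟨inv_mem ha.1, by rw [← _root_.mul_inv_rev, ha.2, inv_one]⟩

theorem mem_A {g : G} : g ∈ Z.A ↔ g ∈ Z.D ∧ g ^ 𝐧 = 1 := Iff.rfl
theorem A_le_D : Z.A ≤ Z.D := fun _ h => h.1
theorem V_le_D : Z.V ≤ Z.D := fun _ h => h.1
theorem i_mem_V : Z.i ∈ Z.V := ⟨Z.i_mem_D, Z.i_mul_i⟩
theorem t_mem_V : Z.t ∈ Z.V := ⟨Z.t_mem_D, Z.t_mul_t⟩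

theorem mem_V {g : G} : g ∈ Z.V ↔ g = 1 ∨ g = Z.i ∨ g = Z.t ∨ g = Z.t * Z.i :=
  ⟨fun h => Z.invol_D h.1 h.2, by
    rintro (rfl | rfl | rfl | rfl)
    exacts [one_mem _, Z.i_mem_V, Z.t_mem_V, mul_mem Z.t_mem_V Z.i_mem_V]⟩

theorem card_V : Nat.card Z.V = 4 := by
  have e : (Z.V : Set G) = {1, Z.i, Z.t, Z.t * Z.i} := Set.ext fun _ => Z.mem_V
  rw [← SetLike.coe_sort_coe, e, Nat.card_coe_set_eq, Set.ncard_insert_of_notMem, Set.ncard_insert_of_notMem,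
    Set.ncard_pair Z.t_ne_ti]
  · simp [Z.t_ne_i.symm, Z.t_ne_one]
  · simp [Z.i_ne_one.symm, Z.t_ne_one.symm, Z.ti_ne_one.symm]

theorem φ_pow_two_n {h : SL(2, F)} (hh : h ∈ T0 F) : Z.φ (h * h) ^ 𝐧 = 1 := by
  rw [← map_pow, φ_eq_one_iff]
  apply eq_of_sq Z.two_ne
  rw [← sq, ← sq, ← pow_mul, ← pow_mul, show 2 * (𝐧 * 2) = 4 * 𝐧 by ring, Z.four_n,
    ← card_T0 Z.sq_ne_neg_one Z.two_ne]
  exact pow_card_eq_one_of_mem hh

theorem sq_mem_A {g : G} (hg : g ∈ Z.D) : g * g ∈ Z.A := by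
  obtain ⟨h, hh, -, e⟩ := Z.exists_sq hg
  exact ⟨mul_mem hg hg, e ▸ Z.φ_pow_two_n hh⟩

theorem pow_mem_V {g : G} (hg : g ∈ Z.D) : g ^ 𝐧 ∈ Z.V :=
  ⟨pow_mem hg _, by rw [← Commute.mul_pow rfl, (Z.sq_mem_A hg).2]⟩

theorem pow_two_n {g : G} (hg : g ∈ Z.D) : g ^ (2 * 𝐧) = 1 := by rw [pow_mul, sq, (Z.sq_mem_A hg).2]

theorem exists_A_V {g : G} (hg : g ∈ Z.D) : ∃ a ∈ Z.A, ∃ v ∈ Z.V, g = a * v := by
  obtain ⟨k, hk⟩ := Z.odd_n
  refine ⟨(g * g) ^ (k + 1), pow_mem (Z.sq_mem_A hg) _, (g ^ 𝐧)⁻¹, inv_mem (Z.pow_mem_V hg), ?_⟩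
  rw [hk, ← sq]; group

theorem mem_A_of_odd {g : G} (hg : g ∈ Z.D) (h : Odd (orderOf g)) : g ∈ Z.A := by
  obtain ⟨k, hk⟩ := h
  rw [← eq_pow_of_odd (x := g) (k := k) (hk ▸ pow_orderOf_eq_one g)]
  exact pow_mem (Z.sq_mem_A hg) _

theorem odd_of_mem_A {g : G} (hg : g ∈ Z.A) : Odd (orderOf g) :=
  Z.odd_n.of_dvd_nat (orderOf_dvd_of_pow_eq_one hg.2)

theorem sq_ne_one_of_mem_A {g : G} (hg : g ∈ Z.A) (h1 : g ≠ 1) : g * g ≠ 1 := fun h =>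
  h1 (eq_one_of_odd_orderOf (Z.odd_of_mem_A hg) h)

theorem card_A : Nat.card Z.A = 𝐧 := by
  have := card_eq_mul_of Z.A_le_D Z.V_le_D (fun y h1 h2 => by
    by_contra h; exact Z.sq_ne_one_of_mem_A h1 h h2.2) fun y hy => Z.exists_A_V hy
  rw [card_D, card_V] at this
  omega

theorem isCyclic_A : IsCyclic Z.A := by
  have := isCyclic_T0 Z.sq_ne_neg_one
  have := isCyclic_of_surjective _ (Z.φ.subgroupMap_surjective (T0 F))
  refine Subgroup.isCyclic_of_le (H' := (T0 F).map Z.φ) fun g hg => ?_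
  obtain ⟨k, hk⟩ := Z.odd_n
  obtain ⟨h, hh, -, e⟩ := Z.exists_sq hg.1
  rw [← eq_pow_of_odd (x := g) (k := k) (hk ▸ hg.2), e]
  exact pow_mem (Subgroup.mem_map_of_mem _ (mul_mem hh hh)) _

/-- the normaliser of the four-group -/
abbrev NV : Subgroup G := Subgroup.normalizer (Z.V : Set G)

theorem comm_V {g v : G} (hg : g ∈ Z.E) (hv : v ∈ Z.V) : g * v = v * g := by
  obtain ⟨h1, h2⟩ := Z.mem_E.mp hg
  rcases Z.mem_V.mp hv with rfl | rfl | rfl | rfl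
  · simp
  · exact h1
  · exact h2
  · rw [← mul_assoc, h2, mul_assoc, h1, mul_assoc]

theorem E_le_NV : Z.E ≤ Z.NV := fun g hg => by
  have := Z.finite
  exact mem_normalizer_of_conj fun x hx => by rwa [Z.comm_V hg hx, mul_inv_cancel_right]

theorem mem_NV_of {g : G} (h1 : g * Z.i * g⁻¹ ∈ Z.V) (h2 : g * Z.t * g⁻¹ ∈ Z.V) : g ∈ Z.NV := by
  have := Z.finite
  refine mem_normalizer_of_conj fun x hx => ?_
  rcases Z.mem_V.mp hx with rfl | rfl | rfl | rfl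
  · simp
  · exact h1
  · exact h2
  · rw [← conj_mul]; exact mul_mem h2 h1

theorem conj_mem_V {g x : G} (hg : g ∈ Z.NV) (hx : x ∈ Z.V) : g * x * g⁻¹ ∈ Z.V :=
  (Subgroup.mem_normalizer_iff.mp hg x).mp hx

theorem conj_mem_E {g x : G} (hg : g ∈ Z.NV) (hx : x ∈ Z.E) : g * x * g⁻¹ ∈ Z.E := by
  have key : ∀ v ∈ Z.V, g * x * g⁻¹ * v = v * (g * x * g⁻¹) := fun v hv => by
    have := Z.comm_V hx (Z.conj_mem_V (inv_mem hg) hv)
    calc _ = g * (x * (g⁻¹ * v * g⁻¹⁻¹)) * g⁻¹ := by group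
      _ = _ := by rw [this]; group
  exact Z.mem_E.mpr ⟨key _ Z.i_mem_V, key _ Z.t_mem_V⟩

theorem conj_mem_D {g x : G} (hg : g ∈ Z.NV) (hx : x ∈ Z.D) : g * x * g⁻¹ ∈ Z.D := by
  by_contra h
  have h1 := Z.sq_of_notMem_D (Z.conj_mem_E hg (Z.D_le_E hx)) h
  rw [conj_mul, conj_eq_one_iff] at h1
  exact h (Z.V_le_D (Z.conj_mem_V hg ⟨hx, h1⟩))

theorem conj_mem_A {g x : G} (hg : g ∈ Z.NV) (hx : x ∈ Z.A) : g * x * g⁻¹ ∈ Z.A :=
  ⟨Z.conj_mem_D hg hx.1, by rw [conj_pow, hx.2]; simp⟩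

theorem mem_E_of_NV {g : G} (hg : g ∈ Z.NV) (h : g * Z.i = Z.i * g) : g ∈ Z.E := by
  refine Z.mem_E.mpr ⟨h, mul_inv_eq_iff_eq_mul.mp ?_⟩
  rcases Z.mem_V.mp (Z.conj_mem_V hg Z.t_mem_V) with e | e | e | e
  · exact absurd (conj_eq_one_iff.mp e) Z.t_ne_one
  · exact absurd (by simpa using e.trans (mul_inv_eq_iff_eq_mul.mpr h).symm) Z.t_ne_i
  · exact e
  · obtain ⟨k, hk, -⟩ := Z.conj_φ_of_mem h slW
    rw [Z.φ_W, e, ← Z.φ_W] at hk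
    exact absurd hk.symm (Z.φ_ne_φ_i _ _)

theorem exists_NV {v : G} (hv : v ∈ Z.V) (h1 : v ≠ 1) : ∃ g ∈ Z.NV, g * Z.i * g⁻¹ = v := by
  obtain ⟨ω, e1, e2, e3⟩ := Z.exists_ω
  have hω := Z.mem_NV_of (e1 ▸ Z.t_mem_V) (e2 ▸ mul_mem Z.t_mem_V Z.i_mem_V)
  rcases Z.mem_V.mp hv with rfl | rfl | rfl | rfl
  · exact absurd rfl h1
  · exact ⟨1, one_mem _, by simp⟩
  · exact ⟨ω, hω, e1⟩
  · exact ⟨ω * ω, mul_mem hω hω, by rw [← e2, ← e1]; group⟩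

theorem card_NV : Nat.card Z.NV = 6 * (𝐪 + 1) := by
  have h1 : (fun g => g * Z.i * g⁻¹) '' (Z.NV : Set G) = {Z.i, Z.t, Z.t * Z.i} := by
    ext v
    constructor
    · rintro ⟨g, hg, rfl⟩
      exact (Z.mem_V.mp (Z.conj_mem_V hg Z.i_mem_V)).resolve_left fun e => Z.i_ne_one (conj_eq_one_iff.mp e)
    · intro h
      refine Z.exists_NV (Z.mem_V.mpr (Or.inr h)) ?_
      rcases h with rfl | rfl | rfl
      exacts [Z.i_ne_one, Z.t_ne_one, Z.ti_ne_one]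
  have h2 : Z.NV ⊓ Subgroup.centralizer {Z.i} = Z.E := le_antisymm
    (fun g hg => Z.mem_E_of_NV hg.1 (Subgroup.mem_centralizer_singleton_iff.mp hg.2))
    (le_inf Z.E_le_NV inf_le_left)
  rw [card_eq_conj_mul Z.NV Z.i, h1, h2, card_E, Set.ncard_insert_of_notMem, Set.ncard_pair Z.t_ne_ti]
  · ring
  · simp [Z.t_ne_i.symm, Z.t_ne_one]

theorem mem_D_of_comm_V {y g v : G} (hy : y ∈ Z.D) (h2 : y * y ≠ 1) (hv : v ∈ Z.V) (h1 : v ≠ 1)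
    (hg : g * v = v * g) (h : g * y = y * g) : g ∈ Z.D := by
  obtain ⟨k, hk, rfl⟩ := Z.exists_NV hv h1
  have := Z.conj_mem_D hk (Z.mem_D_of_comm (g := k⁻¹ * g * k⁻¹⁻¹) (Z.conj_mem_D (inv_mem hk) hy)
    (by rwa [conj_mul, Ne, conj_eq_one_iff]) (by
      calc _ = k⁻¹ * (g * (k * Z.i * k⁻¹)) * k := by group
        _ = _ := by rw [hg]; group) (by rw [conj_mul, conj_mul, h]))
  simpa [mul_assoc] using this

theorem mem_NV_of_D {g : G} (h : ∀ x ∈ Z.D, g * x * g⁻¹ ∈ Z.D) : g ∈ Z.NV :=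
  Z.mem_NV_of ⟨h _ Z.i_mem_D, by rw [conj_mul, i_mul_i]; simp⟩ ⟨h _ Z.t_mem_D, by rw [conj_mul, t_mul_t]; simp⟩

theorem three_dvd_of_NV {g : G} (hg : g ∈ Z.NV) (h : g ∉ Z.E) : 3 ∣ orderOf g := by
  have := Z.finite
  have h1 : ∀ v ∈ Z.V, v ≠ 1 → g * v * g⁻¹ ≠ v := fun v hv h1 e => h (by
    obtain ⟨k, hk, rfl⟩ := Z.exists_NV hv h1
    have := Z.conj_mem_E hk (Z.mem_E_of_NV (g := k⁻¹ * g * k) (mul_mem (mul_mem (inv_mem hk) hg) hk) (by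
      rw [← mul_inv_eq_iff_eq_mul]
      calc _ = k⁻¹ * (g * (k * Z.i * k⁻¹) * g⁻¹) * k := by group
        _ = _ := by rw [e]; group))
    simpa [mul_assoc] using this)
  have h2 : ∀ v ∈ Z.V, v ≠ 1 → g * (g * v * g⁻¹) * g⁻¹ ≠ v := fun v hv h3 e =>
    Z.no_swap hv.2 (Z.conj_mem_V hg hv).2 (Z.D_comm hv.1 (Z.conj_mem_V hg hv).1) (h1 v hv h3).symm rfl e
  have h3 : g * (g * (g * Z.i * g⁻¹) * g⁻¹) * g⁻¹ = Z.i := by
    have a1 := Z.conj_mem_V hg Z.i_mem_V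
    have a2 := Z.conj_mem_V hg a1
    have a3 := Z.conj_mem_V hg a2
    have b1 : g * Z.i * g⁻¹ ≠ 1 := by simpa using Z.i_ne_one
    have b2 : g * (g * Z.i * g⁻¹) * g⁻¹ ≠ 1 := by simpa using Z.i_ne_one
    have b3 : g * (g * (g * Z.i * g⁻¹) * g⁻¹) * g⁻¹ ≠ 1 := by simpa using Z.i_ne_one
    have c1 := h1 _ Z.i_mem_V Z.i_ne_one
    have c2 := h1 _ a1 b1
    have c3 := h1 _ a2 b2
    have d1 := h2 _ Z.i_mem_V Z.i_ne_one
    have d2 := h2 _ a1 b1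
    rw [mem_V] at a1 a2 a3
    grind
  by_contra h4
  have h5 : Nat.Coprime 3 (orderOf g) := (Nat.Prime.coprime_iff_not_dvd Nat.prime_three).mpr h4
  obtain ⟨k, hk⟩ := exists_pow_eq_self_of_coprime h5
  have h6 : Commute (g ^ 3) Z.i := mul_inv_eq_iff_eq_mul.mp (Eq.trans (by simp [pow_succ, mul_assoc]) h3)
  exact h1 _ Z.i_mem_V Z.i_ne_one (mul_inv_eq_iff_eq_mul.mpr (hk ▸ h6.pow_left k))

theorem centralizer_A {y : G} (hy : y ∈ Z.A) (h1 : y ≠ 1) : Subgroup.centralizer {y} = Z.D := by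
  have := Z.finite
  have h2 := Z.sq_ne_one_of_mem_A hy h1
  have hD : Z.D ≤ Subgroup.centralizer {y} := fun g hg =>
    Subgroup.mem_centralizer_singleton_iff.mpr (Z.D_comm hg hy.1)
  have key : ∀ g ∈ Subgroup.centralizer {y}, g * Z.i * g⁻¹ ∈ Z.V → g ∈ Z.D := fun g hg h => by
    have h3 : g ∈ Z.NV := Z.mem_NV_of_D fun x hx => Z.mem_D_of_comm_V hy.1 h2 h (by simpa using Z.i_ne_one)
      (by rw [conj_mul, conj_mul, Z.D_comm hx Z.i_mem_D])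
      (Subgroup.mem_centralizer_singleton_iff.mp (mul_mem (mul_mem hg (hD hx)) (inv_mem hg)))
    rw [Subgroup.mem_centralizer_singleton_iff] at hg
    refine Z.mem_D_of_comm hy.1 h2 (Z.mem_E.mp ?_).1 hg
    by_contra h4
    exact h1 (eq_one_of_coprime Z.coprime_n hy.2 (Z.pow_of_comm_three (Z.three_dvd_of_NV h3 h4) hg.symm))
  refine le_antisymm (fun g hg => key g hg ?_) hD
  have hs : g * Z.i * g⁻¹ * (g * Z.i * g⁻¹) = 1 := by rw [conj_mul, i_mul_i]; simp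
  have hs' : g * Z.i * g⁻¹ ∈ Subgroup.centralizer {y} := mul_mem (mul_mem hg (hD Z.i_mem_D)) (inv_mem hg)
  have hp := fun k : ℕ => pow_mem (mul_mem hs' (hD Z.t_mem_D)) k
  rcases Nat.even_or_odd (orderOf (g * Z.i * g⁻¹ * Z.t)) with h | h
  · obtain ⟨k, e1, e2, e3, e4⟩ := exists_central_involution hs Z.t_mul_t h
    have h3 := Z.mem_D_of_comm_V hy.1 h2 Z.t_mem_V Z.t_ne_one e4.symm
      (Subgroup.mem_centralizer_singleton_iff.mp (hp k))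
    exact ⟨Z.mem_D_of_comm_V hy.1 h2 ⟨h3, e2⟩ e1 e3 (Subgroup.mem_centralizer_singleton_iff.mp hs'), hs⟩
  · obtain ⟨k, hk⟩ := exists_conj_of_odd hs Z.t_mul_t h
    have e : ((g * Z.i * g⁻¹ * Z.t) ^ k)⁻¹ * g * Z.i * (((g * Z.i * g⁻¹ * Z.t) ^ k)⁻¹ * g)⁻¹ = Z.t := by
      refine Eq.trans ?_ hk
      group
    have h3 := key _ (mul_mem (inv_mem (hp k)) hg) (by rw [e]; exact Z.t_mem_V)
    rw [Z.D_comm h3 Z.i_mem_D, mul_inv_cancel_right] at e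
    exact absurd e.symm Z.t_ne_i

theorem mem_NV_of_conj_A {g y : G} (hy : y ∈ Z.A) (h1 : y ≠ 1) (h : g * y * g⁻¹ ∈ Z.A) : g ∈ Z.NV :=
  Z.mem_NV_of_D fun x hx => by
    rw [← Z.centralizer_A h (by simpa using h1)]
    exact conj_mem_centralizer (Z.centralizer_A hy h1 ▸ hx)

theorem normalizer_le_A {A₀ : Subgroup G} (h : A₀ ≤ Z.A) (h1 : A₀ ≠ ⊥) :
    Subgroup.normalizer (A₀ : Set G) = Z.NV := by
  have := Z.finite
  refine le_antisymm (fun g hg => ?_) (le_trans (fun g hg => ?_) (normalizer_le_of_cyclic Z.isCyclic_A h))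
  · obtain ⟨⟨y, hy⟩, h2⟩ := Subgroup.ne_bot_iff_exists_ne_one.mp h1
    exact Z.mem_NV_of_conj_A (h hy) (fun e => h2 (Subtype.ext e))
      (h ((Subgroup.mem_normalizer_iff.mp hg y).mp hy))
  · exact mem_normalizer_of_conj fun x hx => Z.conj_mem_A hg hx

end Model

end Cfsg.Agent.Ree
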