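import Mathlib
import Cfsg.Agent.Ree.Quarter

set_option autoImplicit false
set_option linter.unusedSectionVars false

/-! The Sylow 2- and 3-subgroups of a small Ree group. -/

namespace Cfsg.Agent.Ree

open MulAction Matrix Cfsg.Agent.Chev Cfsg.Agent.RankOne
open scoped MatrixGroups Pointwise

theorem exists_conj_sylow {G : Type*} [Group G] [Finite G] {p : ℕ} [Fact p.Prime] {H : Subgroup G}
    (h1 : IsPGroup p H) (h2 : ¬ p ∣ H.index) (P : Sylow p G) :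
    ∃ g : G, ∀ x, x ∈ (P : Subgroup G) ↔ g⁻¹ * x * g ∈ H := by
  obtain ⟨g, rfl⟩ := exists_smul_eq G (h1.toSylow h2) P
  refine ⟨g, fun x => ?_⟩
  rw [Sylow.coe_subgroup_smul, Subgroup.mem_pointwise_smul_iff_inv_smul_mem]
  simp

namespace Model

variable {G Ω F : Type*} [Group G] [MulAction G Ω] [Field F] [Fintype F] {m : ℕ} (Z : Model G Ω F m)

local notation "𝐪" => Fintype.card F
local notation "𝐧" => (Fintype.card F + 1) / 4

theorem index_U : Z.U.index = (𝐪 - 1) * (𝐪 ^ 3 + 1) := by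
  have h := Z.U.card_mul_index
  rw [Z.card_U, Z.card_G, mul_assoc] at h
  exact mul_left_cancel₀ (by have := Z.three_le_q; positivity) h

theorem three_not_dvd_index : ¬ 3 ∣ Z.U.index := by
  rw [index_U, Nat.prime_three.dvd_mul]
  have h1 := Z.three_dvd_q
  have h2 := Z.three_le_q
  have h3 := Z.three_not_dvd
  omega

theorem isPGroup_U : IsPGroup 3 Z.U :=
  IsPGroup.of_card (n := (2 * m + 1) * 3) (by rw [Z.card_U, Z.card_F, pow_mul])

include Z in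
theorem exists_sylow_three (P : Sylow 3 G) : ∃ Y : Model G Ω F m, (P : Subgroup G) = Y.U := by
  have := Z.finite
  obtain ⟨g, hg⟩ := exists_conj_sylow Z.isPGroup_U Z.three_not_dvd_index P
  exact ⟨Z.conj g, Subgroup.ext fun x => (hg x).trans Z.mem_conj_U.symm⟩

theorem mem_U_iff_pow {g : G} (hg : g ∈ Z.B) : g ∈ Z.U ↔ g ^ 9 = 1 := by
  refine ⟨by rintro ⟨x, y, z, rfl⟩; exact Z.S_pow_nine _ _ _, fun h => ?_⟩
  have := Z.finite
  obtain ⟨k, hk⟩ := exists_conj_mem Nat.prime_three (H := Z.U.subgroupOf Z.B) (x := ⟨g, hg⟩) (k := 2)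
    (fun h => Z.three_not_dvd_index (h.trans (Subgroup.relIndex_dvd_index_of_le Z.U_le_B))) (Subtype.ext h)
  simpa [mul_assoc] using Z.conj_mem_U (inv_mem k.2) hk

theorem U_eq_of_a_eq (Y : Model G Ω F m) (h : Y.a = Z.a) : Y.U = Z.U := by
  have e : Y.B = Z.B := by rw [B, h]
  ext g
  exact ⟨fun hg => (Z.mem_U_iff_pow (e ▸ Y.U_le_B hg)).mpr ((Y.mem_U_iff_pow (Y.U_le_B hg)).mp hg),
    fun hg => (Y.mem_U_iff_pow (e ▸ Z.U_le_B hg)).mpr ((Z.mem_U_iff_pow (Z.U_le_B hg)).mp hg)⟩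

include Z in
theorem sylow_three_TI (P Q : Sylow 3 G) (h : P ≠ Q) : (P : Subgroup G) ⊓ (Q : Subgroup G) = ⊥ := by
  obtain ⟨X, hX⟩ := Z.exists_sylow_three P
  obtain ⟨Y, hY⟩ := Z.exists_sylow_three Q
  rw [eq_bot_iff]
  intro g hg
  by_contra h1
  apply h
  rw [Sylow.ext_iff, hX, hY]
  rw [hX, hY] at hg
  exact Y.U_eq_of_a_eq X (Y.is_a_of_U hg.2 h1 (X.U_le_B hg.1))

theorem normalizer_U : Subgroup.normalizer (Z.U : Set G) = Z.B := by
  have := Z.finite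
  refine le_antisymm (fun g hg => Z.mem_B_of_conj (Z.S_mem 1 0 0) (by simp [S_eq_one_iff])
    (Z.U_le_B ((Subgroup.mem_normalizer_iff.mp hg _).mp (Z.S_mem _ _ _))))
    fun g hg => mem_normalizer_of_conj fun x hx => Z.conj_mem_U hg hx

/-- a Sylow 2-subgroup -/
abbrev P : Subgroup G := Z.E ⊓ Subgroup.centralizer {Z.j}

theorem mem_P {g : G} : g ∈ Z.P ↔ g * Z.i = Z.i * g ∧ g * Z.t = Z.t * g ∧ g * Z.j = Z.j * g := by
  simp [Subgroup.mem_centralizer_singleton_iff, and_assoc]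

theorem V_le_P : Z.V ≤ Z.P := fun _ h =>
  ⟨Z.D_le_E h.1, Subgroup.mem_centralizer_singleton_iff.mpr (Z.comm_V Z.j_mem_E h).symm⟩

theorem j_mem_P : Z.j ∈ Z.P := ⟨Z.j_mem_E, Subgroup.mem_centralizer_singleton_iff.mpr rfl⟩

theorem mem_P_iff {g : G} : g ∈ Z.P ↔ g ∈ Z.V ∨ g * Z.j ∈ Z.V := by
  have key : ∀ g ∈ Z.P, g ∈ Z.D → g ∈ Z.V := fun g h1 h2 => ⟨h2, by
    have := Z.j_mul h2
    rw [← (Z.mem_P.mp h1).2.2, mul_left_inj] at this
    exact mul_eq_one_iff_eq_inv.mpr this⟩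
  refine ⟨fun h => (Z.mem_E_iff.mp h.1).imp (key g h) (key _ (mul_mem h Z.j_mem_P)), ?_⟩
  rintro (h | h)
  · exact Z.V_le_P h
  · simpa [mul_assoc, j_mul_j] using mul_mem (Z.V_le_P h) Z.j_mem_P

theorem sq_of_mem_P {g : G} (h : g ∈ Z.P) : g * g = 1 := by
  by_cases h1 : g ∈ Z.D
  · rcases Z.mem_P_iff.mp h with h2 | h2
    · exact h2.2
    · exact absurd (by simpa using mul_mem (inv_mem h1) h2.1) Z.j_notMem_D
  · exact Z.sq_of_notMem_D h.1 h1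

theorem P_comm {g h : G} (hg : g ∈ Z.P) (hh : h ∈ Z.P) : g * h = h * g := by
  rw [← inv_eq_of_mul_self (Z.sq_of_mem_P (mul_mem hg hh)), _root_.mul_inv_rev,
    inv_eq_of_mul_self (Z.sq_of_mem_P hg), inv_eq_of_mul_self (Z.sq_of_mem_P hh)]

theorem centralizer_P : Subgroup.centralizer (Z.P : Set G) = Z.P :=
  le_antisymm (fun _ h => Z.mem_P.mpr ⟨(h _ (Z.V_le_P Z.i_mem_V)).symm, (h _ (Z.V_le_P Z.t_mem_V)).symm,
    (h _ Z.j_mem_P).symm⟩) fun _ h _ hx => Z.P_comm hx h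

theorem card_P : Nat.card Z.P = 8 := by
  have := Z.finite
  rw [show 8 = 4 + 4 from rfl, ← Z.card_V, ← Nat.card_sum]
  refine (Nat.card_congr (Equiv.ofBijective (Sum.elim (fun g : Z.V => (⟨g, Z.V_le_P g.2⟩ : Z.P))
    (fun g : Z.V => (⟨g * Z.j, mul_mem (Z.V_le_P g.2) Z.j_mem_P⟩ : Z.P))) ⟨?_, ?_⟩)).symm
  · have key : ∀ g h : Z.V, (g : G) ≠ h * Z.j := fun g h e =>
      Z.j_notMem_D (by simpa [e] using mul_mem (inv_mem h.2.1) g.2.1)
    rintro (g | g) (h | h) e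
    · exact congrArg _ (Subtype.ext (congrArg Subtype.val e :))
    · exact absurd (congrArg Subtype.val e) (key _ _)
    · exact absurd (congrArg Subtype.val e).symm (key _ _)
    · exact congrArg _ (Subtype.ext (mul_right_cancel (congrArg Subtype.val e :)))
  · rintro ⟨g, hg⟩
    rcases Z.mem_P_iff.mp hg with h | h
    exacts [⟨.inl ⟨g, h⟩, rfl⟩, ⟨.inr ⟨_, h⟩, Subtype.ext (by simp [mul_assoc, j_mul_j])⟩]

include Z in
theorem cube_add_one : 𝐪 ^ 3 + 1 = (𝐪 + 1) * (𝐪 ^ 2 - 𝐪 + 1) := by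
  have : 𝐪 ≤ 𝐪 ^ 2 := Nat.le_self_pow two_ne_zero _
  zify [this]; ring

include Z in
theorem odd_N : Odd (𝐪 ^ 2 - 𝐪 + 1) := by
  rw [sq, ← Nat.mul_sub_one]; exact (Nat.even_mul_pred_self _).add_one

theorem odd_index_P : Odd Z.P.index := by
  have h := Z.P.card_mul_index
  have h1 := Z.q_mod
  have h2 : 𝐪 - 1 = 2 * (𝐪 / 2) := by omega
  rw [Z.card_P, Z.card_G, Z.cube_add_one, ← Z.four_n, h2] at h
  rw [show Z.P.index = 𝐪 ^ 3 * (𝐪 / 2) * (𝐧 * (𝐪 ^ 2 - 𝐪 + 1)) by linarith]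
  exact ((Odd.pow (Nat.odd_iff.mpr (by omega))).mul (Nat.odd_iff.mpr (by omega))).mul (Z.odd_n.mul Z.odd_N)

theorem isPGroup_P : IsPGroup 2 Z.P := IsPGroup.of_card (n := 3) Z.card_P

theorem two_not_dvd_index_P : ¬ 2 ∣ Z.P.index := Z.odd_index_P.not_two_dvd_nat

theorem mem_conj_P {g x : G} : x ∈ (Z.conj g).P ↔ g⁻¹ * x * g ∈ Z.P := by
  have key : ∀ s : G, x * (g * s * g⁻¹) = g * s * g⁻¹ * x ↔ g⁻¹ * x * g * s = s * (g⁻¹ * x * g) := fun s => by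
    rw [← mul_right_inj g⁻¹, ← mul_left_inj g]; simp [mul_assoc]
  simp only [mem_P, conj_i, conj_t', j, conj_φ, key]

include Z in
theorem exists_sylow_two (P : Sylow 2 G) : ∃ Y : Model G Ω F m, (P : Subgroup G) = Y.P := by
  have := Z.finite
  obtain ⟨g, hg⟩ := exists_conj_sylow Z.isPGroup_P Z.two_not_dvd_index_P P
  exact ⟨Z.conj g, Subgroup.ext fun x => (hg x).trans Z.mem_conj_P.symm⟩

/-- the normaliser of the Sylow 2-subgroup -/
abbrev NP : Subgroup G := Subgroup.normalizer (Z.P : Set G)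

theorem conj_mem_P {g x : G} (hg : g ∈ Z.NP) (hx : x ∈ Z.P) : g * x * g⁻¹ ∈ Z.P :=
  (Subgroup.mem_normalizer_iff.mp hg x).mp hx

theorem exists_NP {x : G} (hx : x ∈ Z.P) (h1 : x ≠ 1) : ∃ g ∈ Z.NP, g * Z.i * g⁻¹ = x := by
  have := Z.finite
  obtain ⟨g, rfl⟩ := Z.conj_i_of_invol h1 (Z.sq_of_mem_P hx)
  obtain ⟨n, hn, e⟩ := (Z.isPGroup_P.toSylow Z.two_not_dvd_index_P).conj_eq_normalizer_conj_of_mem_centralizer
    Z.i g⁻¹ (Z.centralizer_P.ge (Z.V_le_P Z.i_mem_V)) (Z.centralizer_P.ge (by simpa using hx))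
  exact ⟨n⁻¹, inv_mem hn, by simpa using e.symm⟩

theorem φ_U_conj : Z.φ (slU 1) * Z.t * (Z.φ (slU 1))⁻¹ = Z.j ∧ Z.φ (slU 1) * Z.j * (Z.φ (slU 1))⁻¹ = Z.t * Z.j := by
  rw [← Z.φ_W, ← map_inv, ← map_mul, ← map_mul, ← map_mul, ← map_mul, U_conj_W Z.three, U_conj_s0 Z.three,
    φ_neg, φ_neg, map_mul]
  exact ⟨rfl, rfl⟩

theorem φ_U_mem_NP : Z.φ (slU 1) ∈ Z.NP := by
  have := Z.finite
  have ht := Z.V_le_P Z.t_mem_V
  have hi := Z.V_le_P Z.i_mem_V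
  have hV : ∀ v ∈ Z.V, Z.φ (slU 1) * v * (Z.φ (slU 1))⁻¹ ∈ Z.P := fun v hv => by
    rcases Z.mem_V.mp hv with rfl | rfl | rfl | rfl
    · simp
    · rwa [φ_comm_i, mul_inv_cancel_right]
    · exact Z.φ_U_conj.1 ▸ Z.j_mem_P
    · rw [← conj_mul, Z.φ_U_conj.1, φ_comm_i, mul_inv_cancel_right]; exact mul_mem Z.j_mem_P hi
  refine mem_normalizer_of_conj fun x hx => ?_
  rcases Z.mem_P_iff.mp hx with h | h
  · exact hV x h
  · have := hV _ h
    rwa [← conj_mul, Z.φ_U_conj.2, Subgroup.mul_mem_cancel_right _ (mul_mem ht Z.j_mem_P)] at this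

theorem NP_inf_E : Z.NP ⊓ Z.E = Z.P := by
  have key : ∀ g ∈ Z.NP, g ∈ Z.D → g ∈ Z.V := fun g h1 h2 => ⟨h2, by
    have h3 := Z.conj_mem_P h1 Z.j_mem_P
    rw [mul_assoc, Z.j_mul (inv_mem h2), inv_inv, ← mul_assoc,
      Subgroup.mul_mem_cancel_right _ Z.j_mem_P] at h3
    rw [← sq]
    exact Z.sq_eq_one_of_pow_four (by rw [← Z.sq_of_mem_P h3]; simp [pow_succ, mul_assoc])⟩
  refine le_antisymm (fun g hg => Z.mem_P_iff.mpr ((Z.mem_E_iff.mp hg.2).imp (key g hg.1)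
    (key _ (mul_mem hg.1 (Subgroup.le_normalizer Z.j_mem_P))))) (le_inf Subgroup.le_normalizer inf_le_left)

theorem card_NP : Nat.card Z.NP = 168 := by
  have := Z.finite
  have ht := Z.V_le_P Z.t_mem_V
  have h1 : (fun g => g * Z.i * g⁻¹) '' (Z.NP : Set G) = (Z.P : Set G) \ {1} := by
    ext v
    constructor
    · rintro ⟨g, hg, rfl⟩
      exact ⟨Z.conj_mem_P hg (Z.V_le_P Z.i_mem_V), by simpa using Z.i_ne_one⟩
    · exact fun h => Z.exists_NP h.1 h.2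
  have hjt : Z.j ≠ Z.t := fun e => Z.j_notMem_D (e ▸ Z.t_mem_D)
  have hj1 : Z.j ≠ 1 := fun e => Z.j_notMem_D (e ▸ one_mem _)
  have h2 : (fun g => g * Z.t * g⁻¹) '' ((Z.NP ⊓ Subgroup.centralizer {Z.i} : Subgroup G) : Set G) =
      {Z.t, Z.j, Z.t * Z.j} := by
    have hu : Z.φ (slU 1) ∈ Z.NP ⊓ Subgroup.centralizer {Z.i} :=
      ⟨Z.φ_U_mem_NP, Subgroup.mem_centralizer_singleton_iff.mpr (Z.φ_comm_i _)⟩
    ext v
    constructor
    · rintro ⟨g, hg, rfl⟩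
      obtain ⟨k, hk, -⟩ := Z.conj_φ_of_mem (Subgroup.mem_centralizer_singleton_iff.mp hg.2) slW
      rw [Z.φ_W] at hk
      have h3 := Z.conj_mem_P hg.1 ht
      have h4 : g * Z.t * g⁻¹ ≠ 1 := by simpa using Z.t_ne_one
      simp only [hk] at h3 h4 ⊢
      rcases Z.mem_P_iff.mp h3 with h | h <;> rcases Z.mem_V.mp h with e | e | e | e
      · exact absurd e h4
      · exact absurd e (Z.φ_ne_i _)
      · exact Or.inl e
      · exact absurd (Z.φ_W ▸ e) (Z.φ_ne_φ_i _ _)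
      · exact Or.inr (Or.inl (by rw [eq_inv_of_mul_eq_one_left e, j_inv]))
      · exact absurd ((map_mul Z.φ _ _).trans e) (Z.φ_ne_i _)
      · exact Or.inr (Or.inr (by rw [eq_mul_inv_of_mul_eq e, j_inv]; rfl))
      · exact absurd (Z.φ_W ▸ (map_mul Z.φ _ _).trans e) (Z.φ_ne_φ_i _ _)
    · rintro (rfl | rfl | rfl)
      · exact ⟨1, one_mem _, by simp⟩
      · exact ⟨_, hu, Z.φ_U_conj.1⟩
      · exact ⟨_, mul_mem hu hu, by rw [← Z.φ_U_conj.2, ← Z.φ_U_conj.1]; group⟩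
  rw [card_eq_conj_mul Z.NP Z.i, h1, card_eq_conj_mul (Z.NP ⊓ _) Z.t, h2, inf_assoc, Z.NP_inf_E, card_P,
    Set.ncard_diff_singleton_of_mem (one_mem Z.P), ← Nat.card_coe_set_eq, SetLike.coe_sort_coe, card_P,
    Set.ncard_insert_of_notMem, Set.ncard_pair]
  · simpa using Z.t_ne_one
  · simp [hjt.symm, hj1]

end Model

end Cfsg.Agent.Ree
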