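import Mathlib
import Cfsg.Agent.Ree.Syl

set_option autoImplicit false
set_option linter.unusedSectionVars false

/-! Element orders in the Borel subgroup, and three-point stabilisers. -/

namespace Cfsg.Agent.Ree

open MulAction Matrix Cfsg.Agent.Chev Cfsg.Agent.RankOne
open scoped MatrixGroups

namespace Model

variable {G Ω F : Type*} [Group G] [MulAction G Ω] [Field F] [Fintype F] {m : ℕ} (Z : Model G Ω F m)

local notation "𝐪" => Fintype.card F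

theorem orderOf_i : orderOf Z.i = 2 := orderOf_eq_prime (by rw [sq, i_mul_i]) Z.i_ne_one

theorem orderOf_M (κ : Fˣ) : orderOf (Z.M κ) = orderOf κ := orderOf_injective _ Z.M_inj κ

theorem orderOf_S_eq_three {x y z : F} : orderOf (Z.S x y z) = 3 ↔ x = 0 ∧ (y, z) ≠ 0 := by
  haveI : Fact (Nat.Prime 3) := ⟨Nat.prime_three⟩
  rw [orderOf_eq_prime_iff, S_pow_three_eq_one, Ne, S_eq_one_iff]
  simp +contextual

theorem orderOf_S_eq_nine {x y z : F} : orderOf (Z.S x y z) = 9 ↔ x ≠ 0 := by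
  haveI : Fact (Nat.Prime 3) := ⟨Nat.prime_three⟩
  refine ⟨fun h h0 => ?_, fun h => orderOf_eq_prime_pow (p := 3) (n := 1)
    (by rwa [pow_one, S_pow_three_eq_one]) (Z.S_pow_nine x y z)⟩
  have := orderOf_dvd_of_pow_eq_one (Z.S_pow_three_eq_one (y := y) (z := z).mpr h0)
  rw [h] at this
  exact absurd this (by norm_num)

theorem ncard_U_three : {g : G | g ∈ Z.U ∧ orderOf g = 3}.ncard = 𝐪 ^ 2 - 1 := by
  have e : {g : G | g ∈ Z.U ∧ orderOf g = 3} = (fun p : F × F => Z.S 0 p.1 p.2) '' {0}ᶜ := by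
    ext g
    constructor
    · rintro ⟨⟨x, y, z, rfl⟩, h⟩
      obtain ⟨rfl, h'⟩ := Z.orderOf_S_eq_three.mp h
      exact ⟨(y, z), h', rfl⟩
    · rintro ⟨p, h, rfl⟩
      exact ⟨Z.S_mem _ _ _, Z.orderOf_S_eq_three.mpr ⟨rfl, h⟩⟩
  rw [e, Set.ncard_image_of_injective _ fun p p' h => Prod.ext (Z.S_inj h).2.1 (Z.S_inj h).2.2,
    Set.ncard_compl, Set.ncard_singleton]
  simp [sq]

theorem ncard_U_nine : {g : G | g ∈ Z.U ∧ orderOf g = 9}.ncard = 𝐪 ^ 2 * (𝐪 - 1) := by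
  have e : {g : G | g ∈ Z.U ∧ orderOf g = 9} =
      (fun p : (F × F) × F => Z.S p.2 p.1.1 p.1.2) '' (Set.univ ×ˢ {0}ᶜ) := by
    ext g
    constructor
    · rintro ⟨⟨x, y, z, rfl⟩, h⟩
      exact ⟨((y, z), x), ⟨trivial, Z.orderOf_S_eq_nine.mp h⟩, rfl⟩
    · rintro ⟨p, h, rfl⟩
      exact ⟨Z.S_mem _ _ _, Z.orderOf_S_eq_nine.mpr h.2⟩
  rw [e, Set.ncard_image_of_injective _ fun p p' h =>
    Prod.ext (Prod.ext (Z.S_inj h).2.1 (Z.S_inj h).2.2) (Z.S_inj h).1, Set.ncard_prod,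
    Set.ncard_compl, Set.ncard_singleton]
  simp [sq]

theorem stab_three_le {c : Ω} (ha : c ≠ Z.a) (hb : c ≠ Z.b) :
    stabilizer G Z.a ⊓ stabilizer G Z.b ⊓ stabilizer G c ≤ Subgroup.zpowers Z.i := by
  rintro g ⟨hg, hc⟩
  obtain ⟨κ, rfl⟩ := Z.mem_H_iff.mpr hg
  by_cases h1 : κ = 1
  · rw [h1, map_one]; exact one_mem _
  by_cases h2 : κ = -1
  · rw [h2]; exact Subgroup.mem_zpowers _
  · exact ((Z.fix_M h1 h2 hc).elim ha hb).elim

include Z in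
theorem card_stab_three_le {x y z : Ω} (h1 : x ≠ y) (h2 : x ≠ z) (h3 : y ≠ z) :
    Nat.card ↥(stabilizer G x ⊓ stabilizer G y ⊓ stabilizer G z) ≤ 2 := by
  have := Z.finite
  obtain ⟨g, rfl, rfl⟩ := Z.exists_pair h1
  rw [← conj_a, ← conj_b] at *
  refine (Subgroup.card_le_of_le ((Z.conj g).stab_three_le h2.symm h3.symm)).trans ?_
  rw [Nat.card_zpowers, orderOf_i]

include Z in
theorem exists_stab_three : ∃ x y z : Ω, x ≠ y ∧ x ≠ z ∧ y ≠ z ∧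
    Nat.card ↥(stabilizer G x ⊓ stabilizer G y ⊓ stabilizer G z) = 2 := by
  have h : Z.S 0 1 0 • Z.b ≠ Z.b := fun h => one_ne_zero (Z.free _ _ _ h).2.1
  refine ⟨Z.a, Z.b, Z.S 0 1 0 • Z.b, Z.ta_ne.symm, (Z.S_b_ne _ _ _).symm, h.symm, ?_⟩
  rw [le_antisymm (Z.stab_three_le (Z.S_b_ne _ _ _) h) (Subgroup.zpowers_le.mpr
    ⟨⟨Z.M_a _, Z.M_b _⟩, Z.fix_i.mpr (Or.inr ⟨1, rfl⟩)⟩), Nat.card_zpowers, orderOf_i]

include Z in
theorem odd_orderOf_iff (κ : Fˣ) : Odd (orderOf κ) ↔ κ ^ (𝐪 / 2) = 1 := by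
  have h := Z.q_mod
  rw [← orderOf_dvd_iff_pow_eq_one]
  refine ⟨fun h1 => ?_, (Nat.odd_iff.mpr (by omega) : Odd (𝐪 / 2)).of_dvd_nat⟩
  have h2 : orderOf κ ∣ 2 * (𝐪 / 2) := by
    rw [show 2 * (𝐪 / 2) = Nat.card Fˣ by rw [Nat.card_units, Nat.card_eq_fintype_card]; omega]
    exact orderOf_dvd_natCard κ
  exact (Nat.coprime_two_right.mpr h1).dvd_of_dvd_mul_left h2

include Z in
theorem ne_neg_one_of_odd {κ : Fˣ} (h : Odd (orderOf κ)) : κ ≠ -1 := by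
  rintro rfl
  rw [← Z.orderOf_M, orderOf_i] at h
  exact absurd h (by decide)

include Z in
theorem neg_one_of_sq {κ : Fˣ} (h1 : κ ≠ 1) (h : κ * κ = 1) : κ = -1 :=
  (units_eq_of_inv (inv_eq_of_mul_eq_one_right h)).resolve_left h1

end Model

end Cfsg.Agent.Ree
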