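import Mathlib
import Cfsg.Agent.Ree.Easy

set_option autoImplicit false
set_option linter.unusedSectionVars false

/-! The six kinds of non-identity elements of a small Ree group, and their numbers. -/

namespace Cfsg.Agent.Ree

open MulAction Matrix Cfsg.Agent.Chev Cfsg.Agent.RankOne
open scoped MatrixGroups

namespace Model

variable {G Ω F : Type*} [Group G] [MulAction G Ω] [Field F] [Fintype F] {m : ℕ} (Z : Model G Ω F m)

local notation "𝐪" => Fintype.card F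
local notation "𝐧" => (Fintype.card F + 1) / 4
local notation "𝐍" => Fintype.card F ^ 2 - Fintype.card F + 1

include Z in
theorem coprime_N : Nat.Coprime 𝐍 (𝐪 ^ 3 * (𝐪 - 1) * (𝐪 + 1)) := by
  obtain ⟨k, hk⟩ := Z.three_dvd_q
  have h := Z.three_le_q
  obtain ⟨v, hv⟩ : ∃ v, 𝐪 = v + 2 := ⟨𝐪 - 2, by omega⟩
  have e : 𝐍 = (v + 2) * (v + 1) + 1 := by rw [sq, ← Nat.mul_sub_one, hv]; rfl
  rw [e, hv]
  refine Nat.Coprime.mul_right (Nat.Coprime.mul_right (Nat.Coprime.pow_right _ (by simp)) (by simp)) ?_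
  rw [show (v + 2) * (v + 1) + 1 = 3 + (v + 2 + 1) * v by ring, Nat.coprime_add_mul_left_left,
    Nat.Prime.coprime_iff_not_dvd Nat.prime_three]
  omega

include Z in
theorem card_G' : Nat.card G = 𝐪 ^ 3 * (𝐪 - 1) * (𝐪 + 1) * 𝐍 := by rw [Z.card_G, Z.cube_add_one]; ring

include Z in
theorem coprime_N_of {k : ℕ} (h : k ∣ 𝐪 ^ 3 * (𝐪 - 1) * (𝐪 + 1)) : Nat.Coprime 𝐍 k :=
  Z.coprime_N.coprime_dvd_right h

include Z in
theorem coprime_three_pred : Nat.Coprime 3 (𝐪 - 1) := by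
  have h1 := Z.three_dvd_q
  have h2 := Z.three_le_q
  rw [Nat.Prime.coprime_iff_not_dvd Nat.prime_three]; omega

include Z in
theorem coprime_three_n : Nat.Coprime 3 𝐧 := by
  have h1 := Z.three_dvd_q
  have h2 := Z.four_n
  rw [Nat.Prime.coprime_iff_not_dvd Nat.prime_three]; omega

include Z in
theorem coprime_n_pred : Nat.Coprime 𝐧 (𝐪 - 1) := Z.coprime_n.coprime_dvd_right (Dvd.intro_left _ rfl)

include Z in
theorem coprime_N_pred : Nat.Coprime 𝐍 (𝐪 - 1) := Z.coprime_N_of ((Dvd.intro_left _ rfl).mul_right _)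

include Z in
theorem coprime_N_succ : Nat.Coprime 𝐍 (𝐪 + 1) := Z.coprime_N_of (Dvd.intro_left _ rfl)

include Z in
theorem coprime_N_two_n : Nat.Coprime 𝐍 (2 * 𝐧) :=
  Z.coprime_N_succ.coprime_dvd_right ⟨2, by have := Z.four_n; omega⟩

include Z in
theorem coprime_N_three : Nat.Coprime 𝐍 3 :=
  Z.coprime_N_of (((dvd_pow Z.three_dvd_q three_ne_zero).mul_right _).mul_right _)

include Z in
theorem coprime_N_two : Nat.Coprime 𝐍 2 := Nat.coprime_two_right.mpr Z.odd_N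

include Z in
theorem exists_fix_of_comm {x y : G} {c : Ω} (h1 : x * x ≠ 1) (hc : x • c = c) (h : y * x = x * y) :
    ∃ d : Ω, y • d = d := by
  obtain ⟨Y, -, h2 | ⟨κ, h2, h3, rfl⟩ | ⟨z, rfl⟩⟩ := Z.fix_cases hc
  · exact ⟨_, Y.mem_B_of_comm h2 (by rintro rfl; simp at h1) h⟩
  · exact ⟨_, Y.H_le_B (Y.centralizer_M h2 h3 ▸ Subgroup.mem_centralizer_singleton_iff.mpr h)⟩
  · refine ⟨_, Y.mem_B_of_comm (Y.S_i_sq z ▸ Y.S_mem _ _ _) h1 ?_⟩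
    rw [← mul_assoc, h, mul_assoc _ y, h, ← mul_assoc]

theorem index_A : Z.A.index = 4 * (𝐪 ^ 3 * (𝐪 - 1) * 𝐍) := by
  have h := Z.A.card_mul_index
  have h1 := Z.four_n
  rw [Z.card_A, Z.card_G'] at h
  refine mul_left_cancel₀ (Z.odd_n.pos.ne') (h.trans ?_)
  generalize 𝐧 = n at *
  rw [← h1]; ring

theorem coprime_index_A : Nat.Coprime 𝐧 Z.A.index := by
  rw [index_A]
  exact Nat.Coprime.mul_right (Nat.Coprime.pow_right 2 (Nat.coprime_two_right.mpr Z.odd_n))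
    (Z.coprime_n.mul_right (Z.coprime_N_two_n.symm.coprime_dvd_left (Dvd.intro_left _ rfl)))

theorem mem_conj_lift {T : Subgroup SL(2, F)} {g x : G} : x ∈ (Z.conj g).lift T ↔ g⁻¹ * x * g ∈ Z.lift T := by
  have key : ∀ s : G, x = g * s * g⁻¹ ↔ g⁻¹ * x * g = s := fun s =>
    ⟨by rintro rfl; group, by rintro rfl; group⟩
  simp only [mem_lift, conj_φ, conj_i, conj_mul, key]

theorem mem_conj_A {g x : G} : x ∈ (Z.conj g).A ↔ g⁻¹ * x * g ∈ Z.A := by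
  have := conj_pow (a := g⁻¹) (b := x) (i := 𝐧)
  have h := conj_eq_one_iff (a := g⁻¹) (b := x ^ 𝐧)
  rw [inv_inv] at this h
  rw [mem_A, mem_A, mem_conj_lift, this, h]

include Z in
theorem exists_A_of_prime {y : G} {p : ℕ} (hp : p.Prime) (h : p ∣ 𝐧) (hy : y ^ p = 1) :
    ∃ Y : Model G Ω F m, y ∈ Y.A := by
  have := Z.finite
  obtain ⟨g, hg⟩ := exists_conj_mem hp (H := Z.A) (k := 1)
    (fun h' => hp.one_lt.ne' (Nat.eq_one_of_dvd_coprimes Z.coprime_index_A h h')) (by rwa [pow_one])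
  exact ⟨Z.conj g⁻¹, Z.mem_conj_A.mpr (by rwa [inv_inv])⟩

include Z in
theorem exists_D_of_prime {g : G} {p : ℕ} (hp : p.Prime) (h : p ∣ 𝐧) (hg : p ∣ orderOf g) :
    ∃ Y : Model G Ω F m, g ∈ Y.D := by
  have := Z.finite
  have h1 := orderOf_pow_orderOf_div (orderOf_pos g).ne' hg
  obtain ⟨Y, hY⟩ := Z.exists_A_of_prime hp h (h1 ▸ pow_orderOf_eq_one _)
  exact ⟨Y, Y.centralizer_A hY (ne_one_of_orderOf hp h1) ▸
    Subgroup.mem_centralizer_singleton_iff.mpr (Commute.self_pow g _)⟩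

theorem pow_of_comm_i {g : G} (h : g * Z.i = Z.i * g) : g ^ (𝐪 ^ 3 * (𝐪 - 1) * (𝐪 + 1)) = 1 := by
  have h1 := pow_card_eq_one_of_mem (Subgroup.mem_centralizer_singleton_iff.mpr h)
  rw [card_centralizer_i, show 𝐪 ^ 2 - 1 = (𝐪 + 1) * (𝐪 - 1) from Nat.sq_sub_sq 𝐪 1] at h1
  rw [show 𝐪 ^ 3 * (𝐪 - 1) * (𝐪 + 1) = 𝐪 * ((𝐪 + 1) * (𝐪 - 1)) * 𝐪 ^ 2 by ring, pow_mul, h1, one_pow]

include Z in
/-- the classification of the elements -/
theorem cases (g : G) : (∃ Y : Model G Ω F m, g ∈ Y.U ∨ g = Y.i ∨ (∃ y, y ≠ 0 ∧ g = Y.S 0 y 0 * Y.i) ∨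
    (∃ κ, κ ≠ 1 ∧ κ ≠ -1 ∧ g = Y.M κ) ∨ (g ∈ Y.D ∧ g * g ≠ 1)) ∨ g ^ 𝐍 = 1 := by
  have := Z.finite
  by_cases hf : ∃ c : Ω, g • c = c
  · obtain ⟨c, hc⟩ := hf
    obtain ⟨Y, -, h | h | ⟨y, rfl⟩⟩ := Z.fix_cases hc
    · exact Or.inl ⟨Y, Or.inl h⟩
    · exact Or.inl ⟨Y, Or.inr (Or.inr (Or.inr (Or.inl h)))⟩
    · by_cases hy : y = 0
      · exact Or.inl ⟨Y, Or.inr (Or.inl (by rw [hy, S_zero, one_mul]))⟩
      · exact Or.inl ⟨Y, Or.inr (Or.inr (Or.inl ⟨y, hy, rfl⟩))⟩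
  have hsq : g * g ≠ 1 := fun h => hf (by
    by_cases h1 : g = 1
    · exact ⟨Z.a, by rw [h1, one_smul]⟩
    · obtain ⟨Y, rfl⟩ := Z.exists_i_eq h1 h
      exact ⟨_, Y.M_a _⟩)
  by_cases hn : ∃ p, p.Prime ∧ p ∣ 𝐧 ∧ p ∣ orderOf g
  · obtain ⟨p, hp, h1, h2⟩ := hn
    obtain ⟨Y, hY⟩ := Z.exists_D_of_prime hp h1 h2
    exact Or.inl ⟨Y, Or.inr (Or.inr (Or.inr (Or.inr ⟨hY, hsq⟩)))⟩
  push Not at hn
  have key : ∀ p, p.Prime → p ≠ 2 → p ∣ orderOf g → p ∣ 𝐍 := fun p hp h2 h => by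
    by_contra h3
    have h1 := orderOf_pow_orderOf_div (orderOf_pos g).ne' h
    obtain ⟨c, hc⟩ := Z.exists_fix_of_prime (k := 1) hp (by rw [pow_one, ← h1, pow_orderOf_eq_one]) (by
      rw [Z.cube_add_one, hp.dvd_mul, ← Z.four_n, hp.dvd_mul]
      rintro ((h4 | h4) | h4)
      · exact h2 ((Nat.prime_dvd_prime_iff_eq hp Nat.prime_two).mp (hp.dvd_of_dvd_pow (n := 2) h4))
      · exact hn p hp h4 h
      · exact h3 h4)
    refine hf (Z.exists_fix_of_comm (fun e => h2 ?_) hc (Commute.self_pow g _))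
    exact (Nat.prime_dvd_prime_iff_eq hp Nat.prime_two).mp (h1 ▸ orderOf_dvd_of_pow_eq_one (by rw [sq, e]))
  right
  have h2 : ¬ 2 ∣ orderOf g := fun h => by
    have h1 := orderOf_pow_orderOf_div (orderOf_pos g).ne' h
    obtain ⟨Y, hY⟩ := Z.exists_i_eq (ne_one_of_orderOf Nat.prime_two h1) (sq (g ^ (orderOf g / 2)) ▸ orderOf_dvd_iff_pow_eq_one.mp h1.dvd)
    have h3 := orderOf_dvd_of_pow_eq_one (Y.pow_of_comm_i (g := g) (hY ▸ Commute.self_pow g _))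
    have h4 := Nat.eq_prime_pow_of_unique_prime_dvd (p := 2) (orderOf_pos g).ne' fun {p} hp h5 => by
      by_contra h6
      exact hp.one_lt.ne' (Nat.eq_one_of_dvd_coprimes Z.coprime_N (key p hp h6 h5) (h5.trans h3))
    exact hsq (sq g ▸ Z.sq_eq_one_of_two_pow (h4 ▸ pow_orderOf_eq_one g))
  have h3 : Nat.Coprime (orderOf g) (𝐪 ^ 3 * (𝐪 - 1) * (𝐪 + 1)) := Nat.coprime_of_dvd fun p hp h4 h5 =>
    hp.one_lt.ne' (Nat.eq_one_of_dvd_coprimes Z.coprime_N (key p hp (by rintro rfl; exact h2 h4) h4) h5)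
  exact orderOf_dvd_iff_pow_eq_one.mp (h3.dvd_of_dvd_mul_left (Z.card_G' ▸ orderOf_dvd_natCard g))

theorem S_i_pow_six (y : F) : (Z.S 0 y 0 * Z.i) ^ 6 = 1 := by
  rw [show 6 = 2 * 3 from rfl, pow_mul, sq, S_i_sq, S_pow_three_eq_one]

theorem orderOf_S_i {y : F} (hy : y ≠ 0) : orderOf (Z.S 0 y 0 * Z.i) = 6 := by
  rw [(Commute.orderOf_mul_eq_mul_orderOf_of_coprime (Z.comm_i_iff.mpr ⟨rfl, rfl⟩).symm)] <;>
    rw [Z.orderOf_S_eq_three.mpr ⟨rfl, by simp [hy]⟩, orderOf_i]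
  norm_num

theorem M_pow (κ : Fˣ) : Z.M κ ^ (𝐪 - 1) = 1 := Z.card_H ▸ pow_card_eq_one_of_mem (Z.M_mem κ)

theorem M_sq_ne {κ : Fˣ} (h1 : κ ≠ 1) (h2 : κ ≠ -1) : Z.M κ * Z.M κ ≠ 1 := fun h =>
  h2 (Z.neg_one_of_sq h1 (Z.M_eq_one_iff.mp (by rw [map_mul, h])))

theorem pow_nine {g : G} (h : g ∈ Z.U) : g ^ 9 = 1 := (Z.mem_U_iff_pow (Z.U_le_B h)).mp h

include Z in
theorem exists_U_of_pow {g : G} (h : g ^ 9 = 1) : ∃ Y : Model G Ω F m, g ∈ Y.U := by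
  obtain ⟨c, hc⟩ := Z.exists_fix_of_prime (k := 2) Nat.prime_three h Z.three_not_dvd
  obtain ⟨k, rfl⟩ := Z.exists_smul c
  exact ⟨Z.conj k, ((Z.conj k).mem_U_iff_pow hc).mpr h⟩

theorem one_of_sq {g : G} {a b : ℕ} (h : Nat.Coprime a b) (ha : g ^ (2 * a) = 1) (hb : g ^ (2 * b) = 1) :
    g * g = 1 := eq_one_of_coprime h (by rw [← sq, ← pow_mul, ha]) (by rw [← sq, ← pow_mul, hb])

theorem pow_two_mul {g : G} {a : ℕ} (h : g ^ a = 1) : g ^ (2 * a) = 1 := by rw [mul_comm, pow_mul, h, one_pow]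

include Z in
theorem exists_M_of_pow {g : G} (h1 : g * g ≠ 1) (h : g ^ (𝐪 - 1) = 1) :
    ∃ (Y : Model G Ω F m) (κ : Fˣ), κ ≠ 1 ∧ κ ≠ -1 ∧ g = Y.M κ := by
  rcases Z.cases g with ⟨Y, e | rfl | ⟨y, -, rfl⟩ | e | e⟩ | e
  · exact absurd (one_of_sq (Z.coprime_three_pred.pow_left 2) (pow_two_mul (Y.pow_nine e)) (pow_two_mul h)) h1
  · exact absurd Y.i_mul_i h1
  · exact absurd (one_of_sq Z.coprime_three_pred (Y.S_i_pow_six y) (pow_two_mul h)) h1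
  · exact ⟨Y, e⟩
  · exact absurd (one_of_sq Z.coprime_n_pred (Y.pow_two_n e.1) (pow_two_mul h)) h1
  · exact absurd (one_of_sq Z.coprime_N_pred (pow_two_mul e) (pow_two_mul h)) h1

include Z in
theorem exists_D_of_pow {g : G} (h1 : g * g ≠ 1) (h : g ^ (2 * 𝐧) = 1) : ∃ Y : Model G Ω F m, g ∈ Y.D := by
  rcases Z.cases g with ⟨Y, e | rfl | ⟨y, -, rfl⟩ | ⟨κ, -, -, rfl⟩ | e⟩ | e
  · exact absurd (one_of_sq (Z.coprime_three_n.pow_left 2) (pow_two_mul (Y.pow_nine e)) h) h1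
  · exact absurd Y.i_mul_i h1
  · exact absurd (one_of_sq Z.coprime_three_n (Y.S_i_pow_six y) h) h1
  · exact absurd (one_of_sq Z.coprime_n_pred h (pow_two_mul (Y.M_pow κ))) h1
  · exact ⟨Y, e.1⟩
  · exact absurd (one_of_sq Z.coprime_N_two_n (pow_two_mul e) (pow_two_mul h)) h1

include Z in
theorem exists_S_i_of_six {g : G} (h : orderOf g = 6) :
    ∃ (Y : Model G Ω F m) (y : F), y ≠ 0 ∧ g = Y.S 0 y 0 * Y.i := by
  have h6 : g ^ (2 * 3) = 1 := orderOf_dvd_iff_pow_eq_one.mp h.dvd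
  have h1 : g * g ≠ 1 := fun e => absurd (h ▸ orderOf_dvd_of_pow_eq_one (sq g ▸ e)) (by norm_num)
  rcases Z.cases g with ⟨Y, e | rfl | e | ⟨κ, -, -, rfl⟩ | e⟩ | e
  · exact absurd (h ▸ orderOf_dvd_of_pow_eq_one (Y.pow_nine e)) (by norm_num)
  · exact absurd Y.i_mul_i h1
  · exact ⟨Y, e⟩
  · exact absurd (one_of_sq Z.coprime_three_pred h6 (pow_two_mul (Y.M_pow κ))) h1
  · exact absurd (one_of_sq Z.coprime_three_n h6 (Y.pow_two_n e.1)) h1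
  · exact absurd (one_of_sq Z.coprime_N_three (pow_two_mul e) h6) h1

include Z in
theorem pow_N_of_comm {z c : G} (h1 : z ≠ 1) (hz : z ^ 𝐍 = 1) (h : z * c = c * z) : c ^ 𝐍 = 1 := by
  by_cases hc : c = 1
  · rw [hc, one_pow]
  refine (Z.cases c).resolve_left ?_
  have key : ∀ Y : Model G Ω F m, z ∉ Y.B := fun Y hY =>
    h1 (eq_one_of_coprime (Z.coprime_N_of (Dvd.intro _ rfl)) hz (Y.pow_of_mem_B hY))
  rintro ⟨Y, e | rfl | ⟨y, hy, rfl⟩ | ⟨κ, h2, h3, rfl⟩ | ⟨e, e'⟩⟩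
  · exact key Y (Y.mem_B_of_comm e hc h)
  · exact h1 (eq_one_of_coprime Z.coprime_N hz (Y.pow_of_comm_i h))
  · refine key Y (Y.mem_B_of_comm (Y.S_mem 0 (-y) 0) (by simp [S_eq_one_iff, hy]) ?_)
    rw [← S_i_sq, ← mul_assoc, h, mul_assoc _ z, h, ← mul_assoc]
  · exact key Y (Y.H_le_B (Y.centralizer_M h2 h3 ▸ Subgroup.mem_centralizer_singleton_iff.mpr h))
  · refine h1 (eq_one_of_coprime Z.coprime_N_two_n hz (Y.pow_two_n ?_))
    rw [← Y.centralizer_A (Y.sq_mem_A e) e', Subgroup.mem_centralizer_singleton_iff, ← mul_assoc, h,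
      mul_assoc, h, mul_assoc]

end Model

end Cfsg.Agent.Ree
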