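import Mathlib
import Cfsg.Agent.Ree.Class

set_option autoImplicit false
set_option linter.unusedSectionVars false

/-! The numbers of elements of given order in a small Ree group. -/

namespace Cfsg.Agent.Ree

open MulAction Matrix Cfsg.Agent.Chev Cfsg.Agent.RankOne
open scoped MatrixGroups

theorem cj_eq {G : Type*} [Group G] {K : Subgroup G} {P : ℕ → Prop}
    (h : ∀ g : G, P (orderOf g) → ∃ x : G, x * g * x⁻¹ ∈ K) :
    {g : G | P (orderOf g)} = cj {g | g ∈ K ∧ P (orderOf g)} := by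
  ext g
  exact ⟨fun hg => (h g hg).imp fun x hx => ⟨hx, by rwa [orderOf_conj]⟩,
    fun ⟨x, hx⟩ => by simpa [orderOf_conj] using hx.2⟩

theorem ncard_order {G : Type*} [Group G] [Finite G] {K N : Subgroup G} {P : ℕ → Prop}
    (h : ∀ g : G, P (orderOf g) → ∃ x : G, x * g * x⁻¹ ∈ K) (hN : ∀ n ∈ N, ∀ x ∈ K, n * x * n⁻¹ ∈ K)
    (hTI : ∀ g x : G, x ∈ K → P (orderOf x) → g * x * g⁻¹ ∈ K → g ∈ N) :
    {g : G | P (orderOf g)}.ncard * Nat.card N = Nat.card G * {g | g ∈ K ∧ P (orderOf g)}.ncard := by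
  rw [cj_eq h]
  exact ncard_cj (fun n hn x hx => ⟨hN n hn x hx.1, by rw [orderOf_conj]; exact hx.2⟩)
    fun g x hx hg => hTI g x hx.1 hx.2 hg.1

theorem ncard_diff_sub {G : Type*} [Group G] [Finite G] {K L : Subgroup G} (h : L ≤ K) :
    {g | g ∈ K ∧ g ∉ L}.ncard = Nat.card K - Nat.card L := by
  rw [show {g | g ∈ K ∧ g ∉ L} = (K : Set G) \ L from rfl, Set.ncard_diff h]
  rfl

namespace Model

variable {G Ω F : Type*} [Group G] [MulAction G Ω] [Field F] [Fintype F] {m : ℕ} (Z : Model G Ω F m)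

local notation "𝐪" => Fintype.card F
local notation "𝐧" => (Fintype.card F + 1) / 4
local notation "𝐍" => Fintype.card F ^ 2 - Fintype.card F + 1

theorem conj_B_of_fix {g : G} {c : Ω} (h : g • c = c) : ∃ x : G, x * g * x⁻¹ ∈ Z.B := by
  obtain ⟨k, rfl⟩ := Z.exists_smul c
  exact ⟨k⁻¹, by rw [mem_stabilizer_iff, inv_inv, mul_smul, mul_smul, h, inv_smul_smul]⟩

theorem conj_H_of {Y : Model G Ω F m} {g : G} (h : g ∈ Y.H) : ∃ x : G, x * g * x⁻¹ ∈ Z.H := by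
  obtain ⟨k, h1, h2⟩ := Z.exists_pair Y.ta_ne.symm
  obtain ⟨h3, h4⟩ := Y.mem_H_iff.mp h
  exact ⟨k⁻¹, Z.mem_H_iff.mpr ⟨by rw [inv_inv, mul_smul, mul_smul, h1, h3, ← h1, inv_smul_smul],
    by rw [inv_inv, mul_smul, mul_smul, h2, h4, b, ← h2, inv_smul_smul]⟩⟩

theorem exists_conj_E (Y : Model G Ω F m) : ∃ x : G, ∀ g ∈ Y.E, x * g * x⁻¹ ∈ Z.E := by
  obtain ⟨k, h1, h2⟩ := Z.pair_conj Y.i_ne_one Y.i_mul_i Y.t_ne_one Y.t_mul_t Y.t_mul_i.symm Y.t_ne_i.symm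
  refine ⟨k⁻¹, fun g hg => ?_⟩
  obtain ⟨h3, h4⟩ := Y.mem_E.mp hg
  have key : ∀ s : G, g * (k * s * k⁻¹) = k * s * k⁻¹ * g → k⁻¹ * g * k⁻¹⁻¹ * s = s * (k⁻¹ * g * k⁻¹⁻¹) :=
    fun s h => by
      calc _ = k⁻¹ * (g * (k * s * k⁻¹)) * k := by group
        _ = _ := by rw [h]; group
  have h5 := key _ (h1 ▸ h3)
  refine Z.mem_E.mpr ⟨h5, h2.elim (fun h => key _ (h ▸ h4)) fun h => ?_⟩
  have h6 := key _ (h ▸ h4)
  rwa [← mul_assoc, mul_assoc Z.t, ← h5, ← mul_assoc, mul_left_inj] at h6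

theorem conj_D_of {Y : Model G Ω F m} {g : G} (h : g ∈ Y.D) (h1 : g * g ≠ 1) : ∃ x : G, x * g * x⁻¹ ∈ Z.D := by
  obtain ⟨x, hx⟩ := Z.exists_conj_E Y
  refine ⟨x, ?_⟩
  by_contra h2
  exact h1 (by simpa using Z.sq_of_notMem_D (hx g (Y.D_le_E h)) h2)

include Z in
theorem ncard_two : {g : G | orderOf g = 2}.ncard = 𝐪 ^ 2 * 𝐍 := by
  have := Z.finite
  have h := card_eq_conj_mul (⊤ : Subgroup G) Z.i
  have e : (fun g => g * Z.i * g⁻¹) '' ((⊤ : Subgroup G) : Set G) = {g : G | orderOf g = 2} := by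
    ext g
    refine ⟨by rintro ⟨k, -, rfl⟩; simp [orderOf_conj, orderOf_i], fun hg => ?_⟩
    obtain ⟨k, hk⟩ := Z.conj_i_of_invol (ne_one_of_orderOf Nat.prime_two hg)
      (sq g ▸ orderOf_dvd_iff_pow_eq_one.mp (Eq.dvd hg))
    exact ⟨k, trivial, hk⟩
  rw [e, top_inf_eq, card_centralizer_i, Subgroup.card_top, Z.card_G',
    show 𝐪 ^ 2 - 1 = (𝐪 + 1) * (𝐪 - 1) from Nat.sq_sub_sq 𝐪 1] at h
  have h3 := Z.three_le_q
  refine mul_right_cancel₀ (b := 𝐪 * ((𝐪 + 1) * (𝐪 - 1))) (by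
    have : 𝐪 - 1 ≠ 0 := by omega
    positivity) (h.symm.trans (by ring))

theorem ncard_three_dvd {d : ℕ} (h : 3 ∣ d) :
    {g : G | orderOf g = d}.ncard = (𝐪 ^ 3 + 1) * {g | g ∈ Z.B ∧ orderOf g = d}.ncard := by
  have := Z.finite
  have key : ∀ g : G, orderOf g = d → g ^ (d / 3) ≠ 1 ∧ (g ^ (d / 3)) ^ 9 = 1 := fun g hg => by
    have h1 := orderOf_pow_orderOf_div (orderOf_pos g).ne' (hg ▸ h)
    rw [hg] at h1
    exact ⟨ne_one_of_orderOf Nat.prime_three h1, orderOf_dvd_iff_pow_eq_one.mp (by rw [h1]; norm_num)⟩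
  have h1 := ncard_order (P := fun o => o = d) (K := Z.B) (N := Z.B) (fun g hg => by
    obtain ⟨Y, hY⟩ := Z.exists_U_of_pow (key g hg).2
    exact Z.conj_B_of_fix (Y.mem_B_of_comm hY (key g hg).1 (Commute.self_pow g _)))
    (fun n hn x hx => mul_mem (mul_mem hn hx) (inv_mem hn)) fun g x hx h2 h3 =>
      Z.mem_B_of_conj ((Z.mem_U_iff_pow (pow_mem hx _)).mpr (key x h2).2) (key x h2).1
        (conj_pow (a := g) ▸ pow_mem h3 _)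
  rw [← Z.B.card_mul_index, index_B] at h1
  exact mul_right_cancel₀ Nat.card_pos.ne' (h1.trans (by ring))

theorem B_order_eq {d : ℕ} (h : d ∣ 9) : {g | g ∈ Z.B ∧ orderOf g = d} = {g | g ∈ Z.U ∧ orderOf g = d} :=
  Set.ext fun _ => ⟨fun hg => ⟨(Z.mem_U_iff_pow hg.1).mpr (orderOf_dvd_iff_pow_eq_one.mp (hg.2 ▸ h)), hg.2⟩,
    fun hg => ⟨Z.U_le_B hg.1, hg.2⟩⟩

include Z in
theorem ncard_three : {g : G | orderOf g = 3}.ncard = (𝐪 ^ 2 - 1) * (𝐪 ^ 3 + 1) := by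
  rw [Z.ncard_three_dvd dvd_rfl, Z.B_order_eq (by norm_num), ncard_U_three, mul_comm]

include Z in
theorem ncard_nine : {g : G | orderOf g = 9}.ncard = 𝐪 ^ 2 * (𝐪 - 1) * (𝐪 ^ 3 + 1) := by
  rw [Z.ncard_three_dvd (by norm_num), Z.B_order_eq dvd_rfl, ncard_U_nine, mul_comm]

theorem orderOf_S_i_eq_six {x y z : F} : orderOf (Z.S x y z * Z.i) = 6 ↔ y - Z.σ x * x ≠ 0 := by
  obtain ⟨v, -, e⟩ := Z.exists_conj_i x y z
  rw [e, orderOf_conj]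
  refine ⟨fun h h0 => ?_, Z.orderOf_S_i⟩
  rw [h0, S_zero, one_mul, orderOf_i] at h
  exact absurd h (by norm_num)

include Z in
theorem ncard_six : {g : G | orderOf g = 6}.ncard = 𝐪 ^ 2 * (𝐪 - 1) * (𝐪 ^ 3 + 1) := by
  have e : {g | g ∈ Z.B ∧ orderOf g = 6} = (fun p : (F × F) × F =>
      Z.S p.1.1 (p.2 + Z.σ p.1.1 * p.1.1) p.1.2 * Z.i) '' (Set.univ ×ˢ {0}ᶜ) := by
    ext g
    constructor
    · rintro ⟨h1, h⟩
      obtain ⟨x, y, z, κ, rfl⟩ := (Z.stab g).mp h1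
      by_cases h2 : κ = 1
      · rw [h2, map_one, mul_one] at h
        exact absurd (h ▸ orderOf_dvd_of_pow_eq_one (Z.S_pow_nine x y z)) (by norm_num)
      by_cases h3 : κ = -1
      · subst h3
        exact ⟨((x, z), y - Z.σ x * x), ⟨trivial, Z.orderOf_S_i_eq_six.mp h⟩, by simp⟩
      · obtain ⟨v, -, e⟩ := Z.exists_conj_M h2 h3 (Z.S_mem x y z)
        rw [e, orderOf_conj] at h
        exact absurd (one_of_sq Z.coprime_three_pred (orderOf_dvd_iff_pow_eq_one.mp h.dvd)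
          (pow_two_mul (Z.M_pow κ))) (Z.M_sq_ne h2 h3)
    · rintro ⟨p, h, rfl⟩
      exact ⟨mul_mem (Z.S_a _ _ _) (Z.M_a _), Z.orderOf_S_i_eq_six.mpr (by simpa using h.2)⟩
  rw [Z.ncard_three_dvd (by norm_num), e, Set.ncard_image_of_injective _ fun p p' h => by
    obtain ⟨h1, h2, h3⟩ := Z.S_inj (mul_right_cancel h)
    exact Prod.ext (Prod.ext h1 h3) (by rwa [h1, add_left_inj] at h2), Set.ncard_prod,
    Set.ncard_compl, Set.ncard_singleton]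
  simp [sq, mul_comm]

/-- the normaliser of the diagonal subgroup -/
def NH : Subgroup G where
  carrier := {g | g ∈ Z.H ∨ ∃ l, g = Z.M l * Z.t}
  one_mem' := Or.inl (one_mem _)
  mul_mem' := by
    rintro _ _ (⟨κ, rfl⟩ | ⟨κ, rfl⟩) (⟨l, rfl⟩ | ⟨l, rfl⟩)
    · exact Or.inl ⟨κ * l, map_mul _ _ _⟩
    · exact Or.inr ⟨κ * l, by rw [map_mul, mul_assoc]⟩
    · exact Or.inr ⟨κ * l⁻¹, by rw [map_mul, mul_assoc, t_mul_M, mul_assoc]⟩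
    · exact Or.inl ⟨κ * l⁻¹, by
        rw [map_mul, mul_assoc, ← mul_assoc Z.t, t_mul_M, mul_assoc, t_mul_t, mul_one]⟩
  inv_mem' := by
    rintro _ (h | ⟨κ, rfl⟩)
    · exact Or.inl (inv_mem h)
    · exact Or.inr ⟨κ, inv_eq_of_mul_eq_one_right (Z.M_t_mul_self κ)⟩

theorem conj_mem_H {g x : G} (hg : g ∈ Z.NH) (hx : x ∈ Z.H) : g * x * g⁻¹ ∈ Z.H := by
  rcases hg with hg | ⟨l, rfl⟩
  · exact mul_mem (mul_mem hg hx) (inv_mem hg)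
  · obtain ⟨κ, rfl⟩ := hx
    exact Z.M_t_conj l κ ▸ Z.M_mem _

theorem card_NH : Nat.card Z.NH = 2 * (𝐪 - 1) := by
  rw [two_mul, ← Nat.card_eq_fintype_card, ← Nat.card_units, ← Nat.card_sum]
  refine (Nat.card_congr (Equiv.ofBijective (Sum.elim (fun κ => (⟨Z.M κ, Or.inl (Z.M_mem κ)⟩ : Z.NH))
    fun κ => ⟨Z.M κ * Z.t, Or.inr ⟨κ, rfl⟩⟩) ⟨?_, ?_⟩)).symm
  · rintro (κ | κ) (l | l) h
    · exact congrArg _ (Z.M_inj (congrArg Subtype.val h))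
    · exact absurd (congrArg Subtype.val h) (Z.M_ne_M_t _ _)
    · exact absurd (congrArg Subtype.val h).symm (Z.M_ne_M_t _ _)
    · exact congrArg _ (Z.M_inj (mul_right_cancel (congrArg Subtype.val h)))
  · rintro ⟨_, ⟨κ, rfl⟩ | ⟨κ, rfl⟩⟩
    exacts [⟨.inl κ, rfl⟩, ⟨.inr κ, rfl⟩]

theorem mem_NH_of_conj {g x : G} (hx : x ∈ Z.H) (h1 : x * x ≠ 1) (h : g * x * g⁻¹ ∈ Z.H) : g ∈ Z.NH := by
  obtain ⟨κ, rfl⟩ := hx
  exact Z.mem_of_conj_M (by rintro rfl; simp at h1) (by rintro rfl; exact h1 Z.i_mul_i) h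

theorem sq_ne_of {g : G} (h : ¬ orderOf g ∣ 2) : g * g ≠ 1 := fun e => h (orderOf_dvd_of_pow_eq_one (sq g ▸ e))

theorem ncard_H {P : ℕ → Prop} (hP : ∀ o, P o → ¬ o ∣ 2 ∧ o ∣ 𝐪 - 1) :
    2 * {g : G | P (orderOf g)}.ncard = {g | g ∈ Z.H ∧ P (orderOf g)}.ncard * 𝐪 ^ 3 * (𝐪 ^ 3 + 1) := by
  have := Z.finite
  have h1 := ncard_order (P := P) (K := Z.H) (N := Z.NH) (fun g hg => by
    obtain ⟨Y, κ, -, -, rfl⟩ := Z.exists_M_of_pow (sq_ne_of (hP _ hg).1)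
      (orderOf_dvd_iff_pow_eq_one.mp (hP _ hg).2)
    exact Z.conj_H_of (Y.M_mem κ)) (fun n hn x hx => Z.conj_mem_H hn hx)
    fun g x hx h2 h3 => Z.mem_NH_of_conj hx (sq_ne_of (hP _ h2).1) h3
  rw [card_NH, Z.card_G] at h1
  have h3 := Z.three_le_q
  exact mul_right_cancel₀ (b := 𝐪 - 1) (by omega) (by linarith)

theorem mem_NV_of_conj_D {g x : G} (hx : x ∈ Z.D) (h1 : x * x ≠ 1) (h : g * x * g⁻¹ ∈ Z.D) : g ∈ Z.NV :=
  Z.mem_NV_of_conj_A (Z.sq_mem_A hx) h1 (by rw [← conj_mul]; exact Z.sq_mem_A h)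

theorem ncard_D {P : ℕ → Prop} (hP : ∀ o, P o → ¬ o ∣ 2 ∧ o ∣ 2 * 𝐧) :
    6 * {g : G | P (orderOf g)}.ncard = {g | g ∈ Z.D ∧ P (orderOf g)}.ncard * 𝐪 ^ 3 * (𝐪 - 1) * 𝐍 := by
  have := Z.finite
  have h1 := ncard_order (P := P) (K := Z.D) (N := Z.NV) (fun g hg => by
    obtain ⟨Y, hY⟩ := Z.exists_D_of_pow (sq_ne_of (hP _ hg).1) (orderOf_dvd_iff_pow_eq_one.mp (hP _ hg).2)
    exact Z.conj_D_of hY (sq_ne_of (hP _ hg).1)) (fun n hn x hx => Z.conj_mem_D hn hx)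
    fun g x hx h2 h3 => Z.mem_NV_of_conj_D hx (sq_ne_of (hP _ h2).1) h3
  rw [card_NV, Z.card_G'] at h1
  exact mul_right_cancel₀ (b := 𝐪 + 1) (by omega) (by linarith)

include Z in
theorem ncard_dvd_pred {d : ℕ} (h2 : 2 < d) (h : d ∣ 𝐪 - 1) :
    2 * {g : G | orderOf g = d}.ncard = Nat.totient d * 𝐪 ^ 3 * (𝐪 ^ 3 + 1) := by
  have := Z.finite
  rw [Z.ncard_H (P := fun o => o = d) (by rintro _ rfl; exact ⟨Nat.not_dvd_of_pos_of_lt two_pos h2, h⟩),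
    ncard_orderOf_cyclic Z.isCyclic_H (Z.card_H ▸ h)]

theorem ncard_D_odd {d : ℕ} (h : d ∣ 𝐧) : {g | g ∈ Z.D ∧ orderOf g = d}.ncard = Nat.totient d := by
  have := Z.finite
  rw [← ncard_orderOf_cyclic Z.isCyclic_A (Z.card_A ▸ h)]
  congr 1
  ext g
  exact ⟨fun hg => ⟨⟨hg.1, orderOf_dvd_iff_pow_eq_one.mp (hg.2 ▸ h)⟩, hg.2⟩, fun hg => ⟨hg.1.1, hg.2⟩⟩

theorem orderOf_A_V {a v : G} (ha : a ∈ Z.A) (hv : v ∈ Z.V) (h1 : v ≠ 1) : orderOf (a * v) = 2 * orderOf a := by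
  have h2 : orderOf v = 2 := orderOf_eq_prime (sq v ▸ hv.2) h1
  rw [Commute.orderOf_mul_eq_mul_orderOf_of_coprime (Z.D_comm ha.1 hv.1)
    (h2 ▸ Nat.coprime_two_right.mpr (Z.odd_of_mem_A ha)), h2, mul_comm]

theorem A_V_inj {a v a' v' : G} (ha : a ∈ Z.A) (hv : v ∈ Z.V) (ha' : a' ∈ Z.A) (hv' : v' ∈ Z.V)
    (h : a * v = a' * v') : a = a' ∧ v = v' := by
  have e : a'⁻¹ * a = v' * v⁻¹ := by rw [inv_mul_eq_iff_eq_mul, ← mul_assoc, ← h, mul_inv_cancel_right]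
  have h1 : a'⁻¹ * a = 1 := by
    by_contra h1
    exact Z.sq_ne_one_of_mem_A (mul_mem (inv_mem ha') ha) h1 (e ▸ (mul_mem hv' (inv_mem hv)).2)
  exact ⟨(inv_mul_eq_one.mp h1).symm, (mul_inv_eq_one.mp (e ▸ h1)).symm⟩

theorem ncard_D_even {d : ℕ} (h : d ∣ 𝐧) : {g | g ∈ Z.D ∧ orderOf g = 2 * d}.ncard = 3 * Nat.totient d := by
  have := Z.finite
  have e : {g | g ∈ Z.D ∧ orderOf g = 2 * d} = (fun p : G × G => p.1 * p.2) ''
      ({g | g ∈ Z.A ∧ orderOf g = d} ×ˢ {g | g ∈ Z.V ∧ g ∉ (⊥ : Subgroup G)}) := by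
    ext g
    constructor
    · rintro ⟨h1, h2⟩
      obtain ⟨a, ha, v, hv, rfl⟩ := Z.exists_A_V h1
      have h3 : v ≠ 1 := by
        rintro rfl
        rw [mul_one] at h2
        exact (Nat.not_even_iff_odd.mpr (Z.odd_of_mem_A ha)) (h2 ▸ even_two_mul d)
      rw [Z.orderOf_A_V ha hv h3] at h2
      exact ⟨(a, v), ⟨⟨ha, by simpa using h2⟩, hv, h3⟩, rfl⟩
    · rintro ⟨⟨a, v⟩, ⟨⟨ha, h1⟩, hv, h2⟩, rfl⟩
      exact ⟨mul_mem ha.1 hv.1, by rw [Z.orderOf_A_V ha hv h2, h1]⟩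
  rw [e, Set.InjOn.ncard_image fun p hp p' hp' h => Prod.ext (Z.A_V_inj hp.1.1 hp.2.1 hp'.1.1 hp'.2.1 h).1
    (Z.A_V_inj hp.1.1 hp.2.1 hp'.1.1 hp'.2.1 h).2, Set.ncard_prod, ncard_diff_sub bot_le, card_V,
    ncard_orderOf_cyclic Z.isCyclic_A (Z.card_A ▸ h), Subgroup.card_bot, mul_comm]

include Z in
theorem ncard_dvd_n {d : ℕ} (h1 : 1 < d) (h : d ∣ 𝐧) :
    6 * {g : G | orderOf g = d}.ncard = Nat.totient d * 𝐪 ^ 3 * (𝐪 - 1) * 𝐍 ∧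
    2 * {g : G | orderOf g = 2 * d}.ncard = Nat.totient d * 𝐪 ^ 3 * (𝐪 - 1) * 𝐍 := by
  constructor
  · rw [Z.ncard_D (P := fun o => o = d) (by
      rintro _ rfl
      refine ⟨fun h2 => ?_, h.mul_left 2⟩
      have := Nat.le_of_dvd two_pos h2
      have := Nat.odd_iff.mp (Z.odd_n.of_dvd_nat h)
      omega), Z.ncard_D_odd h]
  · have := Z.ncard_D (P := fun o => o = 2 * d) (by
      rintro _ rfl
      exact ⟨Nat.not_dvd_of_pos_of_lt two_pos (by omega), Nat.mul_dvd_mul_left 2 h⟩)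
    rw [Z.ncard_D_even h] at this
    linarith

include Z in
theorem ncard_K4 : 2 * {g : G | ¬ orderOf g ∣ 2 ∧ orderOf g ∣ 𝐪 - 1}.ncard = (𝐪 - 3) * 𝐪 ^ 3 * (𝐪 ^ 3 + 1) := by
  have := Z.finite
  have e : {g | g ∈ Z.H ∧ ¬ orderOf g ∣ 2 ∧ orderOf g ∣ 𝐪 - 1} = {g | g ∈ Z.H ∧ g ∉ Subgroup.zpowers Z.i} := by
    ext g
    refine and_congr_right ?_
    rintro ⟨κ, rfl⟩
    rw [and_iff_left (orderOf_dvd_of_pow_eq_one (Z.M_pow κ))]
    refine not_congr ⟨fun h => ?_, fun h => Z.orderOf_i ▸ orderOf_dvd_of_mem_zpowers h⟩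
    by_cases h1 : κ = 1
    · rw [h1, map_one]; exact one_mem _
    · rw [Z.neg_one_of_sq h1 (Z.M_eq_one_iff.mp (by rw [map_mul, ← sq, ← orderOf_dvd_iff_pow_eq_one]; exact h))]
      exact Subgroup.mem_zpowers _
  rw [Z.ncard_H (P := fun o => ¬ o ∣ 2 ∧ o ∣ 𝐪 - 1) fun _ h => h, e,
    ncard_diff_sub (Subgroup.zpowers_le.mpr (Z.M_mem _)), card_H, Nat.card_zpowers, orderOf_i, Nat.sub_sub]

include Z in
theorem ncard_K5 : 6 * {g : G | ¬ orderOf g ∣ 2 ∧ orderOf g ∣ 2 * 𝐧}.ncard = (𝐪 - 3) * 𝐪 ^ 3 * (𝐪 - 1) * 𝐍 := by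
  have := Z.finite
  have e : {g | g ∈ Z.D ∧ ¬ orderOf g ∣ 2 ∧ orderOf g ∣ 2 * 𝐧} = {g | g ∈ Z.D ∧ g ∉ Z.V} := by
    ext g
    refine and_congr_right fun h => ?_
    rw [and_iff_left (orderOf_dvd_of_pow_eq_one (Z.pow_two_n h)), orderOf_dvd_iff_pow_eq_one, sq]
    exact not_congr ⟨fun e => ⟨h, e⟩, fun e => e.2⟩
  rw [Z.ncard_D (P := fun o => ¬ o ∣ 2 ∧ o ∣ 2 * 𝐧) fun _ h => h, e, ncard_diff_sub Z.V_le_D, card_D, card_V]
  rfl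

include Z in
theorem ncard_K6 : 3 * {g : G | g ≠ 1 ∧ g ^ 𝐍 = 1}.ncard = 𝐪 ^ 3 * (𝐪 - 1) * (𝐪 + 1) * (𝐪 * (𝐪 - 2)) := by
  have := Z.finite
  have c1 := Z.coprime_three_pred
  have c2 := Z.coprime_three_n
  have c3 := Z.coprime_n_pred
  have c4 := Z.coprime_N_pred
  have c5 := Z.coprime_N_two_n
  have c6 := Z.coprime_N_three
  have c7 := Z.coprime_N_two
  have hc : ∀ {a b o : ℕ}, Nat.Coprime a b → o ∣ 2 * a → o ∣ 2 * b → o ∣ 2 := fun h h1 h2 => by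
    simpa [Nat.gcd_mul_left, h.gcd_eq_one] using Nat.dvd_gcd h1 h2
  have hd : ∀ {a b o : ℕ}, Nat.Coprime a b → o ∣ a → o ∣ b → o = 1 := fun h h1 h2 =>
    Nat.eq_one_of_dvd_coprimes h h1 h2
  have e : (Set.univ : Set G) = {g | orderOf g = 1} ∪ {g | orderOf g = 2} ∪ {g | orderOf g = 3} ∪
      {g | orderOf g = 6} ∪ {g | orderOf g = 9} ∪ {g : G | ¬ orderOf g ∣ 2 ∧ orderOf g ∣ 𝐪 - 1} ∪
      {g : G | ¬ orderOf g ∣ 2 ∧ orderOf g ∣ 2 * 𝐧} ∪ {g : G | g ≠ 1 ∧ g ^ 𝐍 = 1} := by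
    refine (Set.eq_univ_of_forall fun g => ?_).symm
    simp only [Set.mem_union, Set.mem_setOf_eq]
    rcases Z.cases g with ⟨Y, e | rfl | ⟨y, hy, rfl⟩ | ⟨κ, h1, h2, rfl⟩ | e⟩ | e
    · obtain ⟨k, hk, h⟩ := (Nat.dvd_prime_pow (m := 2) Nat.prime_three).mp (orderOf_dvd_of_pow_eq_one (Y.pow_nine e))
      interval_cases k <;> simp [h]
    · simp [orderOf_i]
    · simp [Y.orderOf_S_i hy]
    · exact Or.inl (Or.inl (Or.inr ⟨fun h => Y.M_sq_ne h1 h2 (sq (Y.M κ) ▸ orderOf_dvd_iff_pow_eq_one.mp h),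
        orderOf_dvd_of_pow_eq_one (Y.M_pow κ)⟩))
    · exact Or.inl (Or.inr ⟨fun h => e.2 (sq g ▸ orderOf_dvd_iff_pow_eq_one.mp h),
        orderOf_dvd_of_pow_eq_one (Y.pow_two_n e.1)⟩)
    · by_cases h : g = 1 <;> simp [h, e]
  have h := congrArg Set.ncard e
  have h3 : ∀ {o k : ℕ}, Nat.Coprime 3 k → (o = 3 ∨ o = 6) ∨ o = 9 → ¬ o ∣ k := fun h1 h2 h4 =>
    absurd (hd h1 dvd_rfl (Dvd.dvd.trans (by rcases h2 with (rfl | rfl) | rfl <;> norm_num) h4)) (by norm_num)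
  rw [Set.ncard_union_eq, Set.ncard_union_eq, Set.ncard_union_eq, Set.ncard_union_eq, Set.ncard_union_eq,
    Set.ncard_union_eq, Set.ncard_union_eq, Set.ncard_univ, Z.ncard_two, Z.ncard_three, Z.ncard_six,
    Z.ncard_nine, Z.card_G'] at h
  · have h1 : {g : G | orderOf g = 1}.ncard = 1 := by simp
    have h4 := Z.ncard_K4
    have h5 := Z.ncard_K5
    have h6 := Z.three_le_q
    have h7 : 𝐪 ≤ 𝐪 ^ 2 := Nat.le_self_pow two_ne_zero _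
    rw [h1] at h
    generalize 𝐪 = q at *
    zify [h6, h7, show 1 ≤ q by omega, show 2 ≤ q by omega, show 1 ≤ q ^ 2 by omega] at h h4 h5 ⊢
    apply mul_left_cancel₀ (two_ne_zero (α := ℤ))
    linear_combination (-6 : ℤ) * h - 3 * h4 - h5
  all_goals
    rw [Set.disjoint_left]
    intro g h1 h2
    simp only [Set.mem_union, Set.mem_setOf_eq, or_assoc] at h1 h2
  · omega
  · omega
  · omega
  · omega
  · rcases h1 with h1 | h1 | h1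
    exacts [h2.1 (by simp [h1]), h2.1 (by simp [h1]), h3 c1 (or_assoc.mpr h1) h2.2]
  · rcases h1 with h1 | h1 | h1 | h1 | h1 | h1
    exacts [h2.1 (by simp [h1]), h2.1 (by simp [h1]), h3 (Nat.Coprime.mul_right (by norm_num) c2) (by simp [h1]) h2.2,
      h3 (Nat.Coprime.mul_right (by norm_num) c2) (by simp [h1]) h2.2,
      h3 (Nat.Coprime.mul_right (by norm_num) c2) (by simp [h1]) h2.2, h2.1 (hc c3 h2.2 (h1.2.mul_left 2))]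
  · rw [← orderOf_dvd_iff_pow_eq_one, Ne, ← orderOf_eq_one_iff] at h2
    rcases h1 with h1 | h1 | h1 | h1 | h1 | h1 | h1
    exacts [h2.1 h1, h2.1 (hd c7 h2.2 h1.dvd), h3 c6.symm (by simp [h1]) h2.2, h3 c6.symm (by simp [h1]) h2.2,
      h3 c6.symm (by simp [h1]) h2.2, h2.1 (hd c4 h2.2 h1.2), h2.1 (hd c5 h2.2 h1.2)]

end Model

end Cfsg.Agent.Ree
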