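import Mathlib

set_option autoImplicit false

/-! Elements of prime order with a six-dimensional irreducible constituent in a seven-dimensional module. -/

namespace Cfsg.Agent.Ree

open Module Polynomial

variable {G F V : Type*} [Group G] [Field F] [Fintype F] [AddCommGroup V] [Module F V] [Module.Finite F V]

theorem card_pow_modEq {T : End F V} {p : ℕ} (hp : p.Prime) (hT : T ^ p = 1) (K : Submodule F V)
    (h1 : ∀ v ∈ K, T v ∈ K) (h2 : ∀ v ∈ K, T v = v → v = 0) : Fintype.card F ^ finrank F K ≡ 1 [MOD p] := by
  classical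
  have := Fact.mk hp
  have := Module.finite_of_finite F (M := K)
  have := Fintype.ofFinite K
  let f : Function.End K := fun v => ⟨T v, h1 v v.2⟩
  have hf : ∀ (n : ℕ) (v : K), (((f ^ n) v : K) : V) = (T ^ n) v := by
    intro n
    induction n with
    | zero => intro v; rfl
    | succ n ih => intro v; rw [pow_succ', pow_succ', End.mul_apply, ← ih]; rfl
  have hf1 : f ^ p ^ 1 = 1 := funext fun v => Subtype.ext (by rw [hf, pow_one, hT]; rfl)
  have h3 := Equiv.Perm.card_fixedPoints_modEq hf1
  have h4 : Fintype.card (Function.fixedPoints f) = 1 := by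
    rw [Fintype.card_eq_one_iff]
    exact ⟨⟨0, Subtype.ext (map_zero T)⟩, fun v =>
      Subtype.ext (Subtype.ext (h2 _ v.1.2 (congrArg Subtype.val v.2)))⟩
  rwa [h4, Module.card_eq_pow_finrank (K := F)] at h3

theorem eq_zero_of_range {T : End F V} {p : ℕ} (hp : (p : F) ≠ 0) (hT : T ^ p = 1) {v : V}
    (h1 : v ∈ LinearMap.range (T - 1)) (h2 : T v = v) : v = 0 := by
  obtain ⟨u, rfl⟩ := h1
  have h3 : ∀ n : ℕ, (T ^ n) ((T - 1) u) = (T - 1) u := fun n => by
    induction n with
    | zero => rfl
    | succ n ih => rw [pow_succ, End.mul_apply, h2, ih]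
  have h4 := congrArg (fun A : End F V => A u) (geom_sum_mul T p)
  simp only [End.mul_apply, LinearMap.sum_apply, h3, hT, sub_self, LinearMap.zero_apply, Finset.sum_const,
    Finset.card_range] at h4
  rw [← Nat.cast_smul_eq_nsmul F] at h4
  exact (smul_eq_zero.mp h4).resolve_left hp

/-- the restriction of the endomorphisms commuting with `T` to the range of `T - 1` -/
def resAlg (T : End F V) : Subalgebra.centralizer F {T} →ₐ[F] End F (LinearMap.range (T - 1)) where
  toFun a := (a : End F V).restrict (by
    rintro _ ⟨v, rfl⟩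
    refine ⟨a.1 v, ?_⟩
    have := congrArg (fun A : End F V => A v) (a.2 T rfl)
    simp only [End.mul_apply] at this
    simp [this])
  map_one' := rfl
  map_mul' _ _ := rfl
  map_zero' := rfl
  map_add' _ _ := rfl
  commutes' _ := rfl

theorem resAlg_apply (T : End F V) (a : Subalgebra.centralizer F {T}) (v : LinearMap.range (T - 1)) :
    (resAlg T a v : V) = a.1 v := rfl

theorem rep7 [Finite G] (π : G →* End F V) (hπ : Function.Injective π) (h7 : finrank F V = 7) {z : G} {p : ℕ}
    (hp : p.Prime) (hz : orderOf z = p) (hpF : (p : F) ≠ 0)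
    (hq : ∀ d, 0 < d → d ≤ 7 → Fintype.card F ^ d ≡ 1 [MOD p] → d = 6)
    (hc : ∀ c, c * z = z * c → Nat.Coprime (orderOf c) (Fintype.card F - 1)) :
    IsCyclic (Subgroup.centralizer {z}) ∧ ∀ s : Finset G,
      (∀ y ∈ s, y * z = z * y ∧ ∃ g, y = g * z * g⁻¹) → s.card ≤ 6 := by
  classical
  have hT : π z ^ p = 1 := by rw [← map_pow, ← hz, pow_orderOf_eq_one, map_one]
  have hz1 : z ≠ 1 := by rintro rfl; rw [orderOf_one] at hz; exact hp.one_lt.ne hz
  set T := π z with hTz
  set W := LinearMap.range (T - 1) with hW
  have hdim : ∀ K : Submodule F V, K ≤ W → (∀ v ∈ K, T v ∈ K) → finrank F K = 0 ∨ finrank F K = 6 :=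
    fun K h1 h2 => or_iff_not_imp_left.mpr fun h0 => hq _ (Nat.pos_of_ne_zero h0) (h7 ▸ K.finrank_le)
      (card_pow_modEq hp hT K h2 fun v hv => eq_zero_of_range hpF hT (h1 hv))
  have hTW : ∀ v ∈ W, T v ∈ W := fun v hv => (resAlg T ⟨T, by rintro _ rfl; rfl⟩ ⟨v, hv⟩).2
  have h6 : finrank F W = 6 := (hdim W le_rfl hTW).resolve_left fun h0 => hz1 (hπ (by
    rw [Submodule.finrank_eq_zero, hW, LinearMap.range_eq_bot, sub_eq_zero] at h0
    rw [map_one, ← h0]))
  have h1 : finrank F (LinearMap.ker (T - 1)) = 1 := by
    have := LinearMap.finrank_range_add_finrank_ker (T - 1)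
    rw [← hW] at this
    omega
  have hsup : W ⊔ LinearMap.ker (T - 1) = ⊤ := Submodule.eq_top_of_disjoint _ _ (by omega)
    (Submodule.disjoint_def.mpr fun v hv hv' => eq_zero_of_range hpF hT hv (by
      simpa [sub_eq_zero] using hv'))
  obtain ⟨⟨v₀, hv₀⟩, hv1, hv2⟩ := finrank_eq_one_iff'.mp h1
  have hv0 : v₀ ≠ 0 := fun h => hv1 (Subtype.ext h)
  have hTv : T v₀ = v₀ := by simpa [sub_eq_zero] using hv₀
  have : Nontrivial W := (Module.finrank_pos_iff (R := F)).mp (by omega)
  have := Module.finite_of_finite F (M := W)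
  have : Finite (End F W) := Finite.of_injective _ DFunLike.coe_injective
  have : NoZeroDivisors (resAlg T).range := ⟨fun {x y} h => or_iff_not_imp_left.mpr fun hx => by
    obtain ⟨_, a, rfl⟩ := x
    have h2 : finrank F ↥(W ⊓ LinearMap.ker a.1) = 0 := by
      refine (hdim _ inf_le_left fun v hv => ⟨hTW v hv.1, ?_⟩).resolve_right fun h3 => hx (Subtype.ext ?_)
      · have := congrArg (fun A : End F V => A v) (a.2 T rfl)
        simp only [End.mul_apply] at this
        rw [SetLike.mem_coe, LinearMap.mem_ker, ← this, LinearMap.mem_ker.mp hv.2, map_zero]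
      · have := Submodule.eq_of_le_of_finrank_eq (inf_le_left : W ⊓ LinearMap.ker a.1 ≤ W) (h3.trans h6.symm)
        ext v
        exact (this.ge v.2).2
    rw [Submodule.finrank_eq_zero] at h2
    ext v
    have h3 := congrArg (fun A : (resAlg T).range => (A.1 v : V)) h
    exact (Submodule.mem_bot F).mp (h2.le ⟨(y.1 v).2, h3⟩)⟩
  have : Nontrivial (End F W) := inferInstance
  have : Nontrivial (resAlg T).range := inferInstance
  have : IsDomain (resAlg T).range := NoZeroDivisors.to_isDomain (resAlg T).range
  letI := (Finite.isDomain_to_isField (resAlg T).range).toField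
  let ι : Subgroup.centralizer {z} →* Subalgebra.centralizer F {T} :=
    { toFun := fun c => ⟨π c, by
        rintro _ rfl
        rw [hTz, ← map_mul, ← map_mul, Subgroup.mem_centralizer_singleton_iff.mp c.2]⟩
      map_one' := Subtype.ext (map_one _)
      map_mul' := fun _ _ => Subtype.ext (map_mul _ _ _) }
  let f : Subgroup.centralizer {z} →* (resAlg T).range := (resAlg T).rangeRestrict.toMonoidHom.comp ι
  have hf : Function.Injective f := by
    rw [injective_iff_map_eq_one]
    intro c h
    have h2 : ∀ v ∈ W, π c v = v := fun v hv => congrArg (fun A : (resAlg T).range => (A.1 ⟨v, hv⟩ : V)) h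
    obtain ⟨l, hl⟩ := hv2 ⟨π c v₀, by
      have := congrArg (fun A : End F V => A v₀) ((ι c).2 T rfl)
      simp only [End.mul_apply, hTv] at this
      rw [LinearMap.mem_ker, LinearMap.sub_apply, End.one_apply, sub_eq_zero]
      exact this⟩
    have hl' : π c v₀ = l • v₀ := (congrArg Subtype.val hl).symm
    have h3 : ∀ n : ℕ, π (c ^ n) v₀ = l ^ n • v₀ := fun n => by
      induction n with
      | zero => simp
      | succ n ih => rw [pow_succ, map_mul, End.mul_apply, hl', map_smul, ih, smul_smul, pow_succ']
    have h4 : l ^ orderOf (c : G) = 1 := by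
      have := h3 (orderOf (c : G))
      rw [pow_orderOf_eq_one, map_one, End.one_apply] at this
      exact smul_left_injective F hv0 (by simpa using this.symm)
    have h5 : l ≠ 0 := by rintro rfl; rw [zero_pow (orderOf_pos _).ne'] at h4; exact zero_ne_one h4
    have h6 : l = 1 := by
      have := pow_gcd_eq_one.mpr ⟨h4, FiniteField.pow_card_sub_one_eq_one l h5⟩
      rwa [hc c (Subgroup.mem_centralizer_singleton_iff.mp c.2), pow_one] at this
    refine Subtype.ext (hπ (LinearMap.ext fun v => ?_))
    obtain ⟨w, hw, u, hu, rfl⟩ := Submodule.mem_sup.mp (hsup.ge Submodule.mem_top : v ∈ _)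
    obtain ⟨k, hk⟩ := hv2 ⟨u, hu⟩
    obtain rfl : k • v₀ = u := congrArg Subtype.val hk
    simp [h2 w hw, hl', h6]
  refine ⟨isCyclic_of_injective_ringHom f hf, fun s hs => ?_⟩
  let P : (resAlg T).range[X] := T.charpoly.map (algebraMap F _)
  have hP0 : P ≠ 0 := (T.charpoly_monic.map _).ne_zero
  have hP : P.natDegree = 7 := by rw [T.charpoly_monic.natDegree_map, T.charpoly_natDegree, h7]
  let e : G → (resAlg T).range := fun y => if h : y ∈ Subgroup.centralizer {z} then f ⟨y, h⟩ else 0
  have hm : ∀ y ∈ insert 1 s, y ∈ Subgroup.centralizer {z} := fun y hy => by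
    rcases Finset.mem_insert.mp hy with rfl | hy
    exacts [one_mem _, Subgroup.mem_centralizer_singleton_iff.mpr (hs y hy).1]
  have h1s : (1 : G) ∉ s := fun h => by
    obtain ⟨g, hg⟩ := (hs 1 h).2
    exact hz1 (conj_eq_one_iff.mp hg.symm)
  have key : (insert 1 s).card ≤ 7 := by
    calc _ ≤ P.roots.toFinset.card := by
          apply Finset.card_le_card_of_injOn e
          · intro y hy
            simp only [Finset.mem_coe, Multiset.mem_toFinset, mem_roots hP0, IsRoot.def, e, dif_pos (hm y hy), P,
              eval_map_algebraMap]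
            rcases Finset.mem_insert.mp hy with rfl | hy'
            · have h2 := End.aeval_apply_of_hasEigenvector (f := T) (p := T.charpoly) (μ := 1) (x := v₀)
                ⟨by rw [End.mem_eigenspace_iff, one_smul, hTv], hv0⟩
              rw [T.aeval_self_charpoly, LinearMap.zero_apply, eq_comm, smul_eq_zero, or_iff_left hv0] at h2
              rw [show f ⟨1, hm 1 hy⟩ = algebraMap F _ 1 by rw [map_one]; exact map_one f,
                aeval_algebraMap_apply_eq_algebraMap_eval, h2, map_zero]
            · obtain ⟨g, rfl⟩ := (hs y hy').2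
              have h2 : aeval (ι ⟨_, hm _ hy⟩) T.charpoly = 0 := by
                apply Subtype.val_injective
                rw [← Subalgebra.coe_val, ← aeval_algHom_apply]
                change aeval (π (g * z * g⁻¹)) T.charpoly = 0
                let u : (End F V)ˣ := π.toHomUnits g
                have : π (g * z * g⁻¹) = MulSemiringAction.toAlgHom F (End F V) (ConjAct.toConjAct u) T := by
                  simp [ConjAct.units_smul_def, u, hTz, ← map_inv]
                rw [this, aeval_algHom_apply, T.aeval_self_charpoly, map_zero]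
              change aeval ((resAlg T).rangeRestrict (ι _)) _ = 0
              rw [aeval_algHom_apply, h2, map_zero]
          · intro y hy w hw h
            simp only [e, dif_pos (hm y hy), dif_pos (hm w hw)] at h
            exact congrArg Subtype.val (hf h)
      _ ≤ Multiset.card P.roots := Multiset.toFinset_card_le _
      _ ≤ P.natDegree := card_roots' _
      _ = 7 := hP
  rw [Finset.card_insert_of_notMem h1s] at key
  omega

end Cfsg.Agent.Ree
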