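import Mathlib
import Cfsg.Agent.Ree.Num
import Cfsg.Agent.Ree.Rep7

set_option autoImplicit false
set_option linter.unusedSectionVars false

/-! The two cyclic tori of orders `q ± √(3q) + 1` of a small Ree group. -/

namespace Cfsg.Agent.Ree

open MulAction Matrix Cfsg.Agent.Chev Cfsg.Agent.RankOne
open scoped MatrixGroups

theorem order_six {q p : ℕ} (hq : 1 ≤ q) (hp : p.Prime) (h : p ∣ q ^ 2 - q + 1) (h2 : p ≠ 2) (h3 : p ≠ 3) :
    orderOf (q : ZMod p) = 6 := by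
  have := Fact.mk hp
  have e : (q : ZMod p) ^ 2 - q + 1 = 0 := by
    have := (ZMod.natCast_eq_zero_iff _ _).mpr h
    rwa [Nat.cast_add, Nat.cast_sub (Nat.le_self_pow two_ne_zero _), Nat.cast_pow, Nat.cast_one] at this
  have key : ∀ r : ℕ, r.Prime → p ≠ r → (r : ZMod p) ≠ 0 := fun r hr h1 h4 =>
    h1 ((Nat.prime_dvd_prime_iff_eq hp hr).mp ((ZMod.natCast_eq_zero_iff _ _).mp h4))
  have a2 : (2 : ZMod p) ≠ 0 := key 2 Nat.prime_two h2
  have a3 : (3 : ZMod p) ≠ 0 := key 3 Nat.prime_three h3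
  generalize (q : ZMod p) = x at e
  refine orderOf_eq_of_pow_and_pow_div_prime (by norm_num) (by linear_combination (x + 1) * (x ^ 3 - 1) * e) ?_
  intro r hr h6
  have : r ≤ 6 := Nat.le_of_dvd (by norm_num) h6
  interval_cases r <;> simp_all (config := {decide := true}) only []
  · exact fun h => a2 (by linear_combination (x + 1) * e - h)
  · exact fun h => a3 (by linear_combination (x + 2) * e - (x + 1) * h)

theorem ρ_inj {G Ω F : Type*} [Group G] [MulAction G Ω] [Field F] [Fintype F] {m : ℕ} (Z : Model G Ω F m)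
    (hm : 1 ≤ m) : Function.Injective Z.ρ := by
  have := Z.simple hm
  rw [← MonoidHom.ker_eq_bot_iff]
  exact (Z.ρ.normal_ker.eq_bot_or_eq_top).resolve_right fun h => Z.ρ_ne (h.ge (Subgroup.mem_top _))

namespace Model

variable {G Ω F : Type*} [Group G] [MulAction G Ω] [Field F] [Fintype F] {m : ℕ} (Z : Model G Ω F m)
  (hm : 1 ≤ m)

local notation "𝐪" => Fintype.card F
local notation "𝐧" => (Fintype.card F + 1) / 4
local notation "𝐍" => Fintype.card F ^ 2 - Fintype.card F + 1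
local notation "k₊" => Fintype.card F + 3 ^ (m + 1) + 1
local notation "k₋" => Fintype.card F - 3 ^ (m + 1) + 1
local notation "𝐂" g => Subgroup.centralizer ({g} : Set G)

include Z in
theorem order_q {p : ℕ} (hp : p.Prime) (h : p ∣ 𝐍) : orderOf (𝐪 : ZMod p) = 6 :=
  order_six (by have := Z.three_le_q; omega) hp h
    (by rintro rfl; exact absurd (Nat.eq_one_of_dvd_coprimes Z.coprime_N_two h dvd_rfl) (by norm_num))
    (by rintro rfl; exact absurd (Nat.eq_one_of_dvd_coprimes Z.coprime_N_three h dvd_rfl) (by norm_num))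

include Z in
theorem seven_le {p : ℕ} (hp : p.Prime) (h : p ∣ 𝐍) : 7 ≤ p := by
  have := Fact.mk hp
  have h1 := Z.order_q hp h
  have h2 := ZMod.orderOf_dvd_card_sub_one (a := (𝐪 : ZMod p)) (fun e => by
    rw [e, orderOf_zero] at h1; exact absurd h1 (by norm_num))
  have := hp.two_le
  have := Nat.le_of_dvd (by omega) (h1 ▸ h2)
  omega

include Z hm in
theorem rep_prime {z : G} {p : ℕ} (hp : p.Prime) (h : p ∣ 𝐍) (hz : orderOf z = p) :
    IsCyclic (𝐂 z) ∧ ∀ s : Finset G, (∀ y ∈ s, y * z = z * y ∧ ∃ g, y = g * z * g⁻¹) → s.card ≤ 6 := by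
  have := Z.finite
  have := Z.charP
  refine rep7 (V := Fin 7 → F) ((Matrix.toLinAlgEquiv' (R := F) (n := Fin 7)).toMonoidHom.comp Z.ρ)
    (Matrix.toLinAlgEquiv'.injective.comp (ρ_inj Z hm)) (by simp) hp hz (fun e => ?_) (fun d h1 h2 h3 => ?_)
    fun c hc => ?_
  · obtain rfl := (Nat.prime_dvd_prime_iff_eq Nat.prime_three hp).mp ((CharP.cast_eq_zero_iff F 3 p).mp e)
    exact absurd (Z.seven_le hp h) (by norm_num)
  · have h4 : 6 ∣ d := Z.order_q hp h ▸ orderOf_dvd_of_pow_eq_one (by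
      exact_mod_cast (ZMod.natCast_eq_natCast_iff _ _ _).mpr h3)
    omega
  · exact Z.coprime_N_pred.coprime_dvd_left (orderOf_dvd_of_pow_eq_one (Z.pow_N_of_comm (ne_one_of_orderOf hp hz)
      (orderOf_dvd_iff_pow_eq_one.mp (hz ▸ h)) hc.symm))

theorem centralizer_le_pow (g : G) (k : ℕ) : (𝐂 g) ≤ 𝐂 (g ^ k) := by
  intro x hx
  rw [Subgroup.mem_centralizer_singleton_iff] at hx ⊢
  exact (Commute.pow_right hx k)

theorem self_mem (g : G) : g ∈ 𝐂 g := Subgroup.mem_centralizer_singleton_iff.mpr rfl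

include Z hm in
theorem isCyclic_torus {g : G} (h1 : g ≠ 1) (hg : g ^ 𝐍 = 1) : IsCyclic (𝐂 g) := by
  have := Z.finite
  obtain ⟨p, k, hp, h2, h3⟩ := exists_prime_pow h1
  have := (Z.rep_prime hm hp (h2.trans (orderOf_dvd_of_pow_eq_one hg)) h3).1
  exact Subgroup.isCyclic_of_le (centralizer_le_pow g k)

include Z in
theorem pow_of_mem_torus {g u : G} (h1 : g ≠ 1) (hg : g ^ 𝐍 = 1) (h : u ∈ 𝐂 g) : u ^ 𝐍 = 1 :=
  Z.pow_N_of_comm h1 hg (Subgroup.mem_centralizer_singleton_iff.mp h).symm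

include Z hm in
theorem torus_eq {g u : G} (h1 : g ≠ 1) (hg : g ^ 𝐍 = 1) (hu : u ≠ 1) (h : u ∈ 𝐂 g) : (𝐂 u) = 𝐂 g := by
  apply le_antisymm <;> intro x hx <;> rw [Subgroup.mem_centralizer_singleton_iff]
  · exact comm_of_cyclic (Z.isCyclic_torus hm hu (Z.pow_of_mem_torus h1 hg h)) hx
      (Subgroup.mem_centralizer_singleton_iff.mpr (Subgroup.mem_centralizer_singleton_iff.mp h).symm)
  · exact comm_of_cyclic (Z.isCyclic_torus hm h1 hg) hx h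

include Z hm in
theorem torus_TI {g : G} (h1 : g ≠ 1) (hg : g ^ 𝐍 = 1) {x u : G} (hu : u ∈ 𝐂 g) (h2 : u ≠ 1)
    (h : x * u * x⁻¹ ∈ 𝐂 g) : x ∈ Subgroup.normalizer ((𝐂 g) : Set G) := by
  have := Z.finite
  refine mem_normalizer_of_conj fun y hy => ?_
  rw [← Z.torus_eq hm h1 hg (by simpa using h2) h]
  exact conj_mem_centralizer (Z.torus_eq hm h1 hg h2 hu ▸ hy)

include Z hm in
theorem exists_w {g : G} (h1 : g ≠ 1) (hg : g ^ 𝐍 = 1) : ∃ w, w ≤ 6 ∧ w ≠ 5 ∧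
    Nat.card (Subgroup.normalizer ((𝐂 g) : Set G)) = w * Nat.card (𝐂 g) := by
  have := Z.finite
  obtain ⟨p, k, hp, h2, h3⟩ := exists_prime_pow h1
  have h4 := ne_one_of_orderOf hp h3
  have e := Z.torus_eq hm h1 hg h4 (pow_mem (self_mem g) k)
  have h5 := card_eq_conj_mul (Subgroup.normalizer ((𝐂 g) : Set G)) (g ^ k)
  rw [e, inf_eq_right.mpr Subgroup.le_normalizer] at h5
  refine ⟨_, ?_, fun h => ?_, h5⟩
  · rw [Set.ncard_eq_toFinset_card _ (Set.toFinite _)]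
    refine (Z.rep_prime hm hp (h2.trans (orderOf_dvd_of_pow_eq_one hg)) h3).2 _ fun y hy => ?_
    obtain ⟨x, hx, rfl⟩ := (Set.Finite.mem_toFinset _).mp hy
    exact ⟨Subgroup.mem_centralizer_singleton_iff.mp
      (e ▸ (Subgroup.mem_normalizer_iff.mp hx _).mp (pow_mem (self_mem g) k)), x, rfl⟩
  · have h6 : 5 ∣ Nat.card G := (Dvd.intro _ (h ▸ h5.symm)).trans (Subgroup.card_subgroup_dvd_card _)
    have h7 : 𝐪 % 5 = 3 ∨ 𝐪 % 5 = 2 := by
      rw [Z.card_F, pow_succ, pow_mul]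
      have : ∀ m : ℕ, (3 ^ 2) ^ m % 5 = 1 ∨ (3 ^ 2) ^ m % 5 = 4 := fun m => by
        induction m with
        | zero => simp
        | succ m ih => rw [pow_succ]; omega
      have := this m
      omega
    rw [Z.card_G, Nat.prime_five.dvd_mul, Nat.prime_five.dvd_mul] at h6
    rcases h6 with (h6 | h6) | h6
    · have := Nat.prime_five.dvd_of_dvd_pow h6; omega
    · omega
    · rw [Nat.dvd_iff_mod_eq_zero, Nat.add_mod, Nat.pow_mod] at h6
      rcases h7 with h7 | h7 <;> simp [h7] at h6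

include Z hm in
theorem torus_hall {g : G} (h1 : g ≠ 1) (hg : g ^ 𝐍 = 1) {p : ℕ} (hp : p.Prime) (h : p ∣ Nat.card (𝐂 g)) :
    ¬ p ∣ (𝐂 g).index := fun h2 => by
  have := Z.finite
  have := Fact.mk hp
  obtain ⟨y, hy⟩ := exists_prime_orderOf_dvd_card' p h
  have hy1 : (y : G) ≠ 1 := ne_one_of_orderOf hp (by rw [Subgroup.orderOf_coe, hy])
  have hP : IsPGroup p (Subgroup.zpowers (y : G)) :=
    IsPGroup.of_card (n := 1) (by rw [Nat.card_zpowers, Subgroup.orderOf_coe, hy, pow_one])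
  obtain ⟨P, hyP⟩ := hP.exists_le_sylow
  have hyP' : (y : G) ∈ (P : Subgroup G) := hyP (Subgroup.mem_zpowers _)
  have : Nontrivial P := ⟨⟨⟨_, hyP'⟩, 1, fun h => hy1 (congrArg Subtype.val h)⟩⟩
  obtain ⟨⟨z, hz⟩, hz1⟩ := Subgroup.ne_bot_iff_exists_ne_one.mp
    ((Subgroup.nontrivial_iff_ne_bot _).mp P.isPGroup'.center_nontrivial)
  have hz1' : (z : G) ≠ 1 := fun h => hz1 (Subtype.ext (Subtype.ext h))
  have hzc : ∀ x ∈ (P : Subgroup G), x * z = z * x := fun x hx =>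
    congrArg Subtype.val (Subgroup.mem_center_iff.mp hz ⟨x, hx⟩)
  have hzg : (z : G) ∈ 𝐂 g :=
    Z.torus_eq hm h1 hg hy1 y.2 ▸ Subgroup.mem_centralizer_singleton_iff.mpr (hzc _ hyP').symm
  have hle : (P : Subgroup G) ≤ 𝐂 g := fun x hx =>
    Z.torus_eq hm h1 hg hz1' hzg ▸ Subgroup.mem_centralizer_singleton_iff.mpr (hzc x hx)
  exact P.not_dvd_index (h2.trans (Subgroup.index_dvd_of_le hle))

include Z hm in
theorem card_torus_dvd {g : G} (h1 : g ≠ 1) (hg : g ^ 𝐍 = 1) : Nat.card (𝐂 g) ∣ 𝐍 := by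
  obtain ⟨u, hu⟩ := (Z.isCyclic_torus hm h1 hg).exists_generator
  rw [← orderOf_eq_card_of_forall_mem_zpowers hu, ← Subgroup.orderOf_coe, orderOf_dvd_iff_pow_eq_one]
  exact Z.pow_of_mem_torus h1 hg u.2

include Z hm in
theorem seven_le_card {g : G} (h1 : g ≠ 1) (hg : g ^ 𝐍 = 1) : 7 ≤ Nat.card (𝐂 g) := by
  have := Z.finite
  obtain ⟨p, k, hp, h2, -⟩ := exists_prime_pow h1
  exact (Z.seven_le hp (h2.trans (orderOf_dvd_of_pow_eq_one hg))).trans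
    (Nat.le_of_dvd Nat.card_pos (h2.trans (Subgroup.orderOf_dvd_natCard _ (self_mem g))))

/-- the non-identity elements conjugate into the centraliser of `g` -/
abbrev cc (g : G) : Set G := cj {x | x ∈ (𝐂 g) ∧ x ∉ (⊥ : Subgroup G)}

theorem mem_cc {g x : G} : x ∈ cc g ↔ x ≠ 1 ∧ ∃ k, k * x * k⁻¹ ∈ 𝐂 g := by
  simp [cc, cj, and_comm]

include Z hm in
theorem ncard_cc {g : G} (h1 : g ≠ 1) (hg : g ^ 𝐍 = 1) :
    (cc g).ncard * Nat.card (Subgroup.normalizer ((𝐂 g) : Set G)) = Nat.card G * (Nat.card (𝐂 g) - 1) := by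
  have := Z.finite
  have := ncard_cj (Y := {x | x ∈ (𝐂 g) ∧ x ∉ (⊥ : Subgroup G)}) (N := Subgroup.normalizer ((𝐂 g) : Set G))
    (fun n hn x hx => ⟨(Subgroup.mem_normalizer_iff.mp hn x).mp hx.1, by simpa using hx.2⟩)
    fun k x hx hk => Z.torus_TI hm h1 hg hx.1 hx.2 hk.1
  rw [this, ncard_diff_sub bot_le, Subgroup.card_bot]

include Z in
theorem cc_subset {g : G} (h1 : g ≠ 1) (hg : g ^ 𝐍 = 1) : cc g ⊆ {g : G | g ≠ 1 ∧ g ^ 𝐍 = 1} := fun x hx => by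
  obtain ⟨h2, k, hk⟩ := mem_cc.mp hx
  exact ⟨h2, by simpa [conj_pow] using Z.pow_of_mem_torus h1 hg hk⟩

include Z hm in
theorem disjoint_cc {g h : G} (h1 : g ≠ 1) (hg : g ^ 𝐍 = 1) (h2 : h ≠ 1) (hn : h ∉ cc g) :
    Disjoint (cc g) (cc h) := by
  rw [Set.disjoint_left]
  intro u hu hu'
  obtain ⟨h3, x, hx⟩ := mem_cc.mp hu
  obtain ⟨-, y, hy⟩ := mem_cc.mp hu'
  refine hn (mem_cc.mpr ⟨h2, x * y⁻¹, ?_⟩)
  rw [← Z.torus_eq hm h1 hg (by simpa using h3) hx]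
  rw [Subgroup.mem_centralizer_singleton_iff] at hy ⊢
  calc _ = x * y⁻¹ * (h * (y * u * y⁻¹)) * (x * y⁻¹)⁻¹ := by group
    _ = _ := by rw [← hy]; group

include Z hm in
theorem card_le_cc {g : G} (h1 : g ≠ 1) (hg : g ^ 𝐍 = 1) {w : ℕ}
    (h : Nat.card (Subgroup.normalizer ((𝐂 g) : Set G)) = w * Nat.card (𝐂 g)) :
    6 * Nat.card G ≤ 7 * w * (cc g).ncard := by
  have h2 := Z.ncard_cc hm h1 hg
  have h3 := Z.seven_le_card hm h1 hg
  rw [h] at h2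
  generalize Nat.card (𝐂 g) = u at *
  obtain ⟨v, rfl⟩ := Nat.exists_eq_add_of_le' (show 1 ≤ u by omega)
  rw [Nat.add_sub_cancel] at h2
  apply Nat.le_of_mul_le_mul_right (c := v + 1) _ (by omega)
  calc _ = Nat.card G * (6 * (v + 1)) := by ring
    _ ≤ Nat.card G * (7 * v) := Nat.mul_le_mul_left _ (by omega)
    _ = _ := by linarith

include Z in
theorem three_mul_lt : 3 * {g : G | g ≠ 1 ∧ g ^ 𝐍 = 1}.ncard < Nat.card G := by
  have h := Z.three_le_q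
  rw [Z.ncard_K6, Z.card_G']
  refine Nat.mul_lt_mul_of_pos_left ?_ (by have : 0 < 𝐪 - 1 := by omega
                                           positivity)
  rw [sq, ← Nat.mul_sub_one]
  exact Nat.lt_succ_of_le (Nat.mul_le_mul_left _ (by omega))

include Z in
theorem exists_of_prime {p : ℕ} (hp : p.Prime) (h : p ∣ 𝐍) : ∃ y : G, orderOf y = p ∧ y ≠ 1 ∧ y ^ 𝐍 = 1 := by
  have := Z.finite
  have := Fact.mk hp
  obtain ⟨y, hy⟩ := exists_prime_orderOf_dvd_card' (G := G) p (Z.card_G' ▸ h.mul_left _)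
  exact ⟨y, hy, ne_one_of_orderOf hp hy, orderOf_dvd_iff_pow_eq_one.mp (hy ▸ h)⟩

theorem orderOf_dvd_of_cc {g x : G} (h : x ∈ cc g) : orderOf x ∣ Nat.card (𝐂 g) := by
  obtain ⟨-, k, hk⟩ := mem_cc.mp h
  exact orderOf_conj k x ▸ Subgroup.orderOf_dvd_natCard _ hk

include Z in
theorem N_dvd (g : G) : 𝐍 ∣ Nat.card (𝐂 g) * (𝐂 g).index := by
  rw [Subgroup.card_mul_index, Z.card_G']; exact Dvd.intro_left _ rfl

include Z in
theorem r_sq : (3 ^ (m + 1)) ^ 2 = 3 * 𝐪 := by rw [Z.card_F]; ring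

include Z hm in
theorem r_lt : 3 ^ (m + 1) < 𝐪 := Z.card_F ▸ Nat.pow_lt_pow_right (by norm_num) (by omega)

include Z hm in
theorem km_mul_kp : k₋ * k₊ = 𝐍 := by
  have h1 := Z.r_sq
  zify [(Z.r_lt hm).le, Nat.le_self_pow two_ne_zero 𝐪] at h1 ⊢
  linear_combination -h1

include Z hm in
theorem exists_tori_aux : ∃ g h : G, (g ≠ 1 ∧ g ^ 𝐍 = 1) ∧ (h ≠ 1 ∧ h ^ 𝐍 = 1) ∧
    Nat.card (𝐂 g) * Nat.card (𝐂 h) = 𝐍 ∧ Nat.card (𝐂 g) + Nat.card (𝐂 h) = 2 * 𝐪 + 2 ∧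
    Nat.card (Subgroup.normalizer ((𝐂 g) : Set G)) = 6 * Nat.card (𝐂 g) ∧
    Nat.card (Subgroup.normalizer ((𝐂 h) : Set G)) = 6 * Nat.card (𝐂 h) ∧
    ∀ x : G, x ≠ 1 → x ^ 𝐍 = 1 → x ∈ cc g ∨ x ∈ cc h := by
  have := Z.finite
  have hq := Z.le_q hm
  have hf := Z.ncard_K6
  have hlt := Z.three_mul_lt
  have hq2 : 𝐪 < 𝐪 ^ 2 := lt_self_pow₀ (by omega) (by norm_num)
  have hR : 0 < 𝐪 ^ 3 * (𝐪 - 1) * (𝐪 + 1) := by have : 0 < 𝐪 - 1 := by omega
                                                positivity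
  obtain ⟨p, hp, hpN⟩ := Nat.exists_prime_and_dvd (n := 𝐍) (by omega)
  obtain ⟨g, -, g1, g2⟩ := Z.exists_of_prime hp hpN
  obtain ⟨w, w1, w2, w3⟩ := Z.exists_w hm g1 g2
  have c1 := Z.ncard_cc hm g1 g2
  obtain ⟨h, ⟨h1, h2⟩, hn⟩ : ∃ h, h ∈ {g : G | g ≠ 1 ∧ g ^ 𝐍 = 1} ∧ h ∉ cc g := by
    by_contra hcon
    push Not at hcon
    have e1 : Nat.card (𝐂 g) = 𝐍 := Nat.dvd_antisymm (Z.card_torus_dvd hm g1 g2)
      (Nat.Coprime.dvd_of_dvd_mul_right (Nat.coprime_of_dvd fun r hr r1 r2 => by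
        obtain ⟨y, y1, y2⟩ := Z.exists_of_prime hr r1
        exact Z.torus_hall hm g1 g2 hr (y1 ▸ orderOf_dvd_of_cc (hcon y y2)) r2) (Z.N_dvd g))
    rw [w3, e1, Set.Subset.antisymm (Z.cc_subset g1 g2) hcon, Z.card_G'] at c1
    generalize {g : G | g ≠ 1 ∧ g ^ 𝐍 = 1}.ncard = f at *
    generalize 𝐪 ^ 3 * (𝐪 - 1) * (𝐪 + 1) = R at *
    have e2 : (𝐪 - 2) * w = 3 * (𝐪 - 1) := by
      apply mul_left_cancel₀ (a := R * 𝐍 * 𝐪) (by positivity)
      rw [Nat.add_sub_cancel, sq, ← Nat.mul_sub_one] at c1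
      rw [sq, ← Nat.mul_sub_one]
      generalize 𝐪 * (𝐪 - 1) + 1 = N at *
      zify at c1 hf ⊢
      linear_combination 3 * c1 - w * N * hf
    interval_cases w <;> omega
  obtain ⟨v, v1, v2, v3⟩ := Z.exists_w hm h1 h2
  have c2 := Z.ncard_cc hm h1 h2
  have d1 := Z.disjoint_cc hm g1 g2 h1 hn
  have l1 := Z.card_le_cc hm g1 g2 w3
  have l2 := Z.card_le_cc hm h1 h2 v3
  have hall : ∀ x : G, x ≠ 1 → x ^ 𝐍 = 1 → x ∈ cc g ∨ x ∈ cc h := fun x x1 x2 => by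
    by_contra hcon
    push Not at hcon
    obtain ⟨u, u1, -, u3⟩ := Z.exists_w hm x1 x2
    have l3 := Z.card_le_cc hm x1 x2 u3
    have := Set.ncard_le_ncard (Set.union_subset (Set.union_subset (Z.cc_subset g1 g2) (Z.cc_subset h1 h2))
      (Z.cc_subset x1 x2))
    rw [Set.ncard_union_eq (Set.disjoint_union_left.mpr ⟨Z.disjoint_cc hm g1 g2 x1 hcon.1,
      Z.disjoint_cc hm h1 h2 x1 hcon.2⟩), Set.ncard_union_eq d1] at this
    nlinarith
  have e : (cc g).ncard + (cc h).ncard = {g : G | g ≠ 1 ∧ g ^ 𝐍 = 1}.ncard := by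
    rw [← Set.ncard_union_eq d1]
    exact congrArg _ (Set.Subset.antisymm (Set.union_subset (Z.cc_subset g1 g2) (Z.cc_subset h1 h2))
      fun x hx => hall x hx.1 hx.2)
  obtain rfl : w = 6 := by
    by_contra hw
    have : w ≤ 4 := by omega
    nlinarith
  obtain rfl : v = 6 := by
    by_contra hw
    have : v ≤ 4 := by omega
    nlinarith
  have e1 : Nat.card (𝐂 g) * Nat.card (𝐂 h) = 𝐍 := by
    refine Nat.dvd_antisymm (Nat.Coprime.mul_dvd_of_dvd_of_dvd (Nat.coprime_of_dvd fun r hr r1 r2 => ?_)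
      (Z.card_torus_dvd hm g1 g2) (Z.card_torus_dvd hm h1 h2)) ?_
    · have := Fact.mk hr
      obtain ⟨y, hy⟩ := exists_prime_orderOf_dvd_card' r r2
      have y1 : (y : G) ≠ 1 := ne_one_of_orderOf hr (by rw [Subgroup.orderOf_coe, hy])
      exact Set.disjoint_left.mp d1 (mem_cc.mpr ⟨y1, exists_conj_mem hr (k := 1) (Z.torus_hall hm g1 g2 hr r1)
        (by rw [pow_one, ← hy, ← Subgroup.orderOf_coe, pow_orderOf_eq_one])⟩) (mem_cc.mpr ⟨y1, 1, by simp⟩)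
    · refine Nat.Coprime.dvd_of_dvd_mul_right (k := 𝐍) (n := Nat.gcd (𝐂 g).index (𝐂 h).index)
        (Nat.coprime_of_dvd fun r hr r1 r2 => ?_) ?_
      · obtain ⟨y, y1, y2, y3⟩ := Z.exists_of_prime hr r1
        rcases hall y y2 y3 with hy | hy
        · exact Z.torus_hall hm g1 g2 hr (y1 ▸ orderOf_dvd_of_cc hy) (r2.trans (Nat.gcd_dvd_left _ _))
        · exact Z.torus_hall hm h1 h2 hr (y1 ▸ orderOf_dvd_of_cc hy) (r2.trans (Nat.gcd_dvd_right _ _))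
      · rw [← Nat.gcd_mul_left]
        refine Nat.dvd_gcd ?_ ?_
        · rw [mul_right_comm]; exact (Z.N_dvd g).mul_right _
        · rw [mul_assoc]; exact (Z.N_dvd h).mul_left _
  refine ⟨g, h, ⟨g1, g2⟩, ⟨h1, h2⟩, e1, ?_, w3, v3, hall⟩
  have a1 := Z.seven_le_card hm g1 g2
  have a2 := Z.seven_le_card hm h1 h2
  rw [w3, Z.card_G', ← e1] at c1
  rw [v3, Z.card_G', ← e1] at c2
  rw [← e] at hf
  generalize Nat.card (𝐂 g) = a at *
  generalize Nat.card (𝐂 h) = b at *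
  generalize 𝐪 ^ 3 * (𝐪 - 1) * (𝐪 + 1) = R at *
  zify [hq2.le, show 1 ≤ a by omega, show 1 ≤ b by omega, show 2 ≤ 𝐪 by omega] at c1 c2 hf e1 hR ⊢
  have b1 : ((cc g).ncard : ℤ) * 6 = R * b * (a - 1) :=
    mul_right_cancel₀ (b := (a : ℤ)) (by omega) (by linear_combination c1)
  have b2 : ((cc h).ncard : ℤ) * 6 = R * a * (b - 1) :=
    mul_right_cancel₀ (b := (b : ℤ)) (by omega) (by linear_combination c2)
  apply mul_left_cancel₀ hR.ne'
  linear_combination b1 + b2 - 2 * hf + 2 * R * e1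

include Z hm in
theorem exists_tori : ∃ g h : G, (g ≠ 1 ∧ g ^ 𝐍 = 1) ∧ (h ≠ 1 ∧ h ^ 𝐍 = 1) ∧
    Nat.card (𝐂 g) = k₋ ∧ Nat.card (𝐂 h) = k₊ ∧
    Nat.card (Subgroup.normalizer ((𝐂 g) : Set G)) = 6 * k₋ ∧
    Nat.card (Subgroup.normalizer ((𝐂 h) : Set G)) = 6 * k₊ ∧
    ∀ x : G, x ≠ 1 → x ^ 𝐍 = 1 → x ∈ cc g ∨ x ∈ cc h := by
  obtain ⟨g, h, g1, h1, e1, e2, e3, e4, e5⟩ := Z.exists_tori_aux hm
  have h2 := Z.r_lt hm
  have h3 : ((Nat.card (𝐂 g) : ℤ) - (k₋ : ℕ)) * (Nat.card (𝐂 g) - (k₊ : ℕ)) = 0 := by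
    rw [← Z.km_mul_kp hm] at e1
    zify [h2.le] at e1 e2 ⊢
    linear_combination (Nat.card (𝐂 g) : ℤ) * e2 - e1
  rcases mul_eq_zero.mp h3 with h4 | h4
  · have a : Nat.card (𝐂 g) = k₋ := by exact_mod_cast sub_eq_zero.mp h4
    have b : Nat.card (𝐂 h) = k₊ := by omega
    exact ⟨g, h, g1, h1, a, b, a ▸ e3, b ▸ e4, e5⟩
  · have a : Nat.card (𝐂 g) = k₊ := by exact_mod_cast sub_eq_zero.mp h4
    have b : Nat.card (𝐂 h) = k₋ := by omega
    exact ⟨h, g, h1, g1, b, a, b ▸ e4, a ▸ e3, fun x x1 x2 => (e5 x x1 x2).symm⟩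

include Z hm in
theorem coprime_k : Nat.Coprime k₋ k₊ := by
  have h := Z.r_lt hm
  have h1 : k₋ ∣ 𝐍 := Dvd.intro _ (Z.km_mul_kp hm)
  rw [show k₊ = k₋ + 2 * 3 ^ (m + 1) by omega, Nat.coprime_self_add_right]
  exact (Z.coprime_N_two.coprime_dvd_left h1).mul_right ((Z.coprime_N_three.coprime_dvd_left h1).pow_right _)

include Z hm in
/-- the torus of order `k`, for `k = q ± √(3q) + 1` -/
theorem exists_torus {k : ℕ} (hk : k = k₋ ∨ k = k₊) : ∃ g : G, g ≠ 1 ∧ g ^ 𝐍 = 1 ∧ Nat.card (𝐂 g) = k ∧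
    Nat.card (Subgroup.normalizer ((𝐂 g) : Set G)) = 6 * k ∧
    ∀ x : G, x ^ k = 1 → ∃ y : G, y * x * y⁻¹ ∈ 𝐂 g := by
  obtain ⟨g, h, g1, h1, e1, e2, e3, e4, e5⟩ := Z.exists_tori hm
  have hc := Z.coprime_k hm
  rcases hk with rfl | rfl
  · refine ⟨g, g1.1, g1.2, e1, e3, fun x hx => ?_⟩
    by_cases x1 : x = 1
    · exact ⟨1, by simp [x1]⟩
    refine (mem_cc.mp ((e5 x x1 (by rw [← Z.km_mul_kp hm, pow_mul, hx, one_pow])).resolve_right fun h => ?_)).2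
    exact x1 (eq_one_of_coprime hc hx (orderOf_dvd_iff_pow_eq_one.mp (e2 ▸ orderOf_dvd_of_cc h)))
  · refine ⟨h, h1.1, h1.2, e2, e4, fun x hx => ?_⟩
    by_cases x1 : x = 1
    · exact ⟨1, by simp [x1]⟩
    refine (mem_cc.mp ((e5 x x1 (by rw [← Z.km_mul_kp hm, mul_comm, pow_mul, hx, one_pow])).resolve_left
      fun h => ?_)).2
    exact x1 (eq_one_of_coprime hc (orderOf_dvd_iff_pow_eq_one.mp (e1 ▸ orderOf_dvd_of_cc h)) hx)

include Z hm in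
theorem pow_k_or {x : G} (hx : x ^ 𝐍 = 1) : x ^ k₋ = 1 ∨ x ^ k₊ = 1 := by
  by_cases x1 : x = 1
  · simp [x1]
  obtain ⟨g, h, -, -, e1, e2, -, -, e5⟩ := Z.exists_tori hm
  exact (e5 x x1 hx).imp (fun h => orderOf_dvd_iff_pow_eq_one.mp (e1 ▸ orderOf_dvd_of_cc h))
    fun h => orderOf_dvd_iff_pow_eq_one.mp (e2 ▸ orderOf_dvd_of_cc h)

include Z hm in
theorem ncard_dvd_k {k l : ℕ} (hk : k = k₋ ∨ k = k₊) (hl : k * l = 𝐍) {d : ℕ} (h1 : 1 < d) (hd : d ∣ k) :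
    6 * {g : G | orderOf g = d}.ncard = Nat.totient d * 𝐪 ^ 3 * (𝐪 ^ 2 - 1) * l := by
  have := Z.finite
  obtain ⟨g, g1, g2, e1, e2, e3⟩ := Z.exists_torus hm hk
  have h2 := ncard_order (P := fun o => o = d) (K := 𝐂 g) (N := Subgroup.normalizer ((𝐂 g) : Set G))
    (fun x hx => e3 x (orderOf_dvd_iff_pow_eq_one.mp (hx ▸ hd)))
    (fun n hn x hx => (Subgroup.mem_normalizer_iff.mp hn x).mp hx)
    fun y x hx h3 h4 => Z.torus_TI hm g1 g2 hx (by rintro rfl; simp at h3; omega) h4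
  rw [e2, ncard_orderOf_cyclic (Z.isCyclic_torus hm g1 g2) (e1 ▸ hd), Z.card_G', ← hl] at h2
  rw [show 𝐪 ^ 2 - 1 = (𝐪 + 1) * (𝐪 - 1) from Nat.sq_sub_sq 𝐪 1]
  exact mul_right_cancel₀ (b := k) (e1 ▸ Nat.card_pos.ne') (by linarith)

end Model

end Cfsg.Agent.Ree
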