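import Mathlib
import Cfsg.Agent.Ree.Tori
import Cfsg.Agent.BG.AmbCent
import Cfsg.Agent.RankOne.SzClass

set_option autoImplicit false
set_option linter.unusedSectionVars false

/-! The four cyclic Hall subgroups of a small Ree group, and its solvable subgroups. -/

namespace Cfsg.Agent.Ree

open MulAction Matrix Cfsg.Agent.Chev Cfsg.Agent.RankOne
open scoped MatrixGroups

/-- a cyclic Hall TI-subgroup of order `k` with normaliser of order `n` -/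
structure IsTor {G : Type*} [Group G] (T : Subgroup G) (k n : ℕ) : Prop where
  cyc : IsCyclic T
  card : Nat.card T = k
  cardN : Nat.card (Subgroup.normalizer (T : Set G)) = n
  TI : ∀ g x : G, x ∈ T → x ≠ 1 → g * x * g⁻¹ ∈ T → g ∈ Subgroup.normalizer (T : Set G)
  conj : ∀ x : G, x ^ k = 1 → ∃ y : G, y * x * y⁻¹ ∈ T
  hall : ∀ p : ℕ, p.Prime → p ∣ k → ¬ p ∣ T.index

section
variable {G : Type*} [Group G] [Finite G]

theorem exists_conj_le {p : ℕ} (hp : p.Prime) {H L : Subgroup G} (hH : ¬ p ∣ H.index) (hL : IsPGroup p L) :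
    ∃ g : G, ∀ x ∈ L, g * x * g⁻¹ ∈ H := by
  have := Fact.mk hp
  obtain ⟨c, hc⟩ := hL.nonempty_fixed_point_of_prime_not_dvd_card (G ⧸ H) hH
  obtain ⟨g, rfl⟩ := QuotientGroup.mk_surjective c
  refine ⟨g⁻¹, fun x hx => ?_⟩
  have h2 : x • (g : G ⧸ H) = g := hc ⟨x, hx⟩
  rw [MulAction.Quotient.smul_coe, eq_comm, QuotientGroup.eq, smul_eq_mul] at h2
  rwa [inv_inv, mul_assoc]

theorem mem_map_conj {H : Subgroup G} {g x : G} : x ∈ H.map (MulAut.conj g).toMonoidHom ↔ g⁻¹ * x * g ∈ H := by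
  rw [Subgroup.mem_map_equiv]; simp

theorem card_map_conj (H : Subgroup G) (g : G) : Nat.card (H.map (MulAut.conj g).toMonoidHom) = Nat.card H :=
  Subgroup.card_map_of_injective (MulAut.conj g).injective

theorem isCyclic_map_conj {H : Subgroup G} (h : IsCyclic H) (g : G) : IsCyclic (H.map (MulAut.conj g).toMonoidHom) :=
  isCyclic_of_surjective _ ((MulAut.conj g).toMonoidHom.subgroupMap_surjective H)

theorem exists_zpowers {A : Subgroup G} (h : IsCyclic A) : ∃ a, A = Subgroup.zpowers a := by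
  obtain ⟨u, hu⟩ := h.exists_generator
  refine ⟨u, le_antisymm (fun x hx => ?_) (Subgroup.zpowers_le.mpr u.2)⟩
  obtain ⟨k, hk⟩ := hu ⟨x, hx⟩
  exact ⟨k, congrArg Subtype.val hk⟩

namespace IsTor
variable {T : Subgroup G} {k n : ℕ} (h : IsTor T k n)
include h

theorem normalizer_sub {A : Subgroup G} (h1 : A ≤ T) (h2 : A ≠ ⊥) :
    Subgroup.normalizer (A : Set G) = Subgroup.normalizer (T : Set G) := by
  refine le_antisymm (fun g hg => ?_) (normalizer_le_of_cyclic h.cyc h1)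
  obtain ⟨⟨x, hx⟩, hx1⟩ := Subgroup.ne_bot_iff_exists_ne_one.mp h2
  exact h.TI g x (h1 hx) (fun e => hx1 (Subtype.ext e)) (h1 ((Subgroup.mem_normalizer_iff.mp hg x).mp hx))

theorem exists_map_le {A : Subgroup G} (hA : IsCyclic A) (hd : Nat.card A ∣ k) :
    ∃ g : G, A.map (MulAut.conj g).toMonoidHom ≤ T := by
  obtain ⟨a, rfl⟩ := exists_zpowers hA
  obtain ⟨y, hy⟩ := h.conj a (orderOf_dvd_iff_pow_eq_one.mp (by rwa [Nat.card_zpowers] at hd))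
  exact ⟨y, by rw [MonoidHom.map_zpowers]; exact Subgroup.zpowers_le.mpr hy⟩

theorem conj_of_card {A B : Subgroup G} (hA : IsCyclic A) (hB : IsCyclic B) (hd : Nat.card A ∣ k)
    (e : Nat.card B = Nat.card A) : ∃ g : G, B = A.map (MulAut.conj g).toMonoidHom := by
  obtain ⟨x, hx⟩ := h.exists_map_le hA hd
  obtain ⟨y, hy⟩ := h.exists_map_le hB (e ▸ hd)
  have := BG.Amb.eq_of_card_eq_of_cyclic h.cyc hx hy (by rw [card_map_conj, card_map_conj, e])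
  refine ⟨y⁻¹ * x, Subgroup.ext fun z => ?_⟩
  have h2 := SetLike.ext_iff.mp this (y * z * y⁻¹)
  rw [mem_map_conj] at h2 ⊢
  rw [mem_map_conj] at h2
  simpa [mul_assoc] using h2.symm

theorem isCyclic_of {p : ℕ} (hp : p.Prime) (hk : p ∣ k) {L : Subgroup G} (hL : IsPGroup p L) : IsCyclic L := by
  obtain ⟨g, hg⟩ := exists_conj_le hp (h.hall p hp hk) hL
  have := isCyclic_map_conj h.cyc g⁻¹
  exact Subgroup.isCyclic_of_le (H' := T.map (MulAut.conj g⁻¹).toMonoidHom) fun x hx =>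
    mem_map_conj.mpr (by simpa using hg x hx)

theorem exists_normalizer_le {p : ℕ} (hp : p.Prime) (hk : p ∣ k) {L : Subgroup G} (hL : IsPGroup p L)
    (h1 : L ≠ ⊥) : ∃ A : Subgroup G, Subgroup.normalizer (L : Set G) ≤ Subgroup.normalizer (A : Set G) ∧
      IsCyclic A ∧ Nat.card A = k := by
  obtain ⟨g, hg⟩ := exists_conj_le hp (h.hall p hp hk) hL
  refine ⟨T.map (MulAut.conj g⁻¹).toMonoidHom, fun y hy => ?_, isCyclic_map_conj h.cyc _,
    (card_map_conj _ _).trans h.card⟩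
  obtain ⟨⟨x, hx⟩, hx1⟩ := Subgroup.ne_bot_iff_exists_ne_one.mp h1
  have h2 := h.TI (g * y * g⁻¹) _ (hg x hx) (fun e => hx1 (Subtype.ext (by simpa using e)))
    (by simpa [mul_assoc] using hg _ ((Subgroup.mem_normalizer_iff.mp hy x).mp hx))
  refine mem_normalizer_of_conj fun z hz => ?_
  rw [mem_map_conj] at hz ⊢
  simpa [mul_assoc] using (Subgroup.mem_normalizer_iff.mp h2 _).mp hz

end IsTor
end

namespace Model

variable {G Ω F : Type*} [Group G] [MulAction G Ω] [Field F] [Fintype F] {m : ℕ} (Z : Model G Ω F m)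
  (hm : 1 ≤ m)

local notation "𝐪" => Fintype.card F
local notation "𝐧" => (Fintype.card F + 1) / 4
local notation "𝐡" => (Fintype.card F - 1) / 2
local notation "𝐍" => Fintype.card F ^ 2 - Fintype.card F + 1
local notation "k₊" => Fintype.card F + 3 ^ (m + 1) + 1
local notation "k₋" => Fintype.card F - 3 ^ (m + 1) + 1

/-- the odd part of the split torus -/
def A1 : Subgroup G := (powMonoidHom 2).range.map Z.M

include Z in
theorem two_h : 2 * 𝐡 = 𝐪 - 1 := by have := Z.q_mod; omega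

include Z in
theorem odd_h : Odd 𝐡 := Nat.odd_iff.mpr (by have := Z.q_mod; omega)

theorem A1_le_H : Z.A1 ≤ Z.H := by rintro _ ⟨κ, -, rfl⟩; exact Z.M_mem κ

theorem card_A1 : Nat.card Z.A1 = 𝐡 := by
  rw [A1, Subgroup.card_map_of_injective Z.M_inj, IsCyclic.card_powMonoidHom_range, Nat.card_units,
    Nat.card_eq_fintype_card, Nat.gcd_eq_right ⟨_, Z.two_h.symm⟩]

theorem isCyclic_A1 : IsCyclic Z.A1 := by
  have := Z.isCyclic_H
  exact Subgroup.isCyclic_of_le Z.A1_le_H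

theorem mem_A1 {g : G} : g ∈ Z.A1 ↔ g ∈ Z.H ∧ g ^ 𝐡 = 1 := by
  have := Z.finite
  refine ⟨fun h => ⟨Z.A1_le_H h, orderOf_dvd_iff_pow_eq_one.mp (Z.card_A1 ▸ Subgroup.orderOf_dvd_natCard _ h)⟩, ?_⟩
  rintro ⟨⟨κ, rfl⟩, h⟩
  obtain ⟨r, hr⟩ := Z.odd_h
  refine ⟨κ, ⟨κ ^ (r + 1), Z.M_inj ?_⟩, rfl⟩
  rw [powMonoidHom_apply, ← pow_mul, show (r + 1) * 2 = 𝐡 + 1 by omega, pow_succ, map_mul, map_pow, h, one_mul]

include Z in
theorem sq_ne_of_h {g : G} (h1 : g ≠ 1) (h : g ^ 𝐡 = 1) : g * g ≠ 1 := fun e =>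
  h1 (eq_one_of_coprime (Nat.coprime_two_right.mpr Z.odd_h) h (by rwa [sq]))

theorem conj_mem_A1 {g x : G} (hx : x ∈ Z.A1) (h : g * x * g⁻¹ ∈ Z.H) : g * x * g⁻¹ ∈ Z.A1 :=
  Z.mem_A1.mpr ⟨h, by rw [conj_pow, (Z.mem_A1.mp hx).2]; simp⟩

theorem NH_le : Z.NH ≤ Subgroup.normalizer (Z.A1 : Set G) := fun g hg => by
  have := Z.finite
  exact mem_normalizer_of_conj fun x hx => Z.conj_mem_A1 hx (Z.conj_mem_H hg (Z.A1_le_H hx))

theorem centralizer_A1 {y : G} (hy : y ∈ Z.A1) (h1 : y ≠ 1) : Subgroup.centralizer {y} = Z.H := by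
  have h2 := Z.sq_ne_of_h h1 (Z.mem_A1.mp hy).2
  obtain ⟨κ, rfl⟩ := Z.A1_le_H hy
  exact Z.centralizer_M (by rintro rfl; simp at h1) (by rintro rfl; exact h2 Z.i_mul_i)

include Z in
theorem coprime_h : Nat.Coprime 𝐡 (2 * (𝐪 ^ 3 * (𝐪 + 1) * 𝐍)) := by
  have h1 := Z.q_mod
  have h2 : 𝐡 ∣ 𝐪 - 1 := Dvd.intro_left _ Z.two_h
  refine (Nat.coprime_two_right.mpr Z.odd_h).mul_right (Nat.Coprime.mul_right (Nat.Coprime.mul_right
    (Nat.Coprime.pow_right _ ?_) ?_) (Z.coprime_N_pred.symm.coprime_dvd_left h2))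
  · rw [show 𝐪 = 1 + 2 * 𝐡 by omega]; simp
  · rw [show 𝐪 + 1 = 2 + 2 * 𝐡 by omega, Nat.coprime_add_mul_right_right]
    exact Nat.coprime_two_right.mpr Z.odd_h

theorem index_A1 : Z.A1.index = 2 * (𝐪 ^ 3 * (𝐪 + 1) * 𝐍) := by
  have h := Z.A1.card_mul_index
  have h1 := Z.q_mod
  rw [Z.card_A1, Z.card_G'] at h
  apply mul_left_cancel₀ (a := 𝐡) (by omega)
  rw [h]
  nth_rewrite 1 [← Z.two_h]
  ring

include hm in
theorem exists_mem_A1 : ∃ y ∈ Z.A1, y ≠ 1 := by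
  have h := Z.le_q hm
  obtain ⟨⟨x, hx⟩, hx1⟩ := (Subgroup.ne_bot_iff_exists_ne_one (H := Z.A1)).mp fun e => by
    have := Z.card_A1; rw [e, Subgroup.card_bot] at this; omega
  exact ⟨x, hx, fun e => hx1 (Subtype.ext e)⟩

include hm in
theorem normalizer_A1 : Subgroup.normalizer (Z.A1 : Set G) = Z.NH := by
  refine le_antisymm (fun g hg => ?_) Z.NH_le
  obtain ⟨x, hx, h1⟩ := Z.exists_mem_A1 hm
  exact Z.mem_NH_of_conj (Z.A1_le_H hx) (Z.sq_ne_of_h h1 (Z.mem_A1.mp hx).2)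
    (Z.A1_le_H ((Subgroup.mem_normalizer_iff.mp hg x).mp hx))

include Z in
theorem exists_A1 {g : G} (h1 : g ≠ 1) (h : g ^ 𝐡 = 1) : ∃ Y : Model G Ω F m, g ∈ Y.A1 := by
  obtain ⟨Y, κ, -, -, rfl⟩ := Z.exists_M_of_pow (Z.sq_ne_of_h h1 h) (by rw [← Z.two_h, mul_comm, pow_mul, h, one_pow])
  exact ⟨Y, Y.mem_A1.mpr ⟨Y.M_mem κ, h⟩⟩

include hm in
theorem isTor_A1 : IsTor Z.A1 𝐡 (2 * (𝐪 - 1)) where
  cyc := Z.isCyclic_A1
  card := Z.card_A1
  cardN := by rw [Z.normalizer_A1 hm, Z.card_NH]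
  TI g x hx h1 h := Z.NH_le (Z.mem_NH_of_conj (Z.A1_le_H hx) (Z.sq_ne_of_h h1 (Z.mem_A1.mp hx).2) (Z.A1_le_H h))
  conj x hx := by
    by_cases h1 : x = 1
    · exact ⟨1, by simp [h1]⟩
    obtain ⟨Y, hY⟩ := Z.exists_A1 h1 hx
    obtain ⟨y, hy⟩ := Z.conj_H_of (Y.A1_le_H hY)
    exact ⟨y, Z.mem_A1.mpr ⟨hy, by rw [conj_pow, hx]; simp⟩⟩
  hall p hp h1 h2 := hp.one_lt.ne' (Nat.eq_one_of_dvd_coprimes Z.coprime_h h1 (Z.index_A1 ▸ h2))

include Z in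
theorem sq_ne_of_n {g : G} (h1 : g ≠ 1) (h : g ^ 𝐧 = 1) : g * g ≠ 1 := fun e =>
  h1 (eq_one_of_coprime (Nat.coprime_two_right.mpr Z.odd_n) h (by rwa [sq]))

include Z in
theorem exists_A {g : G} (h1 : g ≠ 1) (h : g ^ 𝐧 = 1) : ∃ Y : Model G Ω F m, g ∈ Y.A := by
  obtain ⟨Y, hY⟩ := Z.exists_D_of_pow (Z.sq_ne_of_n h1 h) (pow_two_mul h)
  exact ⟨Y, hY, h⟩

include hm in
theorem A_ne_bot : Z.A ≠ ⊥ := fun e => by
  have h := Z.le_q hm
  have := Z.card_A; rw [e, Subgroup.card_bot] at this; omega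

include hm in
theorem normalizer_A : Subgroup.normalizer (Z.A : Set G) = Z.NV := Z.normalizer_le_A le_rfl (Z.A_ne_bot hm)

include hm in
theorem isTor_A : IsTor Z.A 𝐧 (6 * (𝐪 + 1)) where
  cyc := Z.isCyclic_A
  card := Z.card_A
  cardN := by rw [Z.normalizer_A hm, Z.card_NV]
  TI g x hx h1 h := Z.normalizer_A hm ▸ Z.mem_NV_of_conj_A hx h1 h
  conj x hx := by
    by_cases h1 : x = 1
    · exact ⟨1, by simp [h1]⟩
    obtain ⟨Y, hY⟩ := Z.exists_A h1 hx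
    obtain ⟨y, hy⟩ := Z.conj_D_of hY.1 (Z.sq_ne_of_n h1 hx)
    exact ⟨y, hy, by rw [conj_pow, hx]; simp⟩
  hall p hp h1 h2 := hp.one_lt.ne' (Nat.eq_one_of_dvd_coprimes Z.coprime_index_A h1 h2)

include Z hm in
theorem exists_isTor {k : ℕ} (hk : k = k₋ ∨ k = k₊) : ∃ T : Subgroup G, IsTor T k (6 * k) := by
  obtain ⟨g, g1, g2, e1, e2, e3⟩ := Z.exists_torus hm hk
  exact ⟨_, Z.isCyclic_torus hm g1 g2, e1, e2, fun x u hu h1 h => Z.torus_TI hm g1 g2 hu h1 h, e3,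
    fun p hp h => Z.torus_hall hm g1 g2 hp (e1 ▸ h)⟩

include Z hm in
theorem exists_isTor_of_dvd {d : ℕ} (hd : d ∣ 𝐡 ∨ d ∣ 𝐧 ∨ d ∣ k₋ ∨ d ∣ k₊) :
    ∃ (T : Subgroup G) (k n : ℕ), IsTor T k n ∧ d ∣ k ∧ (k = 𝐡 ∨ k = 𝐧 ∨ k = k₋ ∨ k = k₊) := by
  rcases hd with h | h | h | h
  · exact ⟨_, _, _, Z.isTor_A1 hm, h, by simp⟩
  · exact ⟨_, _, _, Z.isTor_A hm, h, by simp⟩
  · obtain ⟨T, hT⟩ := Z.exists_isTor hm (Or.inl rfl); exact ⟨_, _, _, hT, h, by simp⟩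
  · obtain ⟨T, hT⟩ := Z.exists_isTor hm (Or.inr rfl); exact ⟨_, _, _, hT, h, by simp⟩

include Z hm in
theorem dvd_of_prime {p : ℕ} (hp : p.Prime) (h2 : p ≠ 2) (h3 : p ≠ 3) (h : p ∣ Nat.card G) :
    p ∣ 𝐡 ∨ p ∣ 𝐧 ∨ p ∣ k₋ ∨ p ∣ k₊ := by
  have e2 : ¬ p ∣ 2 := fun e => h2 ((Nat.prime_dvd_prime_iff_eq hp Nat.prime_two).mp e)
  rw [Z.card_G', ← Z.km_mul_kp hm, ← Z.four_n, show (4 : ℕ) * 𝐧 = 2 * (2 * 𝐧) by ring] at h
  nth_rewrite 1 [← Z.two_h] at h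
  simp only [hp.dvd_mul, e2, false_or] at h
  rcases h with ((h | h) | h) | h
  · rw [Z.card_F, ← pow_mul] at h
    exact absurd ((Nat.prime_dvd_prime_iff_eq hp Nat.prime_three).mp (hp.dvd_of_dvd_pow h)) h3
  all_goals tauto

include Z hm in
theorem isCyclic_of_isPGroup {p : ℕ} (hp : p.Prime) (h2 : p ≠ 2) (h3 : p ≠ 3) {L : Subgroup G}
    (hL : IsPGroup p L) : IsCyclic L := by
  have := Z.finite
  have := Fact.mk hp
  rcases hL.card_eq_or_dvd with h | h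
  · rw [Subgroup.card_eq_one.mp h]; infer_instance
  obtain ⟨T, k, n, hT, h1, -⟩ := Z.exists_isTor_of_dvd hm
    (Z.dvd_of_prime hm hp h2 h3 (h.trans (Subgroup.card_subgroup_dvd_card L)))
  exact hT.isCyclic_of hp h1 hL

include Z hm in
theorem exists_orderOf_iff (d : ℕ) : (∃ g : G, orderOf g = d) ↔
    (d ∣ 6 ∨ d ∣ 9 ∨ d ∣ 𝐪 - 1 ∨ d ∣ (𝐪 + 1) / 2 ∨ d ∣ k₋ ∨ d ∣ k₊) := by
  have := Z.finite
  have e : (𝐪 + 1) / 2 = 2 * 𝐧 := by have := Z.q_mod; omega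
  rw [e]
  constructor
  · rintro ⟨g, rfl⟩
    simp only [orderOf_dvd_iff_pow_eq_one]
    rcases Z.cases g with ⟨Y, h | rfl | ⟨y, -, rfl⟩ | ⟨κ, -, -, rfl⟩ | ⟨h, -⟩⟩ | h
    · exact Or.inr (Or.inl (Y.pow_nine h))
    · exact Or.inl (by rw [← orderOf_dvd_iff_pow_eq_one, Y.orderOf_i]; norm_num)
    · exact Or.inl (Y.S_i_pow_six y)
    · exact Or.inr (Or.inr (Or.inl (Y.M_pow κ)))
    · exact Or.inr (Or.inr (Or.inr (Or.inl (Y.pow_two_n h))))
    · exact Or.inr (Or.inr (Or.inr (Or.inr (Z.pow_k_or hm h))))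
  · have key : ∀ g : G, d ∣ orderOf g → ∃ g : G, orderOf g = d := fun g hg =>
      ⟨g ^ (orderOf g / d), orderOf_pow_orderOf_div (orderOf_pos g).ne' hg⟩
    have key2 : ∀ T : Subgroup G, IsCyclic T → d ∣ Nat.card T → ∃ g : G, orderOf g = d := fun T hT h => by
      obtain ⟨a, rfl⟩ := exists_zpowers hT
      exact key a (by rwa [Nat.card_zpowers] at h)
    rintro (h | h | h | h | h | h)
    · exact key _ ((Z.orderOf_S_i one_ne_zero).symm ▸ h)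
    · exact key (Z.S 1 0 0) ((Z.orderOf_S_eq_nine.mpr one_ne_zero).symm ▸ h)
    · exact key2 _ Z.isCyclic_H (Z.card_H ▸ h)
    · obtain ⟨a, ha⟩ := exists_zpowers Z.isCyclic_A
      refine key (a * Z.i) ?_
      rwa [Z.orderOf_A_V (ha ▸ Subgroup.mem_zpowers a) Z.i_mem_V Z.i_ne_one, ← Nat.card_zpowers, ← ha, Z.card_A]
    · obtain ⟨T, hT⟩ := Z.exists_isTor hm (Or.inl rfl); exact key2 T hT.cyc (hT.card ▸ h)
    · obtain ⟨T, hT⟩ := Z.exists_isTor hm (Or.inr rfl); exact key2 T hT.cyc (hT.card ▸ h)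

include Z hm in
theorem exists_eq_A1 {L : Subgroup G} (hL : IsCyclic L) (h : Nat.card L = 𝐡) : ∃ Y : Model G Ω F m, L = Y.A1 := by
  have := Z.finite
  have hq := Z.le_q hm
  obtain ⟨a, rfl⟩ := exists_zpowers hL
  obtain ⟨Y, hY⟩ := Z.exists_A1 (g := a) (by rintro rfl; simp at h; omega)
    (by rw [← h, Nat.card_zpowers, pow_orderOf_eq_one])
  exact ⟨Y, Subgroup.eq_of_le_of_card_ge (Subgroup.zpowers_le.mpr hY) (by rw [h, Y.card_A1])⟩

include Z hm in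
theorem exists_eq_A {L : Subgroup G} (hL : IsCyclic L) (h : Nat.card L = 𝐧) : ∃ Y : Model G Ω F m, L = Y.A := by
  have := Z.finite
  have hq := Z.le_q hm
  obtain ⟨a, rfl⟩ := exists_zpowers hL
  obtain ⟨Y, hY⟩ := Z.exists_A (g := a) (by rintro rfl; simp at h; omega)
    (by rw [← h, Nat.card_zpowers, pow_orderOf_eq_one])
  exact ⟨Y, Subgroup.eq_of_le_of_card_ge (Subgroup.zpowers_le.mpr hY) (by rw [h, Y.card_A])⟩

theorem centralizer_le_A1 {L : Subgroup G} (h : L ≤ Z.A1) (h1 : L ≠ ⊥) : Subgroup.centralizer (L : Set G) = Z.H := by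
  obtain ⟨⟨x, hx⟩, hx1⟩ := Subgroup.ne_bot_iff_exists_ne_one.mp h1
  refine le_antisymm (Z.centralizer_A1 (h hx) (fun e => hx1 (Subtype.ext e)) ▸
    Subgroup.centralizer_le (Set.singleton_subset_iff.mpr hx)) fun g hg y hy => ?_
  exact comm_of_cyclic Z.isCyclic_H (Z.A1_le_H (h hy)) hg

theorem centralizer_le_A {L : Subgroup G} (h : L ≤ Z.A) (h1 : L ≠ ⊥) : Subgroup.centralizer (L : Set G) = Z.D := by
  obtain ⟨⟨x, hx⟩, hx1⟩ := Subgroup.ne_bot_iff_exists_ne_one.mp h1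
  refine le_antisymm (Z.centralizer_A (h hx) (fun e => hx1 (Subtype.ext e)) ▸
    Subgroup.centralizer_le (Set.singleton_subset_iff.mpr hx)) fun g hg y hy => ?_
  exact Z.D_comm (Z.A_le_D (h hy)) hg

/-- the local subgroups of the list -/
def Loc (G : Type*) [Group G] (q r : ℕ) (S : Subgroup G) : Prop :=
  ∃ A : Subgroup G, S ≤ Subgroup.normalizer (A : Set G) ∧ ((∃ P : Sylow 2 G, A = P) ∨ (∃ P : Sylow 3 G, A = P) ∨
    (IsCyclic A ∧ (Nat.card A = (q - 1) / 2 ∨ Nat.card A = (q + 1) / 4 ∨ Nat.card A = q - r + 1 ∨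
      Nat.card A = q + r + 1)))

theorem Loc.mono {q r : ℕ} {S T : Subgroup G} (h : Loc G q r T) (hS : S ≤ T) : Loc G q r S := by
  obtain ⟨A, h1, h2⟩ := h
  exact ⟨A, hS.trans h1, h2⟩

include Z hm in
theorem loc_odd {p : ℕ} (hp : p.Prime) (h2 : p ≠ 2) {L : Subgroup G} (hL : IsPGroup p L) (h1 : L ≠ ⊥) :
    Loc G 𝐪 (3 ^ (m + 1)) (Subgroup.normalizer (L : Set G)) := by
  have := Z.finite
  have := Fact.mk hp
  by_cases h3 : p = 3
  · subst h3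
    obtain ⟨P, hP⟩ := hL.exists_le_sylow
    obtain ⟨Y, hY⟩ := Z.exists_sylow_three P
    refine ⟨P, fun g hg => ?_, Or.inr (Or.inl ⟨P, rfl⟩)⟩
    obtain ⟨⟨x, hx⟩, hx1⟩ := Subgroup.ne_bot_iff_exists_ne_one.mp h1
    rw [hY] at hP ⊢
    rw [Y.normalizer_U]
    exact Y.mem_B_of_conj (hP hx) (fun e => hx1 (Subtype.ext e))
      (Y.U_le_B (hP ((Subgroup.mem_normalizer_iff.mp hg x).mp hx)))
  obtain ⟨T, k, n, hT, h4, h5⟩ := Z.exists_isTor_of_dvd hm (Z.dvd_of_prime hm hp h2 h3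
    ((hL.card_eq_or_dvd.resolve_left fun e => h1 (Subgroup.card_eq_one.mp e)).trans
      (Subgroup.card_subgroup_dvd_card L)))
  obtain ⟨A, a1, a2, a3⟩ := hT.exists_normalizer_le hp h4 hL h1
  exact ⟨A, a1, Or.inr (Or.inr ⟨a2, a3 ▸ h5⟩)⟩

include Z hm in
theorem loc_two {L : Subgroup G} (hL : IsPGroup 2 L) {a b : G} (ha : a ∈ L) (hb : b ∈ L) (a1 : a ≠ 1) (b1 : b ≠ 1)
    (hab : a ≠ b) : Loc G 𝐪 (3 ^ (m + 1)) (Subgroup.normalizer (L : Set G)) := by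
  have := Z.finite
  obtain ⟨P, hP⟩ := hL.exists_le_sylow
  obtain ⟨Y, hY⟩ := Z.exists_sylow_two P
  obtain ⟨g, h1, h2⟩ := Z.pair_conj a1 (Y.sq_of_mem_P (hY ▸ hP ha)) b1 (Y.sq_of_mem_P (hY ▸ hP hb))
    (Y.P_comm (hY ▸ hP ha) (hY ▸ hP hb)) hab
  have hi : (Z.conj g).i ∈ L := by rw [conj_i, h1]; exact ha
  have ht : (Z.conj g).t ∈ L := by
    rcases h2 with h2 | h2
    · rw [conj_t', h2]; exact hb
    · refine (mul_mem_cancel_right hi).mp ?_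
      rw [conj_t', conj_i, conj_mul, h2]; exact hb
  generalize Z.conj g = X at hi ht
  have hV : X.V ≤ L := fun x hx => by
    rcases X.mem_V.mp hx with rfl | rfl | rfl | rfl
    exacts [one_mem _, hi, ht, mul_mem ht hi]
  have c1 := Subgroup.card_dvd_of_le hV
  have c2 := Subgroup.card_dvd_of_le hP
  rw [X.card_V] at c1
  rw [hY, Y.card_P] at c2
  have c3 := Nat.le_of_dvd (by norm_num) c2
  by_cases h8 : Nat.card L = 8
  · exact ⟨P, by rw [Subgroup.eq_of_le_of_card_ge hP (by rw [h8, hY, Y.card_P])], Or.inl ⟨P, rfl⟩⟩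
  · have h4 : Nat.card L ≤ 4 := by omega
    rw [← Subgroup.eq_of_le_of_card_ge hV (by rwa [X.card_V])]
    exact ⟨X.A, (X.normalizer_A hm).ge, Or.inr (Or.inr ⟨X.isCyclic_A, Or.inr (Or.inl X.card_A)⟩)⟩

theorem exists_pgroup_normal [Finite G] {S : Subgroup G} (hS : Group.IsSolvable S) (h : S ≠ ⊥) :
    ∃ (p : ℕ) (L : Subgroup G), p.Prime ∧ IsPGroup p L ∧ L ≠ ⊥ ∧ L ≤ S ∧ S ≤ Subgroup.normalizer (L : Set G) := by
  obtain ⟨A, h1, h2, h3, h4⟩ := exists_abelian_normal hS h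
  obtain ⟨⟨x, hx⟩, hx1⟩ := Subgroup.ne_bot_iff_exists_ne_one.mp h1
  obtain ⟨p, k, hp, -, h5⟩ := exists_prime_pow (g := x) fun e => hx1 (Subtype.ext e)
  let L : Subgroup G :=
    { carrier := {y | y ∈ A ∧ y ^ p = 1}
      one_mem' := ⟨one_mem _, one_pow _⟩
      mul_mem' := fun ha hb => ⟨mul_mem ha.1 hb.1, by rw [Commute.mul_pow (h3 _ ha.1 _ hb.1), ha.2, hb.2, one_mul]⟩
      inv_mem' := fun ha => ⟨inv_mem ha.1, by rw [inv_pow, ha.2, inv_one]⟩ }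
  refine ⟨p, L, hp, fun y => ⟨1, Subtype.ext (by simpa using y.2.2)⟩, fun e => ?_, fun y hy => h2 hy.1,
    fun g hg => mem_normalizer_of_conj fun y hy => ⟨h4 g hg y hy.1, by rw [conj_pow, hy.2]; simp⟩⟩
  have : x ^ k ∈ L := ⟨pow_mem hx k, h5 ▸ pow_orderOf_eq_one _⟩
  exact ne_one_of_orderOf hp h5 (by rwa [e] at this)

include Z hm in
theorem loc_of_solvable {S : Subgroup G} (hS : Group.IsSolvable S) : Loc G 𝐪 (3 ^ (m + 1)) S := by
  have := Z.finite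
  have two : ∀ S : Subgroup G, IsPGroup 2 S → Loc G 𝐪 (3 ^ (m + 1)) S := fun S hS => by
    obtain ⟨P, hP⟩ := hS.exists_le_sylow
    exact ⟨P, hP.trans Subgroup.le_normalizer, Or.inl ⟨P, rfl⟩⟩
  by_cases h0 : S = ⊥
  · exact two S (h0 ▸ IsPGroup.of_bot)
  obtain ⟨p, L, hp, hL, h1, h2, h3⟩ := exists_pgroup_normal hS h0
  by_cases hp2 : p ≠ 2
  · exact (Z.loc_odd hm hp hp2 hL h1).mono h3
  obtain rfl := not_not.mp hp2
  obtain ⟨⟨a, ha⟩, a1⟩ := Subgroup.ne_bot_iff_exists_ne_one.mp h1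
  replace a1 : a ≠ 1 := fun e => a1 (Subtype.ext e)
  by_cases hb : ∃ b ∈ L, b ≠ 1 ∧ a ≠ b
  · obtain ⟨b, hb, b1, hab⟩ := hb
    exact (Z.loc_two hm hL ha hb a1 b1 hab).mono h3
  push Not at hb
  obtain ⟨k, hk⟩ := hL ⟨a, ha⟩
  obtain ⟨Y, rfl⟩ := Z.exists_i_eq a1 (by rw [← sq]; exact Z.sq_eq_one_of_two_pow (congrArg Subtype.val hk))
  have hc : ∀ g ∈ S, g * Y.i = Y.i * g := fun g hg => by
    rw [← mul_inv_eq_iff_eq_mul]
    exact (hb _ ((Subgroup.mem_normalizer_iff.mp (h3 hg) _).mp ha) (by simpa using a1)).symm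
  have hd : ∀ g ∈ S, g ∈ S ⊓ Y.φ.range ∨ g * Y.i ∈ S ⊓ Y.φ.range := fun g hg => by
    obtain ⟨h, rfl | rfl⟩ := Y.comm_i_iff_φ.mp (hc g hg)
    · exact Or.inl ⟨hg, h, rfl⟩
    · exact Or.inr ⟨mul_mem hg (h2 ha), h, by rw [mul_assoc, Y.i_mul_i, mul_one]⟩
  have hi : IsPGroup 2 (Subgroup.zpowers Y.i) := hL.to_le (Subgroup.zpowers_le.mpr ha)
  by_cases h4 : S ⊓ Y.φ.range = ⊥
  · refine two S (hi.to_le fun g hg => ?_)
    rcases hd g hg with h | h <;> rw [h4, Subgroup.mem_bot] at h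
    · exact h ▸ one_mem _
    · rw [eq_inv_of_mul_eq_one_left h]; exact inv_mem (Subgroup.mem_zpowers _)
  obtain ⟨r, K, hr, hK, k1, k2, k3⟩ := exists_pgroup_normal (S := S ⊓ Y.φ.range)
    (solvable_of_solvable_injective (Subgroup.inclusion_injective inf_le_left)) h4
  have hiK : Y.i ∈ Subgroup.normalizer (K : Set G) := mem_normalizer_of_conj fun x hx => by
    rwa [← hc x (k2 hx).1, mul_inv_cancel_right]
  have hN : S ≤ Subgroup.normalizer (K : Set G) := fun g hg =>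
    (hd g hg).elim (fun h => k3 h) fun h => (mul_mem_cancel_right hiK).mp (k3 h)
  by_cases hr2 : r ≠ 2
  · exact (Z.loc_odd hm hr hr2 hK k1).mono hN
  obtain rfl := not_not.mp hr2
  have hNi : S ≤ Subgroup.normalizer (Subgroup.zpowers Y.i : Set G) := fun g hg =>
    mem_normalizer_of_conj fun x hx => by
      obtain ⟨k, rfl⟩ := hx
      rw [← conj_zpow, hc g hg, mul_inv_cancel_right]
      exact ⟨k, rfl⟩
  obtain ⟨⟨b, hb'⟩, b1⟩ := Subgroup.ne_bot_iff_exists_ne_one.mp k1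
  refine (Z.loc_two hm (hK.to_sup_of_normal_right' hi (k2.trans (inf_le_left.trans hNi)))
    (Subgroup.mem_sup_right (Subgroup.mem_zpowers _)) (Subgroup.mem_sup_left hb') a1
    (fun e => b1 (Subtype.ext e)) fun e => ?_).mono
    ((le_inf hN hNi).trans (Subgroup.normalizer_inf_normalizer_le_normalizer_sup _ _))
  obtain ⟨h, hh⟩ := (k2 hb').2
  exact Y.φ_ne_i h (hh.trans e.symm)

end Model

end Cfsg.Agent.Ree
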